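import Mathlib
import Cfsg.Agent.Lib.Classical.Herm.Simple
import Cfsg.Agent.Lib.Classical.Herm.Std

/-!
Root elements of the projective special unitary group of an abstract Hermitian space.
-/

set_option autoImplicit false

namespace CfsgLib.AutPSU

open CfsgLib.Classical.Herm CfsgLib.Classical.Herm.HermSpace Module

variable {F V : Type*} [Field F] [AddCommGroup V] [Module F V]

/-- The hypotheses used throughout: dimension at least three and `(dim, q) ≠ (3, 2)`. -/
structure Ctx (H : HermSpace F V) : Prop where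
  big : Big H
  pair : ∃ e f, IsHPair H e f
  perf : Perfectable H
  dim : 4 ≤ finrank F V ∨ (finrank F V = 3 ∧ ∃ k, H.conj k = k ∧ k ≠ 0 ∧ k ≠ 1)

variable (H : HermSpace F V)

/-- The simple group of `H`. -/
abbrev Gq : Type _ := rootGen H ⧸ Subgroup.center (rootGen H)

variable {H}

/-- The class of an element. -/
abbrev cls (g : rootGen H) : Gq H := QuotientGroup.mk g

/-- The action on vectors. -/
abbrev ap (g : rootGen H) (x : V) : V := g.1.1 x

theorem ap_mul (a b : rootGen H) (x : V) : ap (a * b) x = ap a (ap b x) := rfl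

theorem ap_inv (a : rootGen H) (x : V) : ap a⁻¹ (ap a x) = x := inv_apply_self a.1 x

theorem ap_inv' (a : rootGen H) (x : V) : ap a (ap a⁻¹ x) = x := self_apply_inv a.1 x

theorem gen_ext {a b : rootGen H} (h : ∀ x, ap a x = ap b x) : a = b := Subtype.ext (unit_ext h)

theorem ap_h (g : rootGen H) (x y : V) : H.h (ap g x) (ap g y) = H.h x y := unit_h g.1 x y

variable (H)

/-- The root element, total. -/
noncomputable def rt (u w : V) (l : F) : rootGen H :=
  haveI := _root_.Classical.propDecidable (RootCond H u w l)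
  if c : RootCond H u w l then ⟨root H u w l c, root_mem c⟩ else 1

/-- The transvection, total. -/
noncomputable def tr (u : V) (l : F) : rootGen H := rt H u 0 l

variable {H}

theorem rt_coe {u w : V} {l : F} (c : RootCond H u w l) : (rt H u w l).1 = root H u w l c := by
  rw [rt, dif_pos c]

theorem rt_apply {u w : V} {l : F} (c : RootCond H u w l) (x : V) :
    ap (rt H u w l) x = x + H.h x u • w + (-(H.h x w) + l * H.h x u) • u := by
  rw [ap, rt_coe c, root_apply]

theorem tr_cond {u : V} {l : F} (hu : H.h u u = 0) (hl : l + H.conj l = 0) : RootCond H u 0 l :=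
  ⟨hu, H.zero_left u, by rw [H.zero_left]; linear_combination hl⟩

theorem tr_apply {u : V} {l : F} (hu : H.h u u = 0) (hl : l + H.conj l = 0) (x : V) :
    ap (tr H u l) x = x + (l * H.h x u) • u := by
  rw [tr, rt_apply (tr_cond hu hl), H.zero_right]
  module

theorem rt_mul {u w w' : V} {l l' : F} (c : RootCond H u w l) (c' : RootCond H u w' l') :
    rt H u w l * rt H u w' l' = rt H u (w + w') (l + l' - H.h w' w) := by
  refine Subtype.ext ?_
  rw [Subgroup.coe_mul, rt_coe c, rt_coe c', rt_coe (c.add c'), root_mul]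

theorem rt_inv {u w : V} {l : F} (c : RootCond H u w l) :
    (rt H u w l)⁻¹ = rt H u (-w) (H.conj l) := by
  refine Subtype.ext ?_
  rw [Subgroup.coe_inv, rt_coe c, rt_coe c.neg, root_inv]

theorem rootCond_map_iff (g : rootGen H) {u w : V} {l : F} :
    RootCond H (ap g u) (ap g w) l ↔ RootCond H u w l := by
  simp only [RootCond, ap_h]

theorem rt_conj (g : rootGen H) (u w : V) (l : F) :
    g * rt H u w l * g⁻¹ = rt H (ap g u) (ap g w) l := by
  by_cases c : RootCond H u w l
  · refine Subtype.ext ?_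
    rw [Subgroup.coe_mul, Subgroup.coe_mul, Subgroup.coe_inv, rt_coe c, root_conj,
      rt_coe ((rootCond_map_iff g).mpr c)]
  · rw [rt, dif_neg c, rt, dif_neg fun h => c ((rootCond_map_iff g).mp h)]
    group

theorem tr_conj (g : rootGen H) (u : V) (l : F) : g * tr H u l * g⁻¹ = tr H (ap g u) l := by
  rw [tr, tr, rt_conj, show ap g (0 : V) = 0 from map_zero g.1.1]

theorem rt_smul_vec {u w : V} {l a : F} (ha : a ≠ 0) (c : RootCond H (a • u) w l) :
    rt H (a • u) w l = rt H u (H.conj a • w) (a * H.conj a * l) := by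
  refine Subtype.ext ?_
  rw [rt_coe c, rt_coe (c.smul a ha), root_smul a ha]

theorem tr_smul_vec {u : V} {l a : F} (ha : a ≠ 0) (hu : H.h u u = 0) (hl : l + H.conj l = 0) :
    tr H (a • u) l = tr H u (a * H.conj a * l) := by
  rw [tr, rt_smul_vec ha (tr_cond (by rw [H.smul_left, H.smul_right, hu, mul_zero, mul_zero]) hl), smul_zero]
  rfl

theorem tr_mul {u : V} {l l' : F} (hu : H.h u u = 0) (hl : l + H.conj l = 0) (hl' : l' + H.conj l' = 0) :
    tr H u l * tr H u l' = tr H u (l + l') := by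
  rw [tr, tr, rt_mul (tr_cond hu hl) (tr_cond hu hl'), add_zero, H.zero_left, sub_zero]
  rfl

theorem tr_zero {u : V} (hu : H.h u u = 0) : tr H u 0 = 1 :=
  gen_ext fun x => by rw [tr_apply hu (by simp), zero_mul, zero_smul, add_zero]; rfl

theorem skew_add {l l' : F} (hl : l + H.conj l = 0) (hl' : l' + H.conj l' = 0) :
    l + l' + H.conj (l + l') = 0 := by
  rw [map_add]; linear_combination hl + hl'

theorem skew_conj {l : F} (hl : l + H.conj l = 0) : H.conj l + H.conj (H.conj l) = 0 := by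
  rw [H.conj_conj]; linear_combination hl

theorem tr_inv {u : V} {l : F} (hu : H.h u u = 0) (hl : l + H.conj l = 0) : (tr H u l)⁻¹ = tr H u (H.conj l) := by
  rw [tr, rt_inv (tr_cond hu hl), neg_zero]
  rfl

theorem norm_skew {a l : F} (hl : l + H.conj l = 0) :
    a * H.conj a * l + H.conj (a * H.conj a * l) = 0 := by
  rw [map_mul, map_mul, H.conj_conj]; linear_combination a * H.conj a * hl

/-- The class of the transvection. -/
noncomputable abbrev trc (H : HermSpace F V) (u : V) (l : F) : Gq H := cls (tr H u l)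

variable (H) in
/-- The long root group at `u`, in the simple group. -/
noncomputable def TT (u : V) : Subgroup (Gq H) :=
  Subgroup.closure {z | ∃ l, l + H.conj l = 0 ∧ z = trc H u l}

theorem mem_TT {u : V} (hu : H.h u u = 0) {z : Gq H} :
    z ∈ TT H u ↔ ∃ l, l + H.conj l = 0 ∧ z = trc H u l := by
  refine ⟨fun h => ?_, fun h => Subgroup.subset_closure h⟩
  induction h using Subgroup.closure_induction with
  | mem x hx => exact hx
  | one => exact ⟨0, by simp, by rw [trc, tr_zero hu]; rfl⟩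
  | mul x y _ _ hx hy =>
    obtain ⟨l, hl, rfl⟩ := hx
    obtain ⟨l', hl', rfl⟩ := hy
    exact ⟨l + l', skew_add hl hl', by rw [trc, trc, trc, ← tr_mul hu hl hl']; rfl⟩
  | inv x _ hx =>
    obtain ⟨l, hl, rfl⟩ := hx
    exact ⟨H.conj l, skew_conj hl, by rw [trc, trc, ← tr_inv hu hl]; rfl⟩

theorem trc_mem_TT {u : V} {l : F} (hl : l + H.conj l = 0) : trc H u l ∈ TT H u :=
  Subgroup.subset_closure ⟨l, hl, rfl⟩

variable [FiniteDimensional F V]

theorem central_scalar (hc : Ctx H) {g : rootGen H} (hg : g ∈ Subgroup.center (rootGen H)) :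
    ∃ μ : F, μ * H.conj μ = 1 ∧ ∀ x, ap g x = μ • x := by
  obtain ⟨e, f, p⟩ := hc.pair
  exact (mem_center_rootGen_iff_scalar hc.big p g).mp hg

theorem eq_of_cls_eq (hc : Ctx H) {a b : rootGen H} (h : cls a = cls b) {x : V} (hx : x ≠ 0)
    (ha : ap a x = x) (hb : ap b x = x) : a = b := by
  obtain ⟨μ, -, hμ⟩ := central_scalar hc (QuotientGroup.eq.mp h)
  have h1 : ap (a⁻¹ * b) x = x := by rw [ap_mul, hb]; conv_lhs => rw [← ha, ap_inv]
  rw [hμ] at h1
  have hμ1 : μ = 1 := by
    by_contra hne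
    exact smul_ne_zero (sub_ne_zero.mpr hne) hx (by rw [sub_smul, one_smul, h1, sub_self])
  refine gen_ext fun y => ?_
  have h2 := hμ y
  rw [hμ1, one_smul, ap_mul] at h2
  conv_lhs => rw [← h2, ap_inv']

theorem fix_of_orth {u x : V} {l : F} (hu : H.h u u = 0) (hl : l + H.conj l = 0) (hx : H.h x u = 0) :
    ap (tr H u l) x = x := by
  rw [tr_apply hu hl, hx, mul_zero, zero_smul, add_zero]

/-- Equal classes of transvections have equal lines. -/
theorem trc_eq_trc (hc : Ctx H) {u w : V} (hu0 : u ≠ 0) (hu : H.h u u = 0) (hw : H.h w w = 0) {l m : F}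
    (hl : l + H.conj l = 0) (hm : m + H.conj m = 0) (hl0 : l ≠ 0) (h : trc H u l = trc H w m) :
    ∃ a : F, a ≠ 0 ∧ u = a • w ∧ a * H.conj a * l = m := by
  obtain ⟨x, hx0, hxu, hxw⟩ := hc.big u w
  have he := eq_of_cls_eq hc h hx0 (fix_of_orth hu hl hxu) (fix_of_orth hw hm hxw)
  obtain ⟨y, hy⟩ := H.exists_h_one hu0
  have h1 := congrArg (fun g => ap g y) he
  simp only [tr_apply hu hl, tr_apply hw hm, hy, mul_one, add_right_inj] at h1
  have hu' : u = (l⁻¹ * (m * H.h y w)) • w := by rw [← smul_smul, ← h1, inv_smul_smul₀ hl0]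
  set a := l⁻¹ * (m * H.h y w) with ha
  have ha0 : a ≠ 0 := fun h0 => hu0 (by rw [hu', h0, zero_smul])
  refine ⟨a, ha0, hu', ?_⟩
  have hw0 : w ≠ 0 := fun h0 => hu0 (by rw [hu', h0, smul_zero])
  have h2 : H.conj a * H.h y w = 1 := by rw [← H.smul_right, ← hu', hy]
  have h3 : a * l = m * H.h y w := by rw [ha]; field_simp
  linear_combination H.conj a * h3 + m * h2

theorem trc_inj (hc : Ctx H) {u : V} (hu0 : u ≠ 0) (hu : H.h u u = 0) {l m : F}
    (hl : l + H.conj l = 0) (hm : m + H.conj m = 0) (h : trc H u l = trc H u m) : l = m := by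
  by_cases hl0 : l = 0
  · subst hl0
    by_contra hne
    obtain ⟨a, -, -, ha⟩ := trc_eq_trc hc hu0 hu hu hm hl (Ne.symm hne) h.symm
    obtain ⟨x, hx0, hxu, -⟩ := hc.big u u
    have he := eq_of_cls_eq hc h hx0 (fix_of_orth hu hl hxu) (fix_of_orth hu hm hxu)
    obtain ⟨y, hy⟩ := H.exists_h_one hu0
    have h1 := congrArg (fun g => ap g y) he
    simp only [tr_apply hu hl, tr_apply hu hm, hy, mul_one, add_right_inj] at h1
    exact hne (smul_left_injective F hu0 h1)
  · obtain ⟨a, -, hua, ha⟩ := trc_eq_trc hc hu0 hu hu hl hm hl0 h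
    have : a = 1 := by
      by_contra hne
      exact smul_ne_zero (sub_ne_zero.mpr hne) hu0 (by rw [sub_smul, one_smul, ← hua, sub_self])
    rw [← ha, this, map_one, one_mul, one_mul]

/-- Commuting transvections have orthogonal centres. -/
theorem orth_of_commute (hc : Ctx H) {u w : V} (hu0 : u ≠ 0) (hw0 : w ≠ 0) (hu : H.h u u = 0) (hw : H.h w w = 0)
    {l m : F} (hl : l + H.conj l = 0) (hm : m + H.conj m = 0) (hl0 : l ≠ 0) (hm0 : m ≠ 0)
    (h : Commute (trc H u l) (trc H w m)) : H.h u w = 0 := by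
  obtain ⟨x, hx0, hxu, hxw⟩ := hc.big u w
  have hx1 := fix_of_orth hu hl hxu
  have hx2 := fix_of_orth hw hm hxw
  have he : tr H u l * tr H w m = tr H w m * tr H u l :=
    eq_of_cls_eq hc h hx0 (by rw [ap_mul, hx2, hx1]) (by rw [ap_mul, hx1, hx2])
  by_contra hne
  have hind : ∀ c : F, c • w ≠ u := fun c hcw => hne (by rw [← hcw, H.smul_left, hw, mul_zero])
  obtain ⟨y, hyu, hyw⟩ := H.exists_h_pair hw0 hind 1 0
  have h1 := congrArg (fun g => ap g y) he
  simp only [ap_mul, tr_apply hu hl, tr_apply hw hm, hyu, hyw, mul_one, mul_zero, zero_smul, add_zero,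
    H.add_left, H.smul_left, zero_add] at h1
  have h2 : (m * (l * H.h u w)) • w = 0 := by linear_combination (norm := module) -h1
  exact smul_ne_zero (mul_ne_zero hm0 (mul_ne_zero hl0 hne)) hw0 h2.symm.symm

theorem commute_of_orth {u w : V} (hu : H.h u u = 0) (hw : H.h w w = 0) {l m : F} (hl : l + H.conj l = 0)
    (hm : m + H.conj m = 0) (h : H.h u w = 0) : Commute (trc H u l) (trc H w m) := by
  refine (show Commute (tr H u l) (tr H w m) from gen_ext fun x => ?_).map (QuotientGroup.mk' _)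
  simp only [ap_mul, tr_apply hu hl, tr_apply hw hm, H.add_left, H.smul_left, h, H.h_comm_zero h]
  module

omit [FiniteDimensional F V] in
theorem TT_map (g : rootGen H) {u : V} : (TT H u).map (MulAut.conj (cls g)).toMonoidHom = TT H (ap g u) := by
  rw [TT, TT, MonoidHom.map_closure]
  congr 1
  ext z
  constructor
  · rintro ⟨_, ⟨l, hl, rfl⟩, rfl⟩
    exact ⟨l, hl, congrArg cls (tr_conj g u l)⟩
  · rintro ⟨l, hl, rfl⟩
    exact ⟨trc H u l, ⟨l, hl, rfl⟩, congrArg cls (tr_conj g u l)⟩

omit [FiniteDimensional F V] in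
theorem TT_smul {u : V} {a : F} (ha : a ≠ 0) (hu : H.h u u = 0) : TT H (a • u) = TT H u := by
  have hn : a * H.conj a ≠ 0 := mul_ne_zero ha (H.conj_ne_zero ha)
  unfold TT
  congr 1
  ext z
  constructor
  · rintro ⟨l, hl, rfl⟩
    exact ⟨_, norm_skew hl, congrArg cls (tr_smul_vec ha hu hl)⟩
  · rintro ⟨l, hl, rfl⟩
    have hs : (a * H.conj a)⁻¹ * l + H.conj ((a * H.conj a)⁻¹ * l) = 0 := by
      rw [map_mul, map_inv₀, map_mul, H.conj_conj]
      linear_combination (a * H.conj a)⁻¹ * hl
    refine ⟨_, hs, congrArg cls ?_⟩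
    rw [tr_smul_vec ha hu hs, mul_inv_cancel_left₀ hn]

theorem TT_inj (hc : Ctx H) {u w : V} (hu0 : u ≠ 0) (hu : H.h u u = 0) (hw : H.h w w = 0)
    (h : TT H u = TT H w) : ∃ a : F, a ≠ 0 ∧ u = a • w := by
  obtain ⟨l, hl0, hl⟩ := H.exists_skew
  obtain ⟨m, hm, he⟩ := (mem_TT hw).mp (h ▸ trc_mem_TT (u := u) hl)
  obtain ⟨a, ha, hua, -⟩ := trc_eq_trc hc hu0 hu hw hl hm hl0 he
  exact ⟨a, ha, hua⟩

end CfsgLib.AutPSU
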