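import Mathlib
import Cfsg.Agent.Lib.AutPSU.Root

/-!
The stabiliser of an isotropic line in the projective special unitary group: radical and Levi part.
-/

set_option autoImplicit false

namespace CfsgLib.AutPSU

open CfsgLib.Classical.Herm CfsgLib.Classical.Herm.HermSpace Module

variable {F V : Type*} [Field F] [AddCommGroup V] [Module F V] {H : HermSpace F V}

/-- Orthogonal to both members of a pair. -/
def InW (H : HermSpace F V) (e f w : V) : Prop := H.h w e = 0 ∧ H.h w f = 0

variable {e f : V}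

theorem InW.add {w w' : V} (h : InW H e f w) (h' : InW H e f w') : InW H e f (w + w') :=
  ⟨by rw [H.add_left, h.1, h'.1, add_zero], by rw [H.add_left, h.2, h'.2, add_zero]⟩

theorem InW.smul {w : V} (a : F) (h : InW H e f w) : InW H e f (a • w) :=
  ⟨by rw [H.smul_left, h.1, mul_zero], by rw [H.smul_left, h.2, mul_zero]⟩

theorem InW.zero : InW H e f (0 : V) := ⟨H.zero_left e, H.zero_left f⟩

theorem InW.swap {w : V} (h : InW H e f w) : InW H f e w := ⟨h.2, h.1⟩

theorem InW.sub {w w' : V} (h : InW H e f w) (h' : InW H e f w') : InW H e f (w - w') :=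
  ⟨by rw [H.sub_left, h.1, h'.1, sub_zero], by rw [H.sub_left, h.2, h'.2, sub_zero]⟩

theorem eq_zero_of_orth_W (p : IsHPair H e f) {w : V} (hw : InW H e f w)
    (h : ∀ x, InW H e f x → H.h w x = 0) : w = 0 :=
  H.nondeg w fun y => by
    have h1 := h _ (pairProj_mem p y)
    rw [pairProj, H.add_right, H.add_right, H.smul_right, H.smul_right, hw.1, hw.2, mul_zero, mul_zero,
      add_zero, add_zero] at h1
    exact h1

theorem pair_decomp (x : V) : x = pairProj H e f x + (H.h x f) • e + (H.h x e) • f := by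
  rw [pairProj]; module

theorem exists_root_cond {w : V} (he : H.h e e = 0) (hw : InW H e f w) : ∃ l, RootCond H e w l := by
  obtain ⟨l, hl⟩ := H.exists_trace (c := -H.h w w) (by rw [map_neg, H.conj_diag])
  exact ⟨l, he, hw.1, by linear_combination hl⟩

theorem rt_apply_e {w : V} {l : F} (c : RootCond H e w l) : ap (rt H e w l) e = e := by
  rw [rt_apply c, c.1, H.h_comm_zero c.2.1]; module

theorem rt_apply_f (p : IsHPair H e f) {w : V} {l : F} (hw : InW H e f w) (c : RootCond H e w l) :
    ap (rt H e w l) f = f + w + l • e := by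
  rw [rt_apply c, p.2.2, H.h_comm_zero hw.2]; module

variable (H) in
/-- The radical of the stabiliser of the line of `u`. -/
def UU (u : V) : Subgroup (Gq H) :=
  ((rootGroup H u).comap (rootGen H).subtype).map (QuotientGroup.mk' _)

theorem cls_rt_mem_UU {u w : V} {l : F} (c : RootCond H u w l) : cls (rt H u w l) ∈ UU H u :=
  Subgroup.mem_map_of_mem _ (Or.inr ⟨w, l, c, rt_coe c⟩)

theorem mem_UU (p : IsHPair H e f) {z : Gq H} :
    z ∈ UU H e ↔ ∃ w l, InW H e f w ∧ RootCond H e w l ∧ z = cls (rt H e w l) := by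
  refine ⟨?_, fun ⟨w, l, _, c, hz⟩ => hz ▸ cls_rt_mem_UU c⟩
  rintro ⟨g, hg, rfl⟩
  have hef : H.h e f = 1 := H.h_comm_one p.2.2
  rcases hg with h1 | ⟨w, l, c, h1⟩
  · have c0 : RootCond H e 0 0 := tr_cond p.1 (by simp)
    refine ⟨0, 0, InW.zero, c0, ?_⟩
    rw [show rt H e 0 0 = tr H e 0 from rfl, tr_zero p.1, show g = 1 from Subtype.ext h1]
    rfl
  · have hw' : InW H e f (w + (-H.h w f) • e) :=
      ⟨by rw [H.add_left, H.smul_left, c.2.1, p.1]; ring, by rw [H.add_left, H.smul_left, hef]; ring⟩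
    have c' : RootCond H e (w + (-H.h w f) • e) (l + (H.conj (-H.h w f) - (-H.h w f))) := by
      refine ⟨c.1, hw'.1, ?_⟩
      rw [H.add_left, H.add_right, H.add_right, H.smul_left, H.smul_left, H.smul_right, H.smul_right, c.1,
        c.2.1, H.h_comm_zero c.2.1, map_add, map_sub, H.conj_conj]
      linear_combination c.2.2
    refine ⟨_, _, hw', c', congrArg cls (Subtype.ext ?_)⟩
    rw [rt_coe c', root_add_smul _ c c']
    exact h1

variable [FiniteDimensional F V]

theorem rt_inj (hc : Ctx H) (p : IsHPair H e f) {w w' : V} {l l' : F} (hw : InW H e f w) (hw' : InW H e f w')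
    (c : RootCond H e w l) (c' : RootCond H e w' l') (h : cls (rt H e w l) = cls (rt H e w' l')) :
    w = w' ∧ l = l' := by
  have h1 := congrArg (fun g => ap g f) (eq_of_cls_eq hc h p.left_ne_zero (rt_apply_e c) (rt_apply_e c'))
  simp only [rt_apply_f p hw c, rt_apply_f p hw' c'] at h1
  have hef : H.h e f = 1 := H.h_comm_one p.2.2
  have h2 := congrArg (fun x => H.h x f) h1
  simp only [H.add_left, H.smul_left, hw.2, hw'.2, p.2.1, hef, zero_add, mul_one] at h2
  subst h2
  exact ⟨by linear_combination (norm := module) h1, rfl⟩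

omit [FiniteDimensional F V] in
theorem rt_conj_stab {g : rootGen H} {a : F} (ha : a ≠ 0) (hg : ap g e = a • e) {w : V} {l : F}
    (c : RootCond H e w l) : g * rt H e w l * g⁻¹ = rt H e (H.conj a • ap g w) (a * H.conj a * l) := by
  rw [rt_conj, hg, rt_smul_vec ha]
  have := (rootCond_map_iff g).mpr c
  rwa [hg] at this

omit [FiniteDimensional F V] in
theorem tr_conj_stab {g : rootGen H} {a : F} (ha : a ≠ 0) (he : H.h e e = 0) (hg : ap g e = a • e) {l : F}
    (hl : l + H.conj l = 0) : g * tr H e l * g⁻¹ = tr H e (a * H.conj a * l) := by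
  rw [tr_conj, hg, tr_smul_vec ha he hl]

theorem mem_normalizer_TT (hc : Ctx H) {u : V} (hu0 : u ≠ 0) (hu : H.h u u = 0) (g : rootGen H) :
    cls g ∈ Subgroup.normalizer (TT H u : Set (Gq H)) ↔ ∃ a : F, a ≠ 0 ∧ ap g u = a • u := by
  have key : cls g ∈ Subgroup.normalizer (TT H u : Set (Gq H)) ↔ TT H (ap g u) = TT H u := by
    rw [← TT_map, Subgroup.mem_normalizer_iff]
    constructor
    · intro h
      ext z
      rw [Subgroup.map_equiv_eq_comap_symm', Subgroup.mem_comap]
      show (cls g)⁻¹ * z * cls g ∈ TT H u ↔ _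
      exact (h _).trans (by rw [show cls g * ((cls g)⁻¹ * z * cls g) * (cls g)⁻¹ = z by group])
    · intro h z
      constructor
      · intro hz
        show _ ∈ TT H u
        rw [← h]
        exact Subgroup.mem_map_of_mem _ hz
      · intro hz
        have hz' : cls g * z * (cls g)⁻¹ ∈ (TT H u).map (MulAut.conj (cls g)).toMonoidHom := by rw [h]; exact hz
        obtain ⟨y, hy, hyz⟩ := hz'
        have : z = y := (MulAut.conj (cls g)).injective hyz.symm
        rw [this]; exact hy
  rw [key]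
  constructor
  · intro h
    exact TT_inj hc (unit_ne_zero g.1 hu0) (by rw [ap_h, hu]) hu h
  · rintro ⟨a, ha, h⟩
    rw [h, TT_smul ha hu]

omit [FiniteDimensional F V] in
/-- Splitting of the stabiliser of a line. -/
theorem stab_decomp (p : IsHPair H e f) {g : rootGen H} {a : F} (ha : a ≠ 0) (hg : ap g e = a • e) :
    ∃ w l k, InW H e f w ∧ RootCond H e w l ∧ g = rt H e w l * k ∧ ap k e = a • e ∧
      ap k f = (H.conj a)⁻¹ • f := by
  have hca := H.conj_ne_zero ha
  have hp' : IsHPair H e (H.conj a • ap g f) := by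
    refine ⟨p.1, by rw [H.smul_left, H.smul_right, ap_h, p.2.1, mul_zero, mul_zero], ?_⟩
    have h1 := ap_h g f e
    rw [hg, p.2.2, H.smul_right] at h1
    rw [H.smul_left, h1]
  obtain ⟨w, l, c, hz, -⟩ := exists_root_partner p hp'
  obtain ⟨w', l', hw', c', he⟩ : ∃ w' l', InW H e f w' ∧ RootCond H e w' l' ∧
      (rt H e w' l').1 = root H e w l c := by
    have hef : H.h e f = 1 := H.h_comm_one p.2.2
    have hw' : InW H e f (w + (-H.h w f) • e) :=
      ⟨by rw [H.add_left, H.smul_left, c.2.1, p.1]; ring, by rw [H.add_left, H.smul_left, hef]; ring⟩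
    have c' : RootCond H e (w + (-H.h w f) • e) (l + (H.conj (-H.h w f) - (-H.h w f))) := by
      refine ⟨c.1, hw'.1, ?_⟩
      rw [H.add_left, H.add_right, H.add_right, H.smul_left, H.smul_left, H.smul_right, H.smul_right, c.1,
        c.2.1, H.h_comm_zero c.2.1, map_add, map_sub, H.conj_conj]
      linear_combination c.2.2
    exact ⟨_, _, hw', c', by rw [rt_coe c', root_add_smul _ c c']⟩
  refine ⟨w', l', (rt H e w' l')⁻¹ * g, hw', c', by group, ?_, ?_⟩
  · rw [ap_mul, hg]
    show ((rt H e w' l')⁻¹ : rootGen H).1.1 (a • e) = _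
    rw [map_smul]
    have h3 := ap_inv (rt H e w' l') e
    rw [rt_apply_e c'] at h3
    exact congrArg (a • ·) h3
  · rw [ap_mul]
    have h2 : ap g f = (H.conj a)⁻¹ • ap (rt H e w' l') f := by
      rw [show ap (rt H e w' l') f = H.conj a • ap g f by rw [ap, he]; exact hz, inv_smul_smul₀ hca]
    rw [h2]
    show ((rt H e w' l')⁻¹ : rootGen H).1.1 (_ • _) = _
    rw [map_smul]
    exact congrArg (_ • ·) (ap_inv _ _)

variable (H) in
/-- The Levi part: both lines of the pair are fixed. -/
def Lst (e f : V) : Subgroup (rootGen H) where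
  carrier := {k | ∃ a : F, a ≠ 0 ∧ ap k e = a • e ∧ ap k f = (H.conj a)⁻¹ • f}
  one_mem' := ⟨1, one_ne_zero, (one_smul F e).symm, by rw [map_one, inv_one, one_smul]; rfl⟩
  mul_mem' := by
    rintro x y ⟨a, ha, h1, h2⟩ ⟨b, hb, h3, h4⟩
    refine ⟨a * b, mul_ne_zero ha hb, ?_, ?_⟩
    · rw [ap_mul, h3, show ap x (b • e) = b • ap x e from map_smul x.1.1 b e, h1, smul_smul, mul_comm]
    · rw [ap_mul, h4, show ap x ((H.conj b)⁻¹ • f) = (H.conj b)⁻¹ • ap x f from map_smul x.1.1 _ f, h2,
        smul_smul, map_mul, mul_inv_rev]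
  inv_mem' := by
    rintro x ⟨a, ha, h1, h2⟩
    refine ⟨a⁻¹, inv_ne_zero ha, ?_, ?_⟩
    · have h3 := congrArg (ap x⁻¹) h1
      rw [ap_inv, show ap x⁻¹ (a • e) = a • ap x⁻¹ e from map_smul (x⁻¹ : rootGen H).1.1 a e] at h3
      conv_rhs => rw [h3, inv_smul_smul₀ ha]
    · have h3 := congrArg (ap x⁻¹) h2
      rw [ap_inv, show ap x⁻¹ ((H.conj a)⁻¹ • f) = (H.conj a)⁻¹ • ap x⁻¹ f from
        map_smul (x⁻¹ : rootGen H).1.1 _ f] at h3
      conv_rhs => rw [h3, map_inv₀, inv_inv, smul_inv_smul₀ (H.conj_ne_zero ha)]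

/-- The scaling on the first line. -/
def lam (H : HermSpace F V) (e f : V) (k : rootGen H) : F := H.h (ap k e) f

omit [FiniteDimensional F V] in
theorem Lst_spec (p : IsHPair H e f) {k : rootGen H} (hk : k ∈ Lst H e f) :
    lam H e f k ≠ 0 ∧ ap k e = lam H e f k • e ∧ ap k f = (H.conj (lam H e f k))⁻¹ • f := by
  obtain ⟨a, ha, h1, h2⟩ := hk
  have : lam H e f k = a := by rw [lam, h1, H.smul_left, H.h_comm_one p.2.2, mul_one]
  rw [this]; exact ⟨ha, h1, h2⟩

omit [FiniteDimensional F V] in
theorem Lst_preserves (p : IsHPair H e f) {k : rootGen H} (hk : k ∈ Lst H e f) {w : V} (hw : InW H e f w) :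
    InW H e f (ap k w) := by
  obtain ⟨ha, h1, h2⟩ := Lst_spec p hk
  constructor
  · have h3 := ap_h k w e
    rw [h1, hw.1, H.smul_right, mul_eq_zero] at h3
    exact h3.resolve_left (H.conj_ne_zero ha)
  · have h3 := ap_h k w f
    rw [h2, hw.2, H.smul_right, mul_eq_zero] at h3
    exact h3.resolve_left (H.conj_ne_zero (inv_ne_zero (H.conj_ne_zero ha)))

omit [FiniteDimensional F V] in
theorem Lst_le_normalizer (p : IsHPair H e f) {k : rootGen H} (hk : k ∈ Lst H e f) :
    (TT H e).map (MulAut.conj (cls k)).toMonoidHom = TT H e := by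
  obtain ⟨ha, h1, -⟩ := Lst_spec p hk
  rw [TT_map, h1, TT_smul ha p.1]

/-- The operation of the Levi part on the middle space. -/
def opW (H : HermSpace F V) (e f : V) (k : rootGen H) (w : V) : V := H.conj (lam H e f k) • ap k w

omit [FiniteDimensional F V] in
theorem opW_mul (p : IsHPair H e f) {k k' : rootGen H} (hk : k ∈ Lst H e f) (hk' : k' ∈ Lst H e f) (w : V) :
    opW H e f (k * k') w = opW H e f k (opW H e f k' w) := by
  obtain ⟨-, h1, -⟩ := Lst_spec p hk
  obtain ⟨-, h1', -⟩ := Lst_spec p hk'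
  have hmul : lam H e f (k * k') = lam H e f k * lam H e f k' := by
    rw [lam, ap_mul, h1', show ap k (lam H e f k' • e) = lam H e f k' • ap k e from map_smul k.1.1 _ e,
      H.smul_left, mul_comm]
    rfl
  rw [opW, opW, opW, hmul, map_mul, ap_mul]
  show _ = H.conj (lam H e f k) • k.1.1 (_ • _)
  rw [map_smul, smul_smul]

omit [FiniteDimensional F V] in
theorem opW_add (k : rootGen H) (x y : V) : opW H e f k (x + y) = opW H e f k x + opW H e f k y := by
  rw [opW, show ap k (x + y) = ap k x + ap k y from map_add k.1.1 x y, smul_add]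
  rfl

omit [FiniteDimensional F V] in
theorem opW_smul (k : rootGen H) (a : F) (x : V) : opW H e f k (a • x) = a • opW H e f k x := by
  rw [opW, show ap k (a • x) = a • ap k x from map_smul k.1.1 a x, smul_comm]
  rfl

omit [FiniteDimensional F V] in
theorem opW_inW (p : IsHPair H e f) {k : rootGen H} (hk : k ∈ Lst H e f) {w : V} (hw : InW H e f w) :
    InW H e f (opW H e f k w) := (Lst_preserves p hk hw).smul _

omit [FiniteDimensional F V] in
theorem rt_conj_Lst (p : IsHPair H e f) {k : rootGen H} (hk : k ∈ Lst H e f) {w : V} {l : F}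
    (c : RootCond H e w l) :
    cls k * cls (rt H e w l) * (cls k)⁻¹ =
      cls (rt H e (opW H e f k w) (lam H e f k * H.conj (lam H e f k) * l)) := by
  obtain ⟨ha, h1, -⟩ := Lst_spec p hk
  exact congrArg cls (rt_conj_stab ha h1 c)

end CfsgLib.AutPSU
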