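import Mathlib
import Cfsg.Agent.Lib.AutPSU.Para

/-!
Tori of the Levi part, and the irreducibility of its action on the middle space.
-/

set_option autoImplicit false

namespace CfsgLib.AutPSU

open CfsgLib.Classical.Herm CfsgLib.Classical.Herm.HermSpace Module

variable {F V : Type*} [Field F] [AddCommGroup V] [Module F V] {H : HermSpace F V} [FiniteDimensional F V]
  {e f : V}

/-- The dilation of a pair, with both values. -/
theorem exists_pairDiag (p : IsHPair H e f) {t : F} (ht : t ≠ 0) :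
    ∃ d : Unit' H, (detHom H d : F) = t * (H.conj t)⁻¹ ∧ d.1 e = t • e ∧ d.1 f = (H.conj t)⁻¹ • f ∧
      ∀ x, InW H e f x → d.1 x = x := by
  have hct := H.conj_ne_zero ht
  have hfe : H.h f e = 1 := p.2.2
  have hef : H.h e f = 1 := H.h_comm_one p.2.2
  let D : F → (V →ₗ[F] V) := fun s =>
    (LinearMap.transvection ((s - 1) • H.form f) e) ∘ₗ
      (LinearMap.transvection (((H.conj s)⁻¹ - 1) • H.form e) f)
  have hD : ∀ (s : F) x,
      D s x = x + ((s - 1) * H.h x f) • e + (((H.conj s)⁻¹ - 1) * H.h x e) • f := fun s x => by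
    simp [D, LinearMap.transvection.apply, H.add_left, H.smul_left, p.2.1]
    module
  have hcomp : ∀ s x, s ≠ 0 → D s (D s⁻¹ x) = x := fun s x hs => by
    have hcs := H.conj_ne_zero hs
    simp only [hD, H.add_left, H.smul_left, p.1, p.2.1, hfe, hef, map_inv₀, inv_inv]
    match_scalars <;> field_simp <;> ring
  let d : V ≃ₗ[F] V := LinearEquiv.ofLinear (D t) (D t⁻¹) (LinearMap.ext fun x => hcomp t x ht)
    (LinearMap.ext fun x => by
      have := hcomp t⁻¹ x (inv_ne_zero ht)
      rwa [inv_inv] at this)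
  have hdapp : ∀ x, d x = D t x := fun _ => rfl
  refine ⟨⟨d, fun x y => ?_⟩, ?_, ?_, ?_, fun x hx => ?_⟩
  · simp only [hdapp, hD, H.add_left, H.add_right, H.smul_left, H.smul_right, p.1, p.2.1, hfe, hef,
      map_mul, map_sub, map_one, map_inv₀, H.conj_conj, H.symm']
    field_simp
    ring
  · show (LinearEquiv.det d : F) = _
    rw [LinearEquiv.coe_det, show (d : V →ₗ[F] V) = D t from rfl]
    simp only [D, LinearMap.det_comp, LinearMap.transvection.det, LinearMap.smul_apply,
      HermSpace.form_apply, smul_eq_mul, hfe, hef, mul_one]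
    ring
  · show d e = t • e
    rw [hdapp, hD, p.1, hef]
    module
  · show d f = (H.conj t)⁻¹ • f
    rw [hdapp, hD, p.2.1, hfe]
    module
  · show d x = x
    rw [hdapp, hD, hx.1, hx.2]
    module

theorem exists_nonisotropic_W (hc : Ctx H) (p : IsHPair H e f) : ∃ y, InW H e f y ∧ H.h y y ≠ 0 := by
  by_contra hcon
  push Not at hcon
  obtain ⟨w, hw0, hwe, hwf⟩ := hc.big e f
  refine hw0 (eq_zero_of_orth_W p ⟨hwe, hwf⟩ fun x hx => ?_)
  have key : ∀ u v, InW H e f u → InW H e f v → H.h u v + H.h v u = 0 := by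
    intro u v hu hv
    have h1 := hcon _ (hu.add hv)
    rw [H.add_left, H.add_right, H.add_right, hcon u hu, hcon v hv] at h1
    linear_combination h1
  obtain ⟨a, ha⟩ := H.conj_ne
  have h1 := key w x ⟨hwe, hwf⟩ hx
  have h2 := key (a • w) x (InW.smul a ⟨hwe, hwf⟩) hx
  rw [H.smul_left, H.smul_right] at h2
  have h3 : (a - H.conj a) * H.h w x = 0 := by linear_combination h2 - H.conj a * h1
  exact (mul_eq_zero.mp h3).resolve_left (sub_ne_zero.mpr (Ne.symm ha))

theorem W_line_three (p : IsHPair H e f) (h3 : finrank F V = 3) {y : V} (hy : InW H e f y)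
    (hyy : H.h y y ≠ 0) {w : V} (hw : InW H e f w) : w = (H.h w y / H.h y y) • y := by
  set Φ := (H.form e).prod ((H.form f).prod (H.form y)) with hΦ
  have hsurj : Function.Surjective Φ := by
    rintro ⟨a, b, c⟩
    refine ⟨b • e + a • f + (c / H.h y y) • y, ?_⟩
    simp [hΦ, H.add_left, H.smul_left, p.1, p.2.1, p.2.2, H.h_comm_one p.2.2, hy.1, hy.2, H.h_comm_zero hy.1,
      H.h_comm_zero hy.2, hyy]
  have hinj := (LinearMap.injective_iff_surjective_of_finrank_eq_finrank (f := Φ) (by simp [h3])).mpr hsurj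
  refine hinj ?_
  simp [hΦ, H.smul_left, hw.1, hw.2, hy.1, hy.2, hyy]

/-- The torus in dimension three. -/
theorem torus_three (hc : Ctx H) (p : IsHPair H e f) (h3 : finrank F V = 3) {a : F} (ha : a ≠ 0) :
    ∃ k ∈ Lst H e f, lam H e f k = a ∧ ∀ w, InW H e f w → ap k w = (H.conj a / a) • w := by
  obtain ⟨y, hy, hyy⟩ := exists_nonisotropic_W hc p
  obtain ⟨d, hdd, hde, hdf, hdW⟩ := exists_pairDiag p ha
  have hca := H.conj_ne_zero ha
  set μ := H.conj a / a with hμ
  have hμN : μ * H.conj μ = 1 := by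
    rw [hμ, map_div₀, H.conj_conj]
    field_simp
  have hcond : ShearCond H y ((μ - 1) / H.h y y) := by
    unfold ShearCond
    rw [map_div₀, map_sub, map_one, H.conj_diag]
    field_simp
    linear_combination hμN
  set g := d * shear H y _ hcond with hg
  have hgdet : g ∈ rootGen H := by
    rw [rootGen_eq_ker_det hc.big p, MonoidHom.mem_ker, hg, map_mul]
    apply Units.ext
    rw [Units.val_mul, hdd, detHom_shear, div_mul_cancel₀ _ hyy, hμ, Units.val_one]
    field_simp
    ring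
  have hge : g.1 e = a • e := by
    rw [hg, Classical.Herm.mul_apply, shear_apply, H.h_comm_zero hy.1, mul_zero, zero_smul, add_zero, hde]
  have hgf : g.1 f = (H.conj a)⁻¹ • f := by
    rw [hg, Classical.Herm.mul_apply, shear_apply, H.h_comm_zero hy.2, mul_zero, zero_smul, add_zero, hdf]
  refine ⟨⟨g, hgdet⟩, ⟨a, ha, hge, hgf⟩, ?_, fun w hw => ?_⟩
  · show H.h (g.1 e) f = a
    rw [hge, H.smul_left, H.h_comm_one p.2.2, mul_one]
  · show g.1 w = μ • w
    rw [hg, Classical.Herm.mul_apply, shear_apply, W_line_three p h3 hy hyy hw]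
    generalize H.h w y / H.h y y = c
    rw [H.smul_left, ← add_smul, map_smul, hdW y hy, smul_smul]
    congr 1
    field_simp
    ring

/-- The torus of a second pair. -/
theorem torus_four (hc : Ctx H) (p : IsHPair H e f) {x z : V} (hx : InW H e f x) (hz : InW H e f z)
    (pw : IsHPair H x z) {a : F} (ha : a ≠ 0) :
    ∃ k ∈ Lst H e f, lam H e f k = a ∧ ap k x = H.conj a • x ∧ ap k z = a⁻¹ • z := by
  have hca := H.conj_ne_zero ha
  obtain ⟨d, hdd, hde, hdf, hdW⟩ := exists_pairDiag p ha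
  obtain ⟨d', hdd', hdx, hdz, hdW'⟩ := exists_pairDiag pw hca
  have he : InW H x z e := ⟨H.h_comm_zero hx.1, H.h_comm_zero hz.1⟩
  have hf : InW H x z f := ⟨H.h_comm_zero hx.2, H.h_comm_zero hz.2⟩
  have hgdet : d * d' ∈ rootGen H := by
    rw [rootGen_eq_ker_det hc.big p, MonoidHom.mem_ker, map_mul]
    apply Units.ext
    rw [Units.val_mul, hdd, hdd', H.conj_conj, Units.val_one]
    field_simp
  refine ⟨⟨d * d', hgdet⟩, ⟨a, ha, ?_, ?_⟩, ?_, ?_, ?_⟩
  · show (d * d').1 e = _; rw [Classical.Herm.mul_apply, hdW' e he, hde]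
  · show (d * d').1 f = _; rw [Classical.Herm.mul_apply, hdW' f hf, hdf]
  · show H.h ((d * d').1 e) f = a
    rw [Classical.Herm.mul_apply, hdW' e he, hde, H.smul_left, H.h_comm_one p.2.2, mul_one]
  · show (d * d').1 x = _; rw [Classical.Herm.mul_apply, hdx, map_smul, hdW x hx]
  · show (d * d').1 z = _; rw [Classical.Herm.mul_apply, hdz, map_smul, hdW z hz, H.conj_conj]

theorem subring_top_sq [Finite F] (S : Subring F) (h : ∀ a : F, a ≠ 0 → a * a ∈ S) : S = ⊤ := by
  have hsq : ∀ a : F, a * a ∈ S := fun a => by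
    by_cases ha : a = 0
    · subst ha; simp
    · exact h a ha
  refine eq_top_iff.mpr fun a _ => ?_
  let _ := Fintype.ofFinite F
  by_cases h2 : (2 : F) = 0
  · have : CharP F 2 := CharTwo.of_one_ne_zero_of_two_eq_zero one_ne_zero h2
    obtain ⟨r, rfl⟩ := FiniteField.isSquare_of_char_two (ringChar.eq F 2) a
    exact hsq r
  · have h2a : 2 * a ∈ S := by
      have := S.sub_mem (S.sub_mem (hsq (a + 1)) (hsq a)) (hsq 1)
      convert this using 1
      ring
    have hhalf : (2 : F)⁻¹ ∈ S := by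
      have h2S : (2 : F) ∈ S := by
        have := S.add_mem S.one_mem S.one_mem
        rwa [one_add_one_eq_two] at this
      have hpow : (2 : F) ^ (Fintype.card F - 2) = (2 : F)⁻¹ := by
        refine eq_inv_of_mul_eq_one_left ?_
        rw [← pow_succ, show Fintype.card F - 2 + 1 = Fintype.card F - 1 by
          have := Fintype.one_lt_card (α := F); omega, FiniteField.pow_card_sub_one_eq_one _ h2]
      rw [← hpow]
      exact S.pow_mem h2S _
    have := S.mul_mem hhalf h2a
    rwa [inv_mul_cancel_left₀ h2] at this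

theorem subring_top_three (hk : ∃ k, H.conj k = k ∧ k ≠ 0 ∧ k ≠ 1) (S : Subring F)
    (h : ∀ a : F, a ≠ 0 → H.conj a * (H.conj a / a) ∈ S) : S = ⊤ := by
  have hfix : ∀ a, H.conj a = a → a ∈ S := fun a ha => by
    by_cases ha0 : a = 0
    · subst ha0; exact S.zero_mem
    · have := h a ha0
      rwa [ha, div_self ha0, mul_one] at this
  obtain ⟨k₀, hk₀S, hk₀⟩ : ∃ k₀ ∈ S, H.conj k₀ ≠ k₀ := by
    by_contra hcon
    push Not at hcon
    have hcube : ∀ a : F, H.conj a * H.conj a * H.conj a = a * a * a := by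
      intro a
      by_cases ha : a = 0
      · subst ha; simp
      have h1 := hcon _ (h a ha)
      rw [map_mul, map_div₀, H.conj_conj] at h1
      have := H.conj_ne_zero ha
      field_simp at h1
      linear_combination -h1
    obtain ⟨a, ha⟩ := H.conj_ne
    have hd : H.conj a - a ≠ 0 := sub_ne_zero.mpr ha
    have hc' : ∀ c, H.conj c = c → c ≠ 0 → (3 : F) * (c * (H.conj a + a) + c * c) = 0 := by
      intro c hc hc0
      have h1 := hcube (a + c)
      rw [map_add, hc] at h1
      have h2 : (H.conj a - a) * ((3 : F) * (c * (H.conj a + a) + c * c)) = 0 := by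
        linear_combination h1 - hcube a
      exact (mul_eq_zero.mp h2).resolve_left hd
    have h3 : (3 : F) ≠ 0 := fun h30 => hd (by
      have : (H.conj a - a) ^ 3 = 0 := by
        linear_combination hcube a + (-(H.conj a) ^ 2 * a + H.conj a * a ^ 2) * h30
      exact eq_zero_of_pow_eq_zero this)
    obtain ⟨k, hk1, hk2, hk3⟩ := hk
    have e1 := (mul_eq_zero.mp (hc' 1 (map_one _) one_ne_zero)).resolve_left h3
    have e2 := (mul_eq_zero.mp (hc' k hk1 hk2)).resolve_left h3
    have : k * (k - 1) = 0 := by linear_combination e2 - k * e1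
    exact (mul_eq_zero.mp this).elim hk2 (fun h4 => hk3 (sub_eq_zero.mp h4))
  refine eq_top_iff.mpr fun x _ => ?_
  have hd : k₀ - H.conj k₀ ≠ 0 := sub_ne_zero.mpr (Ne.symm hk₀)
  set v := (x - H.conj x) / (k₀ - H.conj k₀) with hv
  have hd' : H.conj k₀ - k₀ ≠ 0 := sub_ne_zero.mpr hk₀
  have hvf : H.conj v = v := by
    rw [hv, map_div₀, map_sub, map_sub, H.conj_conj, H.conj_conj]
    field_simp
    ring
  have hvk : v * (k₀ - H.conj k₀) = x - H.conj x := div_mul_cancel₀ _ hd
  have huf : H.conj (x - v * k₀) = x - v * k₀ := by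
    rw [map_sub, map_mul, hvf]
    linear_combination hvk
  have := S.add_mem (hfix _ huf) (S.mul_mem (hfix _ hvf) hk₀S)
  rwa [sub_add_cancel] at this

theorem pair_of_one {x v : V} (hxx : H.h x x = 0) (hv1 : H.h v x = 1) : ∃ t : F, IsHPair H x (v + t • x) := by
  obtain ⟨t, ht⟩ := H.exists_trace (c := -H.h v v) (by rw [map_neg, H.conj_diag])
  refine ⟨t, hxx, ?_, by rw [H.add_left, H.smul_left, hxx, mul_zero, add_zero, hv1]⟩
  rw [H.add_left, H.add_right, H.add_right, H.smul_left, H.smul_left, H.smul_right, H.smul_right,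
    hxx, hv1, H.h_comm_one hv1]
  linear_combination ht

/-- An isotropic pair in the middle space. -/
theorem exists_pair_W (hc : Ctx H) (p : IsHPair H e f) (h4 : 4 ≤ finrank F V) {w : V} (hw : InW H e f w)
    (hw0 : w ≠ 0) : ∃ x z, InW H e f x ∧ InW H e f z ∧ IsHPair H x z ∧ H.h w x ≠ 0 := by
  obtain ⟨y, hy, hyy⟩ := exists_nonisotropic_W hc p
  obtain ⟨y', hy'0, hy'e, hy'f, hy'y⟩ : ∃ y', y' ≠ 0 ∧ H.h y' e = 0 ∧ H.h y' f = 0 ∧ H.h y' y = 0 := by
    rcases perfectable_of_finrank (H := H) h4 with _ | h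
    · set Φ := (H.form e).prod ((H.form f).prod (H.form y)) with hΦ
      have h1 := LinearMap.finrank_range_add_finrank_ker Φ
      have h2 := Submodule.finrank_le (LinearMap.range Φ)
      rw [Module.finrank_prod, Module.finrank_prod, finrank_self] at h2
      obtain ⟨e', he', hne⟩ := Submodule.exists_mem_ne_zero_of_ne_bot (p := LinearMap.ker Φ) (by
          intro h0
          rw [h0, finrank_bot] at h1
          omega)
      simp [hΦ] at he'
      exact ⟨e', hne, he'.1, he'.2.1, he'.2.2⟩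
    · exact h e f y
  have hy' : InW H e f y' := ⟨hy'e, hy'f⟩
  obtain ⟨x₀, hx₀, hx₀0, hxx⟩ : ∃ x₀, InW H e f x₀ ∧ x₀ ≠ 0 ∧ H.h x₀ x₀ = 0 := by
    obtain ⟨t, ht⟩ := H.norm_surj (-H.h y' y' / H.h y y) (by rw [map_div₀, map_neg, H.conj_diag, H.conj_diag])
    refine ⟨y' + t • y, hy'.add (hy.smul t), fun h0 => ?_, ?_⟩
    · have h1 := congrArg (fun v => H.h v y) h0
      simp only [H.add_left, H.smul_left, hy'y, zero_add, H.zero_left, mul_eq_zero, hyy, or_false] at h1
      rw [h1, zero_smul, add_zero] at h0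
      exact hy'0 h0
    · rw [H.add_left, H.add_right, H.add_right, H.smul_left, H.smul_left, H.smul_right, H.smul_right, hy'y,
        H.h_comm_zero hy'y]
      field_simp at ht
      linear_combination ht
  have mk : ∀ u v, InW H e f u → H.h u u = 0 → InW H e f v → H.h v u = 1 → ∃ t : F, IsHPair H u (v + t • u) := by
    intro u v hu huu hv hvu
    obtain ⟨t, ht⟩ := H.exists_trace (c := -H.h v v) (by rw [map_neg, H.conj_diag])
    refine ⟨t, huu, ?_, by rw [H.add_left, H.smul_left, huu, mul_zero, add_zero, hvu]⟩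
    rw [H.add_left, H.add_right, H.add_right, H.smul_left, H.smul_left, H.smul_right, H.smul_right,
      huu, hvu, H.h_comm_one hvu]
    linear_combination ht
  obtain ⟨v₀, hv₀, hv₀1⟩ : ∃ v₀, InW H e f v₀ ∧ H.h v₀ x₀ = 1 := by
    obtain ⟨v, hv, hne⟩ : ∃ v, InW H e f v ∧ H.h x₀ v ≠ 0 := by
      by_contra! hcon
      exact hx₀0 (eq_zero_of_orth_W p hx₀ hcon)
    exact ⟨(H.h v x₀)⁻¹ • v, hv.smul _, by
      rw [H.smul_left, inv_mul_cancel₀ fun h0 => hne (H.h_comm_zero h0)]⟩
  obtain ⟨t₀, pz⟩ := mk x₀ v₀ hx₀ hxx hv₀ hv₀1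
  have hz₀ : InW H e f (v₀ + t₀ • x₀) := hv₀.add (hx₀.smul t₀)
  by_contra hcon
  push Not at hcon
  have hA := hcon x₀ _ hx₀ hz₀ pz
  have hB := hcon _ x₀ hz₀ hx₀ pz.swap
  refine hw0 (eq_zero_of_orth_W p hw fun v hv => ?_)
  have one : ∀ v, InW H e f v → H.h v x₀ = 1 → H.h w v = 0 := by
    intro v hv hv1
    obtain ⟨t, pv⟩ := mk x₀ v hx₀ hxx hv hv1
    have := hcon _ x₀ (hv.add (hx₀.smul t)) hx₀ pv.swap
    rwa [H.add_right, H.smul_right, hA, mul_zero, add_zero] at this
  by_cases h0 : H.h v x₀ = 0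
  · have := one (v + (v₀ + t₀ • x₀)) (hv.add hz₀) (by rw [H.add_left, h0, zero_add, pz.2.2])
    rwa [H.add_right, hB, add_zero] at this
  · have := one ((H.h v x₀)⁻¹ • v) (hv.smul _) (by rw [H.smul_left, inv_mul_cancel₀ h0])
    rw [H.smul_right, mul_eq_zero] at this
    exact this.resolve_left (H.conj_ne_zero (inv_ne_zero h0))

/-- The transvections at the middle space lie in the Levi part. -/
theorem tr_mem_Lst (p : IsHPair H e f) {x : V} (hx : InW H e f x) (hxx : H.h x x = 0) {l : F}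
    (hl : l + H.conj l = 0) : tr H x l ∈ Lst H e f ∧ lam H e f (tr H x l) = 1 := by
  have he := fix_of_orth hxx hl (H.h_comm_zero hx.1)
  have hf := fix_of_orth hxx hl (H.h_comm_zero hx.2)
  exact ⟨⟨1, one_ne_zero, by rw [he, one_smul], by rw [hf, map_one, inv_one, one_smul]⟩,
    by rw [lam, he, H.h_comm_one p.2.2]⟩

variable [Finite F]

/-- The Levi part acts irreducibly on the middle space. -/
theorem irreducible_W (hc : Ctx H) (p : IsHPair H e f) (W₀ : AddSubgroup V)
    (hW : ∀ w ∈ W₀, InW H e f w) (hstab : ∀ k ∈ Lst H e f, ∀ w ∈ W₀, opW H e f k w ∈ W₀)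
    {w₁ : V} (hw₁ : w₁ ∈ W₀) (hw₁0 : w₁ ≠ 0) : ∀ w, InW H e f w → w ∈ W₀ := by
  have line : ∀ (x : V) (M : F → Prop), x ∈ W₀ → (∀ a, M a → ∀ r : F, r • x ∈ W₀ → (a * r) • x ∈ W₀) →
      (∀ S : Subring F, (∀ a, M a → a ∈ S) → S = ⊤) → ∀ r : F, r • x ∈ W₀ := by
    intro x M hx hM hgen r
    let S : Subring F :=
      { carrier := {a | ∀ r : F, r • x ∈ W₀ → (a * r) • x ∈ W₀}
        mul_mem' := fun {a b} ha hb r hr => by rw [mul_assoc]; exact ha _ (hb _ hr)
        one_mem' := fun r hr => by rwa [one_mul]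
        add_mem' := fun {a b} ha hb r hr => by rw [add_mul, add_smul]; exact W₀.add_mem (ha _ hr) (hb _ hr)
        zero_mem' := fun r _ => by rw [zero_mul, zero_smul]; exact W₀.zero_mem
        neg_mem' := fun {a} ha r hr => by rw [neg_mul, neg_smul]; exact W₀.neg_mem (ha _ hr) }
    have hS : S = ⊤ := hgen S fun a ha => hM a ha
    have := (hS.ge (Subring.mem_top r) : r ∈ S) 1 (by rwa [one_smul])
    rwa [mul_one] at this
  intro w hw
  rcases hc.dim with h4 | ⟨h3, hk⟩
  · obtain ⟨l, hl0, hl⟩ := H.exists_skew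
    have push : ∀ (v x : V), v ∈ W₀ → InW H e f x → H.h x x = 0 → (l * H.h v x) • x ∈ W₀ := by
      intro v x hv hx hxx
      obtain ⟨hk, hlam⟩ := tr_mem_Lst p hx hxx hl
      have h1 := hstab _ hk v hv
      rw [opW, hlam, map_one, one_smul, tr_apply hxx hl] at h1
      have := W₀.sub_mem h1 hv
      rwa [add_sub_cancel_left] at this
    have full : ∀ x z, InW H e f x → InW H e f z → IsHPair H x z → (∃ v ∈ W₀, H.h v x ≠ 0) →
        ∀ r : F, r • x ∈ W₀ := by
      intro x z hx hz pw hv r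
      obtain ⟨v, hv, hne⟩ := hv
      set c := l * H.h v x
      have hc0 : c ≠ 0 := mul_ne_zero hl0 hne
      have := line (c • x) (fun m => ∃ a : F, a ≠ 0 ∧ m = a * a) (push v x hv hx pw.1) ?_
        (fun S hS => subring_top_sq S fun a ha => hS _ ⟨a, ha, rfl⟩) (r / c)
      · rwa [smul_smul, div_mul_cancel₀ _ hc0] at this
      rintro _ ⟨a, ha, rfl⟩ r hr
      obtain ⟨k, hk, hlam, hkx, -⟩ := torus_four hc p hx hz pw (H.conj_ne_zero ha)
      have h1 := hstab k hk _ hr
      rw [H.conj_conj] at hkx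
      rw [opW_smul, opW_smul, opW, hlam, H.conj_conj, hkx, smul_smul, smul_smul, smul_smul] at h1
      rw [smul_smul]
      convert h1 using 2
      ring
    obtain ⟨x, z, hx, hz, pw, hne⟩ := exists_pair_W hc p h4 (hW _ hw₁) hw₁0
    have hX := full x z hx hz pw ⟨w₁, hw₁, hne⟩
    have hx1 : x ∈ W₀ := by simpa using hX 1
    have hZ := full z x hz hx pw.swap ⟨x, hx1, by rw [H.h_comm_one pw.2.2]; exact one_ne_zero⟩
    have one : ∀ v, InW H e f v → H.h v x = 1 → v ∈ W₀ := by
      intro v hv hv1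
      obtain ⟨t, ht⟩ := H.exists_trace (c := -H.h v v) (by rw [map_neg, H.conj_diag])
      have pv : IsHPair H x (v + t • x) := by
        refine ⟨pw.1, ?_, by rw [H.add_left, H.smul_left, pw.1, mul_zero, add_zero, hv1]⟩
        rw [H.add_left, H.add_right, H.add_right, H.smul_left, H.smul_left, H.smul_right, H.smul_right,
          pw.1, hv1, H.h_comm_one hv1]
        linear_combination ht
      have h1 := full _ x (hv.add (hx.smul t)) hx pv.swap
        ⟨x, hx1, by rw [H.h_comm_one pv.2.2]; exact one_ne_zero⟩ 1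
      rw [one_smul] at h1
      have := W₀.sub_mem h1 (hX t)
      rwa [add_sub_cancel_right] at this
    by_cases h0 : H.h w x = 0
    · have h1 := one (w + z) (hw.add hz) (by rw [H.add_left, h0, zero_add, pw.2.2])
      have := W₀.sub_mem h1 (hZ 1)
      rwa [one_smul, add_sub_cancel_right] at this
    · have h1 := one ((H.h w x)⁻¹ • w) (hw.smul _) (by rw [H.smul_left, inv_mul_cancel₀ h0])
      have h2 := line _ (fun m => ∃ a : F, a ≠ 0 ∧ m = a * a) h1 ?_
        (fun S hS => subring_top_sq S fun a ha => hS _ ⟨a, ha, rfl⟩) (H.h w x)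
      · rwa [smul_inv_smul₀ h0] at h2
      rintro _ ⟨a, ha, rfl⟩ r hr
      obtain ⟨t, pv⟩ := pair_of_one (v := (H.h w x)⁻¹ • w) pw.1 (by rw [H.smul_left, inv_mul_cancel₀ h0])
      have h3 := full _ x ((hw.smul _).add (hx.smul t)) hx pv.swap
        ⟨x, hx1, by rw [H.h_comm_one pv.2.2]; exact one_ne_zero⟩ (a * a * r)
      have := W₀.sub_mem h3 (hX (a * a * r * t))
      rwa [smul_add, smul_smul (a * a * r) t, add_sub_cancel_right] at this
  · obtain ⟨y, hy, hyy⟩ := exists_nonisotropic_W hc p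
    have hw₁' := W_line_three p h3 hy hyy (hW _ hw₁)
    set c := H.h w₁ y / H.h y y
    have hc0 : c ≠ 0 := fun h0 => hw₁0 (by rw [hw₁', h0, zero_smul])
    have := line w₁ (fun m => ∃ a : F, a ≠ 0 ∧ m = H.conj a * (H.conj a / a)) hw₁ ?_
      (fun S hS => subring_top_three hk S fun a ha => hS _ ⟨a, ha, rfl⟩) ((H.h w y / H.h y y) / c)
    · rw [hw₁', smul_smul, div_mul_cancel₀ _ hc0, ← W_line_three p h3 hy hyy hw] at this
      exact this
    rintro _ ⟨a, ha, rfl⟩ r hr
    obtain ⟨k, hk, hlam, hkw⟩ := torus_three hc p h3 ha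
    have h1 := hstab k hk _ hr
    rw [opW_smul, opW, hlam, hkw _ (hW _ hw₁), smul_smul, smul_smul] at h1
    convert h1 using 2
    ring

end CfsgLib.AutPSU
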