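import Mathlib
import Cfsg.Agent.Lib.AutPSU.Torus

/-!
Automorphisms of the projective special unitary group permute the long root groups and their radicals.
-/

set_option autoImplicit false

namespace CfsgLib.AutPSU

open CfsgLib.Classical.Herm CfsgLib.Classical.Herm.HermSpace Module

variable {F V : Type*} [Field F] [AddCommGroup V] [Module F V] {H : HermSpace F V} {e f : V}

theorem TT_le_UU (he : H.h e e = 0) : TT H e ≤ UU H e := by
  refine (Subgroup.closure_le _).mpr ?_
  rintro _ ⟨l, hl, rfl⟩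
  exact cls_rt_mem_UU (tr_cond he hl)

theorem rt_pow {w : V} {l : F} (c : RootCond H e w l) (k : ℕ) :
    ∃ L, RootCond H e ((k : F) • w) L ∧ rt H e w l ^ k = rt H e ((k : F) • w) L := by
  induction k with
  | zero =>
    refine ⟨0, by rw [Nat.cast_zero, zero_smul]; exact tr_cond c.1 (by simp), ?_⟩
    rw [pow_zero, Nat.cast_zero, zero_smul]
    exact (tr_zero c.1).symm
  | succ k ih =>
    obtain ⟨L, cL, hL⟩ := ih
    have h : ((k + 1 : ℕ) : F) • w = (k : F) • w + w := by rw [Nat.cast_succ, add_smul, one_smul]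
    exact ⟨_, by rw [h]; exact cL.add c, by rw [pow_succ, hL, rt_mul cL c, h]⟩

variable [FiniteDimensional F V] [Finite F] (p : ℕ) [Fact p.Prime] [CharP F p]

omit [FiniteDimensional F V] [Finite F] in
theorem isPGroup_UU (pe : IsHPair H e f) : IsPGroup p ↥(UU H e) := by
  rintro ⟨z, hz⟩
  obtain ⟨w, l, -, c, rfl⟩ := (mem_UU pe).mp hz
  refine ⟨2, Subtype.ext ?_⟩
  obtain ⟨L, cL, hL⟩ := rt_pow c p
  rw [CharP.cast_eq_zero, zero_smul] at cL hL
  obtain ⟨L', cL', hL'⟩ := rt_pow cL p
  rw [CharP.cast_eq_zero, zero_smul] at cL' hL'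
  have hskew : L + H.conj L = 0 := by simpa [H.zero_left] using cL.2.2
  have hk : ∀ k : ℕ, (rt H e 0 L) ^ k = tr H e ((k : F) * L) := by
    intro k
    induction k with
    | zero => rw [pow_zero, Nat.cast_zero, zero_mul, tr_zero pe.1]
    | succ k ih =>
      rw [pow_succ, ih, Nat.cast_succ, add_mul, one_mul, ← tr_mul pe.1 _ hskew]
      · rfl
      · rw [map_mul, map_natCast]; linear_combination (k : F) * hskew
  show (cls (rt H e w l)) ^ p ^ 2 = 1
  rw [sq, pow_mul]
  show (QuotientGroup.mk' _ (rt H e w l) ^ p) ^ p = 1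
  rw [← map_pow, ← map_pow, hL, hk, CharP.cast_eq_zero, zero_mul, tr_zero pe.1, map_one]

theorem finite_Gq : Finite (Gq H) := by
  have : Finite V := Module.finite_of_finite F
  have : Finite (V ≃ₗ[F] V) := Finite.of_injective _ DFunLike.coe_injective
  infer_instance

/-- The stabiliser of the long root group. -/
abbrev NN (H : HermSpace F V) (u : V) : Subgroup (Gq H) := Subgroup.normalizer (TT H u : Set (Gq H))

omit [Finite F] in
theorem UU_le_NN (hc : Ctx H) (pe : IsHPair H e f) : UU H e ≤ NN H e := by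
  intro z hz
  obtain ⟨w, l, -, c, rfl⟩ := (mem_UU pe).mp hz
  exact (mem_normalizer_TT hc pe.left_ne_zero pe.1 _).mpr ⟨1, one_ne_zero, by rw [one_smul, rt_apply_e c]⟩

theorem exists_skew_pair : ∃ l m : F, l ≠ 0 ∧ l + H.conj l = 0 ∧ m = 0 := by
  obtain ⟨l, h1, h2⟩ := H.exists_skew
  exact ⟨l, 0, h1, h2, rfl⟩

omit [Finite F] in
/-- A line fixed by the whole radical is the line of `e`. -/
theorem eq_line_of_UU_fix (hc : Ctx H) (pe : IsHPair H e f) {v : V} (hv0 : v ≠ 0)
    (h : ∀ w l, InW H e f w → RootCond H e w l → ∃ c : F, ap (rt H e w l) v = c • v) :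
    ∃ a : F, v = a • e := by
  have heq : ∀ w l, InW H e f w → RootCond H e w l → ∀ c : F, ap (rt H e w l) v = c • v →
      (c - 1) • v = H.h v e • w + (-(H.h v w) + l * H.h v e) • e := by
    intro w l hw c' c hcv
    rw [rt_apply c'] at hcv
    linear_combination (norm := module) -hcv
  by_cases hve : H.h v e = 0
  · have hall : ∀ w, InW H e f w → H.h v w = 0 ∨ ∃ a : F, v = a • e := by
      intro w hw
      obtain ⟨l, cl⟩ := exists_root_cond pe.1 hw
      obtain ⟨c, hcv⟩ := h w l hw cl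
      have h1 := heq w l hw cl c hcv
      rw [hve, zero_smul, zero_add, mul_zero, add_zero] at h1
      by_cases hc1 : c - 1 = 0
      · left
        rw [hc1, zero_smul] at h1
        have := (smul_eq_zero.mp h1.symm).resolve_right pe.left_ne_zero
        linear_combination -this
      · exact Or.inr ⟨(c - 1)⁻¹ * (-(H.h v w)), by rw [mul_smul, ← h1, inv_smul_smul₀ hc1]⟩
    by_cases hex : ∃ a : F, v = a • e
    · exact hex
    have hpr : pairProj H e f v = 0 := by
      refine eq_zero_of_orth_W pe (pairProj_mem pe v) fun x hx => ?_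
      rw [pairProj, H.add_left, H.add_left, H.smul_left, H.smul_left, H.h_comm_zero hx.1, H.h_comm_zero hx.2,
        (hall x hx).resolve_right hex]
      ring
    refine ⟨H.h v f, ?_⟩
    conv_lhs => rw [pair_decomp (H := H) (e := e) (f := f) v, hpr, hve, zero_smul, zero_add, add_zero]
  · obtain ⟨y, hy, hyy⟩ := exists_nonisotropic_W hc pe
    obtain ⟨l, cl⟩ := exists_root_cond pe.1 hy
    obtain ⟨c, hcv⟩ := h y l hy cl
    have h1 := heq y l hy cl c hcv
    have h2 := congrArg (fun x => H.h x e) h1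
    simp only [H.smul_left, H.add_left, hy.1, pe.1, mul_zero, add_zero] at h2
    have hc1 : c - 1 = 0 := (mul_eq_zero.mp h2).resolve_right hve
    have h3 := congrArg (fun x => H.h x y) h1
    simp only [hc1, zero_smul, H.zero_left, H.smul_left, H.add_left, H.h_comm_zero hy.1, mul_zero, add_zero] at h3
    exact absurd (mul_eq_zero.mp h3.symm) (by rintro (h4 | h4) <;> contradiction)

theorem not_dvd_index_NN (hc : Ctx H) (pe : IsHPair H e f) : ¬ p ∣ (NN H e).index := by
  have := finite_Gq (H := H)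
  classical
  have hmod := (isPGroup_UU p pe).card_modEq_card_fixedPoints (Gq H ⧸ NN H e)
  have hfix : MulAction.fixedPoints ↥(UU H e) (Gq H ⧸ NN H e) = {((1 : Gq H) : Gq H ⧸ NN H e)} := by
    ext x
    constructor
    · intro hx
      obtain ⟨z, rfl⟩ := QuotientGroup.mk_surjective x
      obtain ⟨g, rfl⟩ := QuotientGroup.mk_surjective z
      have hv0 : ap g e ≠ 0 := unit_ne_zero g.1 pe.left_ne_zero
      obtain ⟨a, ha⟩ := eq_line_of_UU_fix hc pe hv0 fun w l hw cl => by
        have h1 := hx ⟨_, cls_rt_mem_UU cl⟩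
        change (((cls (rt H e w l) * cls g : Gq H)) : Gq H ⧸ NN H e) = ((cls g : Gq H) : Gq H ⧸ NN H e) at h1
        rw [eq_comm, QuotientGroup.eq] at h1
        have h2 : cls (g⁻¹ * (rt H e w l * g)) ∈ NN H e := h1
        obtain ⟨c, -, hcv⟩ := (mem_normalizer_TT hc pe.left_ne_zero pe.1 _).mp h2
        refine ⟨c, ?_⟩
        have h3 := congrArg (ap g) hcv
        rw [ap_mul, ap_mul, ap_inv', show ap g (c • e) = c • ap g e from map_smul g.1.1 c e] at h3
        exact h3
      have hmem : cls g ∈ NN H e := (mem_normalizer_TT hc pe.left_ne_zero pe.1 g).mpr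
        ⟨a, fun h0 => hv0 (by rw [ha, h0, zero_smul]), ha⟩
      show ((cls g : Gq H) : Gq H ⧸ NN H e) = ((1 : Gq H) : Gq H ⧸ NN H e)
      rw [QuotientGroup.eq, mul_one]
      exact inv_mem hmem
    · rintro rfl ⟨u, hu⟩
      show ((u * 1 : Gq H) : Gq H ⧸ NN H e) = _
      rw [QuotientGroup.eq]
      rw [mul_one, mul_one]
      exact inv_mem (UU_le_NN hc pe hu)
  have h1 : Nat.card (MulAction.fixedPoints ↥(UU H e) (Gq H ⧸ NN H e)) = 1 := by
    rw [hfix, Nat.card_eq_fintype_card, Fintype.card_unique]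
  rw [h1] at hmod
  intro hdvd
  have h2 : Nat.card (Gq H ⧸ NN H e) % p = 0 := Nat.mod_eq_zero_of_dvd hdvd
  have h3 : Nat.card (Gq H ⧸ NN H e) % p = 1 % p := hmod
  rw [h2, Nat.one_mod_eq_one.mpr (Fact.out : p.Prime).ne_one] at h3
  exact zero_ne_one h3

omit [Finite F] [Fact p.Prime] [CharP F p] in
theorem mem_TT_of_commute_UU (hc : Ctx H) (pe : IsHPair H e f) {z : Gq H}
    (hz : ∀ u ∈ UU H e, z * u = u * z) : z ∈ TT H e := by
  obtain ⟨g, rfl⟩ := QuotientGroup.mk_surjective z
  have hN : cls g ∈ NN H e := Subgroup.mem_normalizer_iff.mpr fun x => by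
    constructor
    · intro hx; rw [hz x (TT_le_UU pe.1 hx), mul_inv_cancel_right]; exact hx
    · intro hx
      have h1 := hz _ (TT_le_UU pe.1 hx)
      have h2 : cls g * x = x * cls g := by
        have : cls g * (cls g * x * (cls g)⁻¹) * (cls g)⁻¹ = cls g * x * (cls g)⁻¹ := by rw [h1]; group
        have h3 := mul_right_cancel this
        have h4 := mul_left_cancel h3
        conv_rhs => rw [← h4]
        group
      rwa [h2, mul_inv_cancel_right] at hx
  obtain ⟨a, ha, hg⟩ := (mem_normalizer_TT hc pe.left_ne_zero pe.1 g).mp hN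
  obtain ⟨v, L, k, hv, cv, rfl, hke, hkf⟩ := stab_decomp pe ha hg
  have hk : k ∈ Lst H e f := ⟨a, ha, hke, hkf⟩
  obtain ⟨-, hlam, -⟩ := Lst_spec pe hk
  have hlam' : lam H e f k = a := by rw [lam, hke, H.smul_left, H.h_comm_one pe.2.2, mul_one]
  -- the equation for each element of the radical
  have key : ∀ w l, InW H e f w → RootCond H e w l →
      opW H e f k w = w ∧ a * H.conj a * l - H.h (opW H e f k w) v = l - H.h v w := by
    intro w l hw cl
    set w' := opW H e f k w with hw'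
    have hw'W : InW H e f w' := opW_inW pe hk hw
    have cl' : RootCond H e w' (a * H.conj a * l) := by
      refine ⟨pe.1, hw'W.1, ?_⟩
      have : H.h w' w' = a * H.conj a * H.h w w := by
        rw [hw', opW, hlam', H.smul_left, H.smul_right, ap_h, H.conj_conj]; ring
      rw [this, map_mul, map_mul, H.conj_conj]
      linear_combination a * H.conj a * cl.2.2
    have h1 := hz _ (cls_rt_mem_UU cl)
    have h2 : cls k * cls (rt H e w l) * (cls k)⁻¹ = cls (rt H e w' (a * H.conj a * l)) := by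
      rw [rt_conj_Lst pe hk cl, hlam']
    have h3 : cls (rt H e v L * rt H e w' (a * H.conj a * l)) = cls (rt H e w l * rt H e v L) := by
      show cls (rt H e v L) * cls (rt H e w' _) = cls (rt H e w l) * cls (rt H e v L)
      rw [← h2]
      have h4 : cls (rt H e v L) * cls k * cls (rt H e w l) = cls (rt H e w l) * (cls (rt H e v L) * cls k) := h1
      rw [← mul_assoc, ← mul_assoc, h4]
      group
    rw [rt_mul cv cl', rt_mul cl cv] at h3
    obtain ⟨h5, h6⟩ := rt_inj hc pe (hv.add hw'W) (hw.add hv) (cv.add cl') (cl.add cv) h3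
    refine ⟨by linear_combination (norm := module) h5, by linear_combination h6⟩
  obtain ⟨y, hy, hyy⟩ := exists_nonisotropic_W hc pe
  obtain ⟨ly, cly⟩ := exists_root_cond pe.1 hy
  have hN1 : a * H.conj a = 1 := by
    have h1 := (key y ly hy cly).1
    have h2 : H.h (opW H e f k y) (opW H e f k y) = a * H.conj a * H.h y y := by
      rw [opW, hlam', H.smul_left, H.smul_right, ap_h, H.conj_conj]; ring
    rw [h1] at h2
    exact mul_right_cancel₀ hyy (by rw [one_mul, ← h2])
  have hvzero : v = 0 := by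
    refine eq_zero_of_orth_W pe hv fun w hw => ?_
    have hd : ∀ w, InW H e f w → H.h w v = H.h v w := fun w hw => by
      obtain ⟨l, cl⟩ := exists_root_cond pe.1 hw
      obtain ⟨h1, h2⟩ := key w l hw cl
      rw [h1, hN1, one_mul] at h2
      linear_combination -h2
    obtain ⟨b, hb⟩ := H.conj_ne
    have h1 := hd (b • w) (hw.smul b)
    rw [H.smul_left, H.smul_right, hd w hw] at h1
    have h2 : (b - H.conj b) * H.h v w = 0 := by linear_combination h1
    exact (mul_eq_zero.mp h2).resolve_left (sub_ne_zero.mpr (Ne.symm hb))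
  subst hvzero
  have hL : L + H.conj L = 0 := by simpa [H.zero_left] using cv.2.2
  have hca : (H.conj a)⁻¹ = a := by rw [eq_comm, ← one_div, eq_div_iff (H.conj_ne_zero ha), hN1]
  have hkscalar : ∀ x, ap k x = a • x := by
    intro x
    have hsplit := pair_decomp (H := H) (e := e) (f := f) x
    have hW := pairProj_mem pe x
    obtain ⟨lw, clw⟩ := exists_root_cond pe.1 hW
    have h1 := (key _ lw hW clw).1
    rw [opW, hlam'] at h1
    have h2 : ap k (pairProj H e f x) = a • pairProj H e f x := by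
      conv_rhs => rw [← h1, smul_smul, hN1, one_smul]
    conv_lhs => rw [hsplit]
    show k.1.1 _ = _
    rw [map_add, map_add, map_smul, map_smul]
    show ap k (pairProj H e f x) + H.h x f • ap k e + H.h x e • ap k f = _
    rw [h2, hke, hkf, hca]
    conv_rhs => rw [hsplit]
    module
  have hkc : k ∈ Subgroup.center (rootGen H) :=
    (mem_center_rootGen_iff_scalar hc.big pe k).mpr ⟨a, hN1, hkscalar⟩
  show cls (rt H e 0 L) * cls k ∈ TT H e
  rw [show cls k = 1 from (QuotientGroup.eq_one_iff k).mpr hkc, mul_one]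
  exact trc_mem_TT hL

omit [Finite F] in
theorem TT_centralises (hc : Ctx H) (pe : IsHPair H e f) {P : Subgroup (Gq H)} (hP : IsPGroup p ↥P)
    (hPN : P ≤ NN H e) {z : Gq H} (hz : z ∈ TT H e) {s : Gq H} (hs : s ∈ P) : z * s = s * z := by
  obtain ⟨l, hl, rfl⟩ := (mem_TT pe.1).mp hz
  obtain ⟨g, rfl⟩ := QuotientGroup.mk_surjective s
  obtain ⟨a, ha, hg⟩ := (mem_normalizer_TT hc pe.left_ne_zero pe.1 g).mp (hPN hs)
  set N := a * H.conj a with hN
  have hNfix : ∀ j : ℕ, N ^ j * l + H.conj (N ^ j * l) = 0 := fun j => by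
    rw [map_mul, map_pow, hN, map_mul, H.conj_conj, mul_comm (H.conj a) a]
    linear_combination (a * H.conj a) ^ j * hl
  have hiter : ∀ j : ℕ, cls g ^ j * trc H e l * (cls g ^ j)⁻¹ = trc H e (N ^ j * l) := by
    intro j
    induction j with
    | zero => simp
    | succ j ih =>
      calc cls g ^ (j + 1) * trc H e l * (cls g ^ (j + 1))⁻¹ =
          cls g * (cls g ^ j * trc H e l * (cls g ^ j)⁻¹) * (cls g)⁻¹ := by rw [pow_succ']; group
        _ = cls g * trc H e (N ^ j * l) * (cls g)⁻¹ := by rw [ih]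
        _ = trc H e (N * (N ^ j * l)) := congrArg cls (tr_conj_stab ha pe.1 hg (hNfix j))
        _ = _ := by rw [← mul_assoc, ← pow_succ']
  obtain ⟨k, hk⟩ := hP ⟨cls g, hs⟩
  have hk' : cls g ^ (p ^ k) = 1 := congrArg Subtype.val hk
  have h1 := hiter (p ^ k)
  rw [hk', one_mul, inv_one, mul_one] at h1
  by_cases hl0 : l = 0
  · subst hl0; rw [trc, tr_zero pe.1]; simp
  have h2 := trc_inj hc pe.left_ne_zero pe.1 hl (hNfix _) h1
  have h3 : N ^ (p ^ k) = 1 := mul_right_cancel₀ hl0 (by rw [one_mul, ← h2])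
  have h4 : N = 1 := by
    have h5 : (N - 1) ^ (p ^ k) = 0 := by rw [sub_pow_char_pow, h3, one_pow, sub_self]
    exact sub_eq_zero.mp (eq_zero_of_pow_eq_zero h5)
  have h6 := hiter 1
  rw [pow_one, pow_one, h4, one_mul] at h6
  exact (mul_inv_eq_iff_eq_mul.mp h6).symm

/-- The centre of a suitable Sylow subgroup is the long root group. -/
theorem exists_sylow_center (hc : Ctx H) (pe : IsHPair H e f) :
    ∃ S : Sylow p (Gq H), ∀ z, z ∈ TT H e ↔ (z ∈ (S : Subgroup (Gq H)) ∧ ∀ s ∈ (S : Subgroup (Gq H)), z * s = s * z) := by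
  have := finite_Gq (H := H)
  have hU := (isPGroup_UU p pe).comap_of_injective (NN H e).subtype Subtype.val_injective
  obtain ⟨Q, hQ⟩ := hU.exists_le_sylow
  let P : Subgroup (Gq H) := (Q : Subgroup ↥(NN H e)).map (NN H e).subtype
  have hPp : IsPGroup p ↥P := Q.2.map _
  have hPN : P ≤ NN H e := Subgroup.map_subtype_le _
  have hidx : ¬ p ∣ P.index := by
    rw [Subgroup.index_map_subtype]
    intro h
    rcases (Fact.out : p.Prime).dvd_mul.mp h with h | h
    · exact Q.not_dvd_index h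
    · exact not_dvd_index_NN p hc pe h
  have hUP : UU H e ≤ P := fun u hu =>
    ⟨⟨u, UU_le_NN hc pe hu⟩, hQ (show u ∈ UU H e from hu), rfl⟩
  refine ⟨hPp.toSylow hidx, fun z => ?_⟩
  constructor
  · intro hz
    exact ⟨hUP (TT_le_UU pe.1 hz), fun s hs => TT_centralises p hc pe hPp hPN hz hs⟩
  · rintro ⟨-, hz⟩
    exact mem_TT_of_commute_UU hc pe fun u hu => hz u (hUP hu)

/-- Long root groups go to long root groups. -/
theorem exists_TT_image (hc : Ctx H) (β : MulAut (Gq H)) {u : V} (hu0 : u ≠ 0) (hu : H.h u u = 0) :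
    ∃ w, w ≠ 0 ∧ H.h w w = 0 ∧ (TT H u).map β.toMonoidHom = TT H w := by
  have := finite_Gq (H := H)
  obtain ⟨z, pu⟩ := exists_isotropic_partner hu hu0
  obtain ⟨p, hp⟩ := CharP.exists F
  have : Fact p.Prime := ⟨CharP.char_is_prime F p⟩
  obtain ⟨S, hS⟩ := exists_sylow_center p hc pu
  let βS : Sylow p (Gq H) := (S.2.map β.toMonoidHom).toSylow (by
    rw [Subgroup.index_map_of_bijective β.bijective]; exact S.not_dvd_index)
  obtain ⟨y, hy⟩ := MulAction.exists_smul_eq (Gq H) S βS
  obtain ⟨g, rfl⟩ := QuotientGroup.mk_surjective y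
  refine ⟨ap g u, unit_ne_zero g.1 hu0, by rw [ap_h, hu], ?_⟩
  rw [← TT_map]
  ext x
  rw [Subgroup.map_equiv_eq_comap_symm', Subgroup.mem_comap, Subgroup.map_equiv_eq_comap_symm', Subgroup.mem_comap]
  show β.symm x ∈ TT H u ↔ (cls g)⁻¹ * x * cls g ∈ TT H u
  rw [hS, hS]
  have hmem : ∀ t, β.symm t ∈ (S : Subgroup (Gq H)) ↔ (cls g)⁻¹ * t * cls g ∈ (S : Subgroup (Gq H)) := by
    intro t
    have h1 : (βS : Subgroup (Gq H)) = (S : Subgroup (Gq H)).comap β.symm.toMonoidHom :=
      Subgroup.map_equiv_eq_comap_symm' β _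
    have h2 : t ∈ (βS : Subgroup (Gq H)) ↔ t ∈ ((cls g • S : Sylow p (Gq H)) : Subgroup (Gq H)) := by rw [hy]
    rw [h1, Subgroup.mem_comap] at h2
    refine h2.trans ?_
    rw [Sylow.coe_subgroup_smul, Subgroup.mem_pointwise_smul_iff_inv_smul_mem]
    simp [MulAut.smul_def, MulAut.conj_apply]
  constructor
  · rintro ⟨h1, h2⟩
    refine ⟨(hmem x).mp h1, fun s hs => ?_⟩
    have hs' : β.symm (cls g * s * (cls g)⁻¹) ∈ (S : Subgroup (Gq H)) := (hmem _).mpr (by convert hs using 1; group)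
    have h3 := h2 _ hs'
    rw [← map_mul β.symm, ← map_mul β.symm] at h3
    replace h3 := β.symm.injective h3
    calc (cls g)⁻¹ * x * cls g * s = (cls g)⁻¹ * (x * (cls g * s * (cls g)⁻¹)) * cls g := by group
      _ = _ := by rw [h3]; group
  · rintro ⟨h1, h2⟩
    refine ⟨(hmem x).mpr h1, fun s hs => ?_⟩
    have h3 := h2 _ ((hmem (β s)).mp (by rw [β.symm_apply_apply]; exact hs))
    have h4 : x * β s = β s * x := by
      calc x * β s = cls g * ((cls g)⁻¹ * x * cls g * ((cls g)⁻¹ * β s * cls g)) * (cls g)⁻¹ := by group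
        _ = _ := by rw [h3]; group
    have h5 := congrArg β.symm h4
    rwa [map_mul, map_mul, β.symm_apply_apply] at h5

/-- A normal `p`-subgroup of the stabiliser containing the radical is the radical. -/
theorem UU_maximal (hc : Ctx H) (pe : IsHPair H e f) (M : Subgroup (Gq H)) (hUM : UU H e ≤ M) (hMN : M ≤ NN H e)
    (hM : IsPGroup p ↥M) (hnorm : ∀ n ∈ NN H e, ∀ x ∈ M, n * x * n⁻¹ ∈ M) : M = UU H e := by
  have : Finite V := Module.finite_of_finite F
  refine le_antisymm (fun z hz => ?_) hUM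
  obtain ⟨g, rfl⟩ := QuotientGroup.mk_surjective z
  obtain ⟨a, ha, hg⟩ := (mem_normalizer_TT hc pe.left_ne_zero pe.1 g).mp (hMN hz)
  obtain ⟨v, L, k, hv, cv, rfl, hke, hkf⟩ := stab_decomp pe ha hg
  have hk : k ∈ Lst H e f := ⟨a, ha, hke, hkf⟩
  have hkM : cls k ∈ M := by
    have h1 := M.mul_mem (M.inv_mem (hUM (cls_rt_mem_UU cv))) hz
    rwa [show (cls (rt H e v L))⁻¹ * cls (rt H e v L * k) = cls k by
      rw [show cls (rt H e v L * k) = cls (rt H e v L) * cls k from rfl]; group] at h1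
  suffices hk1 : cls k = 1 by
    show cls (rt H e v L) * cls k ∈ UU H e
    rw [hk1, mul_one]
    exact cls_rt_mem_UU cv
  let P : Subgroup (rootGen H) := Lst H e f ⊓ M.comap (QuotientGroup.mk' _)
  let W := {w : V // InW H e f w}
  have hone : ∀ w : W, opW H e f 1 w.1 = w.1 := fun w => by
    show H.conj (H.h e f) • w.1 = w.1
    rw [H.h_comm_one pe.2.2, map_one, one_smul]
  let act : ↥P →* Equiv.Perm W :=
    { toFun := fun q =>
        { toFun := fun w => ⟨opW H e f q.1 w.1, opW_inW pe q.2.1 w.2⟩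
          invFun := fun w => ⟨opW H e f (q⁻¹).1 w.1, opW_inW pe (q⁻¹).2.1 w.2⟩
          left_inv := fun w => Subtype.ext (by
            show opW H e f (q⁻¹).1 (opW H e f q.1 w.1) = w.1
            rw [← opW_mul pe (q⁻¹).2.1 q.2.1, Subgroup.coe_inv, inv_mul_cancel, hone])
          right_inv := fun w => Subtype.ext (by
            show opW H e f q.1 (opW H e f (q⁻¹).1 w.1) = w.1
            rw [← opW_mul pe q.2.1 (q⁻¹).2.1, Subgroup.coe_inv, mul_inv_cancel, hone]) }
      map_one' := Equiv.ext fun w => Subtype.ext (hone w)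
      map_mul' := fun q q' => Equiv.ext fun w => Subtype.ext (opW_mul pe q.2.1 q'.2.1 w.1) }
  have hR : IsPGroup p ↥act.range := by
    rintro ⟨_, q, rfl⟩
    obtain ⟨j, hj⟩ := hM ⟨cls q.1, q.2.2⟩
    refine ⟨j, Subtype.ext ?_⟩
    show act q ^ (p ^ j) = 1
    rw [← map_pow]
    have h1 : (q.1 ^ (p ^ j) : rootGen H) ∈ Subgroup.center (rootGen H) :=
      (QuotientGroup.eq_one_iff _).mp (congrArg Subtype.val hj)
    obtain ⟨μ, hμ, hμx⟩ := central_scalar hc h1
    refine Equiv.ext fun w => Subtype.ext ?_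
    show H.conj (H.h (ap (q ^ (p ^ j) : ↥P).1 e) f) • ap (q ^ (p ^ j) : ↥P).1 w.1 = w.1
    rw [SubmonoidClass.coe_pow, hμx, hμx, H.smul_left, H.h_comm_one pe.2.2, mul_one, smul_smul, mul_comm, hμ, one_smul]
  let W₀ : AddSubgroup V :=
    { carrier := {w | InW H e f w ∧ ∀ q ∈ P, opW H e f q w = w}
      add_mem' := fun {x y} hx hy => ⟨hx.1.add hy.1, fun q hq => by rw [opW_add, hx.2 q hq, hy.2 q hq]⟩
      zero_mem' := ⟨InW.zero, fun q _ => by rw [← zero_smul F (0 : V), opW_smul, zero_smul, zero_smul]⟩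
      neg_mem' := fun {x} hx => ⟨by simpa using hx.1.smul (-1), fun q hq => by
        rw [← neg_one_smul F x, opW_smul, hx.2 q hq]⟩ }
  have hW₀stab : ∀ l ∈ Lst H e f, ∀ w ∈ W₀, opW H e f l w ∈ W₀ := by
    intro l hl w hw
    refine ⟨opW_inW pe hl hw.1, fun q hq => ?_⟩
    have hq' : l⁻¹ * q * l ∈ P := by
      refine Subgroup.mem_inf.mpr ⟨(Lst H e f).mul_mem ((Lst H e f).mul_mem ((Lst H e f).inv_mem hl) hq.1) hl, ?_⟩
      have h1 := hnorm (cls l⁻¹) ((mem_normalizer_TT hc pe.left_ne_zero pe.1 _).mpr (by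
        obtain ⟨b, hb, hbe, -⟩ := (Lst H e f).inv_mem hl
        exact ⟨b, hb, hbe⟩)) _ hq.2
      show cls (l⁻¹ * q * l) ∈ M
      convert h1 using 1
      show _ = cls l⁻¹ * cls q * (cls l⁻¹)⁻¹
      rw [show cls l⁻¹ = (cls l)⁻¹ from rfl, inv_inv]
      rfl
    rw [← opW_mul pe hq.1 hl, show q * l = l * (l⁻¹ * q * l) by group, opW_mul pe hl hq'.1, hw.2 _ hq']
  have hex : ∃ w ∈ W₀, w ≠ 0 := by
    obtain ⟨y, hy, hyy⟩ := exists_nonisotropic_W hc pe
    have hy0 : y ≠ 0 := fun h0 => hyy (by rw [h0, H.zero_left])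
    let _ : Fintype W := Fintype.ofFinite _
    have hdvd : p ∣ Nat.card W := by
      let Ws : AddSubgroup V :=
        { carrier := {w | InW H e f w}
          add_mem' := InW.add
          zero_mem' := InW.zero
          neg_mem' := fun {x} hx => by simpa using InW.smul (-1) hx }
      have hp : addOrderOf (⟨y, hy⟩ : Ws) = p := by
        refine addOrderOf_eq_prime (Subtype.ext ?_) (fun h0 => hy0 (congrArg Subtype.val h0))
        show p • y = 0
        rw [← Nat.cast_smul_eq_nsmul F, CharP.cast_eq_zero, zero_smul]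
      exact hp ▸ addOrderOf_dvd_natCard (⟨y, hy⟩ : Ws)
    have h0 : (⟨0, InW.zero⟩ : W) ∈ MulAction.fixedPoints ↥act.range W := by
      rintro ⟨_, q, rfl⟩
      refine Subtype.ext ?_
      show opW H e f q.1 0 = 0
      rw [← zero_smul F (0 : V), opW_smul, zero_smul, zero_smul]
    obtain ⟨w, hw, hw0⟩ := hR.exists_fixed_point_of_prime_dvd_card_of_fixed_point W hdvd h0
    exact ⟨w.1, ⟨w.2, fun q hq => congrArg Subtype.val (hw ⟨_, ⟨q, hq⟩, rfl⟩)⟩, fun h => hw0 (Subtype.ext h.symm)⟩
  obtain ⟨w₁, hw₁, hw₁0⟩ := hex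
  have hall := irreducible_W hc pe W₀ (fun w hw => hw.1) hW₀stab hw₁ hw₁0
  have hop : ∀ w, InW H e f w → opW H e f k w = w := fun w hw => (hall w hw).2 k ⟨hk, hkM⟩
  have hlam' : lam H e f k = a := by rw [lam, hke, H.smul_left, H.h_comm_one pe.2.2, mul_one]
  obtain ⟨y, hy, hyy⟩ := exists_nonisotropic_W hc pe
  have hN1 : a * H.conj a = 1 := by
    have h2 : H.h (opW H e f k y) (opW H e f k y) = a * H.conj a * H.h y y := by
      rw [opW, hlam', H.smul_left, H.smul_right, ap_h, H.conj_conj]; ring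
    rw [hop y hy] at h2
    exact mul_right_cancel₀ hyy (by rw [one_mul, ← h2])
  have hca : (H.conj a)⁻¹ = a := by rw [eq_comm, ← one_div, eq_div_iff (H.conj_ne_zero ha), hN1]
  refine (QuotientGroup.eq_one_iff k).mpr ((mem_center_rootGen_iff_scalar hc.big pe k).mpr ⟨a, hN1, fun x => ?_⟩)
  have h1 := hop _ (pairProj_mem pe x)
  rw [opW, hlam'] at h1
  have h2 : ap k (pairProj H e f x) = a • pairProj H e f x := by
    conv_rhs => rw [← h1, smul_smul, hN1, one_smul]
  conv_lhs => rw [pair_decomp (H := H) (e := e) (f := f) x]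
  show k.1.1 _ = _
  rw [map_add, map_add, map_smul, map_smul]
  show ap k (pairProj H e f x) + H.h x f • ap k e + H.h x e • ap k f = _
  rw [h2, hke, hkf, hca]
  conv_rhs => rw [pair_decomp (H := H) (e := e) (f := f) x]
  module

/-- An automorphism fixing a long root group fixes its radical. -/
theorem UU_image (hc : Ctx H) (pe : IsHPair H e f) {β : MulAut (Gq H)}
    (hT : (TT H e).map β.toMonoidHom = TT H e) : (UU H e).map β.toMonoidHom = UU H e := by
  have := finite_Gq (H := H)
  obtain ⟨p, hp⟩ := CharP.exists F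
  have : Fact p.Prime := ⟨CharP.char_is_prime F p⟩
  have hiff : ∀ x, β x ∈ TT H e ↔ x ∈ TT H e := fun x => by
    conv_lhs => rw [← hT]
    exact Subgroup.mem_map_iff_mem β.injective
  have hNN : ∀ x, β x ∈ NN H e ↔ x ∈ NN H e := by
    intro x
    simp only [Subgroup.mem_normalizer_iff]
    constructor
    · intro h t
      rw [← hiff t, ← hiff (x * t * x⁻¹), map_mul, map_mul, map_inv]
      exact h (β t)
    · intro h t
      obtain ⟨t, rfl⟩ := β.surjective t
      rw [← map_inv, ← map_mul, ← map_mul, hiff, hiff]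
      exact h t
  have hUconj : ∀ n ∈ NN H e, ∀ x ∈ UU H e, n * x * n⁻¹ ∈ UU H e := by
    intro n hn x hx
    obtain ⟨g, rfl⟩ := QuotientGroup.mk_surjective n
    obtain ⟨a, ha, hg⟩ := (mem_normalizer_TT hc pe.left_ne_zero pe.1 g).mp hn
    obtain ⟨w, l, -, c, rfl⟩ := (mem_UU pe).mp hx
    show cls (g * rt H e w l * g⁻¹) ∈ UU H e
    have c' := (rootCond_map_iff g).mpr c
    rw [hg] at c'
    rw [rt_conj_stab ha hg c]
    exact cls_rt_mem_UU (c'.smul a ha)
  set U' := (UU H e).map β.toMonoidHom with hU'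
  have hU'N : U' ≤ NN H e := by rintro _ ⟨x, hx, rfl⟩; exact (hNN x).mpr (UU_le_NN hc pe hx)
  have hU'conj : ∀ n ∈ NN H e, ∀ x ∈ U', n * x * n⁻¹ ∈ U' := by
    rintro n hn _ ⟨x, hx, rfl⟩
    obtain ⟨n, rfl⟩ := β.surjective n
    refine ⟨n * x * n⁻¹, hUconj n ((hNN n).mp hn) x hx, ?_⟩
    show β _ = β n * β x * (β n)⁻¹
    simp
  have hMp : IsPGroup p ↥(UU H e ⊔ U') :=
    (isPGroup_UU p pe).to_sup_of_normal_right' (K := U') ((isPGroup_UU p pe).map β.toMonoidHom) (fun x hx => by
      refine Subgroup.mem_normalizer_iff.mpr fun y => ⟨fun hy => hU'conj x (UU_le_NN hc pe hx) y hy, fun hy => ?_⟩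
      have := hU'conj x⁻¹ (inv_mem (UU_le_NN hc pe hx)) _ hy
      simpa [mul_assoc] using this)
  have hM := UU_maximal p hc pe (UU H e ⊔ U') le_sup_left (sup_le (UU_le_NN hc pe) hU'N) hMp fun n hn x hx => by
    have : (UU H e ⊔ U').map (MulAut.conj n).toMonoidHom ≤ UU H e ⊔ U' := by
      rw [Subgroup.map_sup]
      refine sup_le_sup ?_ ?_ <;> rintro _ ⟨y, hy, rfl⟩
      · exact hUconj n hn y hy
      · exact hU'conj n hn y hy
    exact this (Subgroup.mem_map_of_mem _ hx)
  refine Subgroup.eq_of_le_of_card_ge (le_sup_right.trans hM.le) ?_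
  rw [hU', Subgroup.card_map_of_injective β.injective]

end CfsgLib.AutPSU
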