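import Mathlib
import Cfsg.Agent.Lib.AutPSU.Root

/-!
Semilinear isometries of a Hermitian space and the automorphisms they induce on the simple group.
-/

set_option autoImplicit false

namespace CfsgLib.AutPSU

open CfsgLib.Classical.Herm CfsgLib.Classical.Herm.HermSpace Module

variable {F V : Type*} [Field F] [AddCommGroup V] [Module F V]

/-- A semilinear bijection respecting the form. -/
structure SemiUnit (H : HermSpace F V) where
  tau : F ≃+* F
  M : V ≃+ V
  map_smul' : ∀ (c : F) (x : V), M (c • x) = tau c • M x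
  map_h : ∀ x y, H.h (M x) (M y) = tau (H.h x y)

namespace SemiUnit

variable {H : HermSpace F V} (s : SemiUnit H)

theorem symm_smul (c : F) (x : V) : s.M.symm (c • x) = s.tau.symm c • s.M.symm x := by
  refine s.M.injective ?_
  rw [s.map_smul', s.M.apply_symm_apply, s.M.apply_symm_apply, s.tau.apply_symm_apply]

theorem symm_h (x y : V) : H.h (s.M.symm x) (s.M.symm y) = s.tau.symm (H.h x y) := by
  refine s.tau.injective ?_
  rw [← s.map_h, s.M.apply_symm_apply, s.M.apply_symm_apply, s.tau.apply_symm_apply]

/-- The inverse. -/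
def inv : SemiUnit H where
  tau := s.tau.symm
  M := s.M.symm
  map_smul' := s.symm_smul
  map_h := s.symm_h

/-- The composite. -/
def comp (s t : SemiUnit H) : SemiUnit H where
  tau := t.tau.trans s.tau
  M := t.M.trans s.M
  map_smul' c x := by simp [AddEquiv.trans_apply, t.map_smul', s.map_smul']
  map_h x y := by simp [AddEquiv.trans_apply, t.map_h, s.map_h]

/-- Conjugation of one isometry. -/
def conjMap (g : Unit' H) : Unit' H :=
  ⟨{ toFun := fun x => s.M (g.1 (s.M.symm x))
     invFun := fun x => s.M ((g⁻¹).1 (s.M.symm x))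
     map_add' := fun x y => by simp
     map_smul' := fun c x => by
       simp only [RingHom.id_apply, s.symm_smul, LinearEquiv.map_smul, s.map_smul', s.tau.apply_symm_apply]
     left_inv := fun x => by
       simp only [s.M.symm_apply_apply, inv_apply_self, s.M.apply_symm_apply]
     right_inv := fun x => by
       simp only [s.M.symm_apply_apply, self_apply_inv, s.M.apply_symm_apply] },
   fun x y => by
     show H.h (s.M (g.1 (s.M.symm x))) (s.M (g.1 (s.M.symm y))) = H.h x y
     rw [s.map_h, unit_h, s.symm_h, s.tau.apply_symm_apply]⟩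

theorem conjMap_apply (g : Unit' H) (x : V) : (s.conjMap g).1 (s.M x) = s.M (g.1 x) := by
  show s.M (g.1 (s.M.symm (s.M x))) = _
  rw [s.M.symm_apply_apply]

theorem eq_conjMap {g g' : Unit' H} (h : ∀ x, g'.1 (s.M x) = s.M (g.1 x)) : g' = s.conjMap g :=
  unit_ext fun x => by rw [← s.M.apply_symm_apply x, h, conjMap_apply]

theorem tau_conj [Nontrivial V] (c : F) : s.tau (H.conj c) = H.conj (s.tau c) := by
  obtain ⟨u, hu⟩ := exists_ne (0 : V)
  obtain ⟨x, hx⟩ := H.exists_h_one hu
  have h1 := s.map_h (c • x) u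
  have h2 := s.map_h u (c • x)
  rw [H.smul_left, hx, mul_one] at h1
  rw [H.smul_right, H.h_comm_one hx, mul_one, ← H.symm', h1] at h2
  exact h2.symm

theorem rootCond [Nontrivial V] {u w : V} {l : F} (c : RootCond H u w l) :
    RootCond H (s.M u) (s.M w) (s.tau l) := by
  refine ⟨by rw [s.map_h, c.1, map_zero], by rw [s.map_h, c.2.1, map_zero], ?_⟩
  rw [s.map_h, ← s.tau_conj, ← map_add, ← map_add, c.2.2, map_zero]

theorem conjMap_root [Nontrivial V] {u w : V} {l : F} (c : RootCond H u w l) :
    s.conjMap (root H u w l c) = root H (s.M u) (s.M w) (s.tau l) (s.rootCond c) := by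
  refine (s.eq_conjMap fun x => ?_).symm
  rw [root_apply, root_apply, map_add, map_add, s.map_smul', s.map_smul', s.map_h, s.map_h, map_add, map_mul,
    map_neg]

/-- Conjugation as an automorphism of the unitary group. -/
def conjAut : Unit' H ≃* Unit' H where
  toFun := s.conjMap
  invFun := s.inv.conjMap
  left_inv g := (s.inv.eq_conjMap (g' := g) fun x => by
    show g.1 (s.M.symm x) = s.M.symm (s.M (g.1 (s.M.symm x)))
    rw [s.M.symm_apply_apply]).symm
  right_inv g := (s.eq_conjMap (g' := g) fun x => by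
    show g.1 (s.M x) = s.M (s.M.symm (g.1 (s.M x)))
    rw [s.M.apply_symm_apply]).symm
  map_mul' g g' := (s.eq_conjMap fun x => by
    rw [Classical.Herm.mul_apply, conjMap_apply, conjMap_apply, Classical.Herm.mul_apply]).symm

theorem map_rootGen [Nontrivial V] : (rootGen H).map s.conjAut.toMonoidHom = rootGen H := by
  have hle : ∀ t : SemiUnit H, (rootGen H).map t.conjAut.toMonoidHom ≤ rootGen H := by
    intro t
    rw [rootGen, MonoidHom.map_closure, Subgroup.closure_le]
    rintro _ ⟨_, ⟨u, w, l, c, rfl⟩, rfl⟩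
    show t.conjMap _ ∈ _
    rw [t.conjMap_root c]
    exact root_mem _
  refine le_antisymm (hle s) fun g hg => ?_
  exact ⟨s.inv.conjMap g, hle s.inv ⟨g, hg, rfl⟩, s.conjAut.apply_symm_apply g⟩

variable [Nontrivial V]

/-- Conjugation as an automorphism of the group generated by root elements. -/
noncomputable def genAut : MulAut (rootGen H) :=
  (s.conjAut.subgroupMap (rootGen H)).trans (MulEquiv.subgroupCongr s.map_rootGen)

theorem genAut_apply (g : rootGen H) (x : V) : ap (s.genAut g) (s.M x) = s.M (ap g x) :=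
  s.conjMap_apply g.1 x

/-- The induced automorphism of the simple group. -/
noncomputable def aut : MulAut (Gq H) :=
  QuotientGroup.congr _ _ s.genAut (by
    ext g
    show g ∈ (Subgroup.center (rootGen H)).map s.genAut.toMonoidHom ↔ _
    rw [Subgroup.map_equiv_eq_comap_symm', Subgroup.mem_comap, Subgroup.mem_center_iff, Subgroup.mem_center_iff]
    constructor
    · intro h y
      have := congrArg s.genAut (h (s.genAut.symm y))
      simpa using this
    · intro h y
      apply s.genAut.injective
      simpa using h (s.genAut y))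

theorem aut_cls (g : rootGen H) : s.aut (cls g) = cls (s.genAut g) := rfl

theorem aut_eq {g g' : rootGen H} (h : ∀ x, ap g' (s.M x) = s.M (ap g x)) : s.aut (cls g) = cls g' := by
  rw [aut_cls]
  refine congrArg cls (gen_ext fun x => ?_)
  rw [← s.M.apply_symm_apply x, genAut_apply, h]

theorem aut_rt {u w : V} {l : F} (c : RootCond H u w l) :
    s.aut (cls (rt H u w l)) = cls (rt H (s.M u) (s.M w) (s.tau l)) := by
  refine s.aut_eq fun x => ?_
  rw [rt_apply c, rt_apply (s.rootCond c), map_add, map_add, s.map_smul', s.map_smul', s.map_h, s.map_h, map_add,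
    map_mul, map_neg]

theorem aut_TT {u : V} (hu : H.h u u = 0) : (TT H u).map s.aut.toMonoidHom = TT H (s.M u) := by
  rw [TT, TT, MonoidHom.map_closure]
  congr 1
  ext z
  have hu' : H.h (s.M u) (s.M u) = 0 := by rw [s.map_h, hu, map_zero]
  constructor
  · rintro ⟨_, ⟨l, hl, rfl⟩, rfl⟩
    refine ⟨s.tau l, by rw [← s.tau_conj, ← map_add, hl, map_zero], ?_⟩
    show s.aut (cls (rt H u 0 l)) = _
    rw [s.aut_rt (tr_cond hu hl), map_zero]
    rfl
  · rintro ⟨l, hl, rfl⟩
    have hl' : s.tau.symm l + H.conj (s.tau.symm l) = 0 := s.tau.injective (by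
      rw [map_add, s.tau_conj, s.tau.apply_symm_apply, hl, map_zero])
    refine ⟨_, ⟨_, hl', rfl⟩, ?_⟩
    show s.aut (cls (rt H u 0 _)) = _
    rw [s.aut_rt (tr_cond hu hl'), map_zero, s.tau.apply_symm_apply]
    rfl

theorem aut_comp (s t : SemiUnit H) : (s.comp t).aut = s.aut * t.aut := by
  refine MulEquiv.ext fun z => ?_
  obtain ⟨g, rfl⟩ := QuotientGroup.mk_surjective z
  rw [MulAut.mul_apply, t.aut_cls, s.aut_cls]
  refine (s.comp t).aut_eq fun x => ?_
  show ap (s.genAut (t.genAut g)) (s.M (t.M x)) = s.M (t.M (ap g x))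
  rw [s.genAut_apply, t.genAut_apply]

end SemiUnit

/-- An isometry as a semilinear one. -/
def unitSemi {H : HermSpace F V} (g : Unit' H) : SemiUnit H where
  tau := RingEquiv.refl F
  M := g.1.toAddEquiv
  map_smul' c x := LinearEquiv.map_smul g.1 c x
  map_h x y := unit_h g x y

theorem unitSemi_aut {H : HermSpace F V} [Nontrivial V] (g : rootGen H) :
    (unitSemi g.1).aut = MulAut.conj (cls g) := by
  refine MulEquiv.ext fun z => ?_
  obtain ⟨a, rfl⟩ := QuotientGroup.mk_surjective z
  rw [MulAut.conj_apply, (unitSemi g.1).aut_eq (g' := g * a * g⁻¹) fun x => ?_]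
  · rfl
  show ap (g * a * g⁻¹) (ap g x) = ap g (ap a x)
  rw [ap_mul, ap_mul, ap_inv]

end CfsgLib.AutPSU
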