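import Mathlib
import Cfsg.Agent.Lib.AutPSU.Image
import Cfsg.Agent.Lib.AutPSU.Semi
import Cfsg.Agent.Lib.AutPSL.FieldAut

/-!
The map induced on the middle space by an automorphism fixing two opposite root groups.
-/

set_option autoImplicit false

namespace CfsgLib.AutPSU

open CfsgLib.Classical.Herm CfsgLib.Classical.Herm.HermSpace Module

variable {F V : Type*} [Field F] [AddCommGroup V] [Module F V] {H : HermSpace F V}

/-- The automorphism fixes the radical and the root groups of the pair. -/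
structure Fixes (H : HermSpace F V) (e f : V) (β : MulAut (Gq H)) : Prop where
  te : (TT H e).map β.toMonoidHom = TT H e
  tf : (TT H f).map β.toMonoidHom = TT H f
  ue : (UU H e).map β.toMonoidHom = UU H e
  uf : (UU H f).map β.toMonoidHom = UU H f

theorem Fixes.swap {e f : V} {β : MulAut (Gq H)} (h : Fixes H e f β) : Fixes H f e β := ⟨h.tf, h.te, h.uf, h.ue⟩

/-- `φ` is the map induced on the middle space. -/
def Induces (H : HermSpace F V) (e f : V) (β : MulAut (Gq H)) (φ : V → V) : Prop :=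
  ∀ w l, InW H e f w → RootCond H e w l →
    InW H e f (φ w) ∧ ∃ l', RootCond H e (φ w) l' ∧ β (cls (rt H e w l)) = cls (rt H e (φ w) l')

variable [FiniteDimensional F V] [Finite F] {e f : V}

omit [Finite F] in
theorem rt_split {w : V} {l l' : F} (c : RootCond H e w l) (c' : RootCond H e w l') :
    l' - l + H.conj (l' - l) = 0 ∧ rt H e w l' = rt H e w l * tr H e (l' - l) := by
  have hs : l' - l + H.conj (l' - l) = 0 := by
    rw [map_sub]; linear_combination c'.2.2 - c.2.2
  refine ⟨hs, ?_⟩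
  rw [tr, rt_mul c (tr_cond c.1 hs), add_zero, H.zero_left, sub_zero, add_sub_cancel]

theorem exists_induces (hc : Ctx H) (p : IsHPair H e f) {β : MulAut (Gq H)} (hβ : Fixes H e f β) :
    ∃ φ : V → V, Induces H e f β φ := by
  have key : ∀ w, InW H e f w → ∃ v, InW H e f v ∧ ∀ l, RootCond H e w l →
      ∃ l', RootCond H e v l' ∧ β (cls (rt H e w l)) = cls (rt H e v l') := by
    intro w hw
    obtain ⟨l₀, c₀⟩ := exists_root_cond p.1 hw
    obtain ⟨v, l₀', hv, cv, he⟩ := (mem_UU p).mp (hβ.ue ▸ Subgroup.mem_map_of_mem β.toMonoidHom (cls_rt_mem_UU c₀))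
    refine ⟨v, hv, fun l c => ?_⟩
    obtain ⟨hs, heq⟩ := rt_split c₀ c
    obtain ⟨d, hd, hd'⟩ := (mem_TT p.1).mp (hβ.te ▸ Subgroup.mem_map_of_mem β.toMonoidHom (trc_mem_TT (u := e) hs))
    have hmul := rt_mul cv (tr_cond p.1 hd)
    rw [add_zero, H.zero_left, sub_zero] at hmul
    refine ⟨l₀' + d, ?_, ?_⟩
    · have := cv.add (tr_cond p.1 hd)
      rwa [add_zero, H.zero_left, sub_zero] at this
    rw [heq, ← hmul]
    show β (cls (rt H e w l₀) * trc H e (l - l₀)) = cls (rt H e v l₀') * trc H e d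
    rw [map_mul]
    exact congrArg₂ (· * ·) he hd'
  classical
  choose v hv hv' using key
  refine ⟨fun w => if h : InW H e f w then v w h else 0, fun w l hw c => ?_⟩
  simp only [dif_pos hw]
  exact ⟨hv w hw, hv' w hw l c⟩

namespace Induces

variable {β : MulAut (Gq H)} {φ : V → V}

omit [FiniteDimensional F V] [Finite F] in
theorem inW (hφ : Induces H e f β φ) (p : IsHPair H e f) {w : V} (hw : InW H e f w) : InW H e f (φ w) := by
  obtain ⟨l, c⟩ := exists_root_cond p.1 hw
  exact (hφ w l hw c).1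

omit [Finite F] in
theorem unique (hc : Ctx H) (hφ : Induces H e f β φ) (p : IsHPair H e f) {w v : V} {l L : F} (hw : InW H e f w)
    (hv : InW H e f v) (c : RootCond H e w l) (cv : RootCond H e v L)
    (h : β (cls (rt H e w l)) = cls (rt H e v L)) : φ w = v := by
  obtain ⟨hw', l', c', he⟩ := hφ w l hw c
  exact (rt_inj hc p hw' hv c' cv (he.symm.trans h)).1

omit [Finite F] in
theorem map_add (hc : Ctx H) (hφ : Induces H e f β φ) (p : IsHPair H e f) {w w' : V} (hw : InW H e f w)
    (hw' : InW H e f w') : φ (w + w') = φ w + φ w' := by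
  obtain ⟨l, c⟩ := exists_root_cond p.1 hw
  obtain ⟨l', c'⟩ := exists_root_cond p.1 hw'
  obtain ⟨hv, L, C, he⟩ := hφ w l hw c
  obtain ⟨hv', L', C', he'⟩ := hφ w' l' hw' c'
  refine hφ.unique hc p (hw.add hw') (hv.add hv') (c.add c') (C.add C') ?_
  rw [← rt_mul c c', ← rt_mul C C']
  show β (cls (rt H e w l) * cls (rt H e w' l')) = cls (rt H e (φ w) L) * cls (rt H e (φ w') L')
  rw [_root_.map_mul, he, he']

omit [Finite F] in
theorem map_zero (hc : Ctx H) (hφ : Induces H e f β φ) (p : IsHPair H e f) : φ 0 = 0 := by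
  have := hφ.map_add hc p InW.zero InW.zero
  rwa [add_zero, left_eq_add] at this

omit [Finite F] in
theorem map_neg (hc : Ctx H) (hφ : Induces H e f β φ) (p : IsHPair H e f) {w : V} (hw : InW H e f w) :
    φ (-w) = -φ w := by
  refine eq_neg_of_add_eq_zero_left ?_
  rw [← hφ.map_add hc p (by simpa using hw.smul (-1)) hw, neg_add_cancel, hφ.map_zero hc p]

omit [Finite F] in
theorem map_sub (hc : Ctx H) (hφ : Induces H e f β φ) (p : IsHPair H e f) {w w' : V} (hw : InW H e f w)
    (hw' : InW H e f w') : φ (w - w') = φ w - φ w' := by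
  rw [sub_eq_add_neg, hφ.map_add hc p hw (by simpa using hw'.smul (-1)), hφ.map_neg hc p hw', ← sub_eq_add_neg]

omit [Finite F] in
theorem eq_zero (hc : Ctx H) (hβ : Fixes H e f β) (hφ : Induces H e f β φ) (p : IsHPair H e f) {w : V}
    (hw : InW H e f w) (h : φ w = 0) : w = 0 := by
  obtain ⟨l, c⟩ := exists_root_cond p.1 hw
  obtain ⟨-, L, C, he⟩ := hφ w l hw c
  rw [h] at C he
  have hL : L + H.conj L = 0 := by simpa [H.zero_left] using C.2.2
  have hmem : β (cls (rt H e w l)) ∈ (TT H e).map β.toMonoidHom := by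
    rw [hβ.te, he]; exact trc_mem_TT hL
  obtain ⟨z, hz, hzeq⟩ := hmem
  obtain ⟨d, hd, rfl⟩ := (mem_TT p.1).mp hz
  exact (rt_inj hc p InW.zero hw (tr_cond p.1 hd) c (β.injective hzeq)).1.symm

omit [Finite F] in
theorem surj (hc : Ctx H) (hβ : Fixes H e f β) (hφ : Induces H e f β φ) (p : IsHPair H e f) {v : V}
    (hv : InW H e f v) : ∃ w, InW H e f w ∧ φ w = v := by
  obtain ⟨L, cv⟩ := exists_root_cond p.1 hv
  have hmem : cls (rt H e v L) ∈ (UU H e).map β.toMonoidHom := by rw [hβ.ue]; exact cls_rt_mem_UU cv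
  obtain ⟨z, hz, hzeq⟩ := hmem
  obtain ⟨w, l, hw, c, rfl⟩ := (mem_UU p).mp hz
  exact ⟨w, hw, hφ.unique hc p hw hv c cv hzeq⟩

omit [Finite F] in
/-- The Levi part goes to the Levi part, compatibly. -/
theorem levi (hc : Ctx H) (hβ : Fixes H e f β) (hφ : Induces H e f β φ) (p : IsHPair H e f) {k : rootGen H}
    (hk : k ∈ Lst H e f) : ∃ k' ∈ Lst H e f, β (cls k) = cls k' ∧
      ∀ w, InW H e f w → φ (opW H e f k w) = opW H e f k' (φ w) := by
  obtain ⟨ha, hke, hkf⟩ := Lst_spec p hk
  obtain ⟨k', hk'⟩ := QuotientGroup.mk_surjective (β (cls k))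
  have hN : ∀ {u : V}, u ≠ 0 → H.h u u = 0 → (TT H u).map β.toMonoidHom = TT H u →
      (∃ a : F, a ≠ 0 ∧ ap k u = a • u) → ∃ a : F, a ≠ 0 ∧ ap k' u = a • u := by
    intro u hu0 hu hT hex
    refine (mem_normalizer_TT hc hu0 hu k').mp ?_
    show cls k' ∈ _
    rw [show cls k' = β (cls k) from hk', Subgroup.mem_normalizer_iff]
    intro t
    obtain ⟨t, rfl⟩ := β.surjective t
    rw [← _root_.map_inv, ← _root_.map_mul, ← _root_.map_mul]
    have hiff : ∀ x, β x ∈ TT H u ↔ x ∈ TT H u := fun x => by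
      conv_lhs => rw [← hT]
      exact Subgroup.mem_map_iff_mem β.injective
    rw [hiff, hiff]
    exact Subgroup.mem_normalizer_iff.mp ((mem_normalizer_TT hc hu0 hu k).mpr hex) t
  obtain ⟨a, ha', hae⟩ := hN p.left_ne_zero p.1 hβ.te ⟨_, ha, hke⟩
  obtain ⟨b, hb, hbf⟩ := hN p.swap.left_ne_zero p.2.1 hβ.tf ⟨_, inv_ne_zero (H.conj_ne_zero ha), hkf⟩
  have hab : b = (H.conj a)⁻¹ := by
    have h1 := ap_h k' f e
    rw [hbf, hae, H.smul_left, H.smul_right, p.2.2, mul_one] at h1
    exact eq_inv_of_mul_eq_one_left h1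
  have hk'L : k' ∈ Lst H e f := ⟨a, ha', hae, by rw [← hab]; exact hbf⟩
  refine ⟨k', hk'L, hk'.symm, fun w hw => ?_⟩
  obtain ⟨l, c⟩ := exists_root_cond p.1 hw
  obtain ⟨hv, L, C, he⟩ := hφ w l hw c
  have h1 := rt_conj_Lst p hk c
  have h2 := rt_conj_Lst p hk'L C
  have cw : RootCond H e (opW H e f k w) (lam H e f k * H.conj (lam H e f k) * l) := by
    have := ((rootCond_map_iff k).mpr c)
    rw [hke] at this
    exact this.smul _ ha
  obtain ⟨ha'', hke', -⟩ := Lst_spec p hk'L
  have cv : RootCond H e (opW H e f k' (φ w)) (lam H e f k' * H.conj (lam H e f k') * L) := by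
    have := ((rootCond_map_iff k').mpr C)
    rw [hke'] at this
    exact this.smul _ ha''
  refine hφ.unique hc p (opW_inW p hk hw) (opW_inW p hk'L hv) cw cv ?_
  rw [← h1, ← h2, _root_.map_mul, _root_.map_mul, _root_.map_inv, he]
  rw [show cls k' = β (cls k) from hk']

end Induces

omit [Finite F] in
theorem opW_congr (hc : Ctx H) (p : IsHPair H e f) {k k' : rootGen H} (h : cls k = cls k') (w : V) :
    opW H e f k w = opW H e f k' w := by
  obtain ⟨μ, hμ, hμx⟩ := central_scalar hc (QuotientGroup.eq.mp h)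
  have hx : ∀ x, ap k' x = μ • ap k x := fun x => by
    have := congrArg (ap k) (hμx x)
    rw [ap_mul, ap_inv', show ap k (μ • x) = μ • ap k x from LinearEquiv.map_smul k.1.1 μ x] at this
    exact this
  simp only [opW, lam, hx, H.smul_left, map_mul, smul_smul]
  congr 1
  linear_combination -(H.conj (H.h (ap k e) f)) * hμ

omit [Finite F] in
theorem cls_eq_one_of_opW (hc : Ctx H) (p : IsHPair H e f) {k : rootGen H} (hk : k ∈ Lst H e f)
    (h : ∀ w, InW H e f w → opW H e f k w = w) : cls k = 1 := by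
  obtain ⟨ha, hke, hkf⟩ := Lst_spec p hk
  set a := lam H e f k with hlam
  obtain ⟨y, hy, hyy⟩ := exists_nonisotropic_W hc p
  have hN1 : a * H.conj a = 1 := by
    have h2 : H.h (opW H e f k y) (opW H e f k y) = a * H.conj a * H.h y y := by
      rw [opW, ← hlam, H.smul_left, H.smul_right, ap_h, H.conj_conj]; ring
    rw [h y hy] at h2
    exact mul_right_cancel₀ hyy (by rw [one_mul, ← h2])
  have hca : (H.conj a)⁻¹ = a := by rw [eq_comm, ← one_div, eq_div_iff (H.conj_ne_zero ha), hN1]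
  refine (QuotientGroup.eq_one_iff k).mpr ((mem_center_rootGen_iff_scalar hc.big p k).mpr ⟨a, hN1, fun x => ?_⟩)
  have h1 := h _ (pairProj_mem p x)
  rw [opW, ← hlam] at h1
  have h2 : ap k (pairProj H e f x) = a • pairProj H e f x := by
    conv_rhs => rw [← h1, smul_smul, hN1, one_smul]
  conv_lhs => rw [pair_decomp (H := H) (e := e) (f := f) x]
  show k.1.1 _ = _
  rw [map_add, map_add, map_smul, map_smul]
  show ap k (pairProj H e f x) + H.h x f • ap k e + H.h x e • ap k f = _
  rw [h2, hke, hkf, hca]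
  conv_rhs => rw [pair_decomp (H := H) (e := e) (f := f) x]
  module

omit [FiniteDimensional F V] in
/-- An additive map of a line commuting up to scalars with generators of the field is semilinear. -/
theorem line_semilinear (φ : V → V) (x : V) (hadd : ∀ r s : F, φ ((r + s) • x) = φ (r • x) + φ (s • x))
    (hinj : ∀ r : F, φ (r • x) = 0 → r = 0) (M : F → Prop)
    (hM : ∀ m, M m → ∃ m' : F, ∀ r : F, φ ((m * r) • x) = m' • φ (r • x))
    (hgen : ∀ S : Subring F, (∀ m, M m → m ∈ S) → S = ⊤) :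
    ∃ τ : F ≃+* F, ∀ r : F, φ (r • x) = τ r • φ x := by
  have h0 : φ ((0 : F) • x) = 0 := by simpa using hadd 0 0
  have hneg : ∀ r : F, φ ((-r) • x) = -φ (r • x) := fun r =>
    eq_neg_of_add_eq_zero_left (by rw [← hadd, neg_add_cancel, h0])
  let S : Subring F :=
    { carrier := {m | ∃ m' : F, ∀ r : F, φ ((m * r) • x) = m' • φ (r • x)}
      mul_mem' := by
        rintro a b ⟨a', ha⟩ ⟨b', hb⟩
        exact ⟨a' * b', fun r => by rw [mul_assoc, ha, hb, smul_smul]⟩
      one_mem' := ⟨1, fun r => by rw [one_mul, one_smul]⟩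
      add_mem' := by
        rintro a b ⟨a', ha⟩ ⟨b', hb⟩
        exact ⟨a' + b', fun r => by rw [add_mul, hadd, ha, hb, add_smul]⟩
      zero_mem' := ⟨0, fun r => by rw [zero_mul, h0, zero_smul]⟩
      neg_mem' := by
        rintro a ⟨a', ha⟩
        exact ⟨-a', fun r => by rw [neg_mul, hneg, ha, neg_smul]⟩ }
  have hS : S = ⊤ := hgen S hM
  choose τ hτ using fun m => (hS.ge (Subring.mem_top m) : m ∈ S)
  have hτx : ∀ r, φ (r • x) = τ r • φ x := fun r => by simpa using hτ r 1
  have hx : φ x ≠ 0 := fun h => one_ne_zero (hinj 1 (by rwa [one_smul]))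
  have hinjs := smul_left_injective F hx
  have h1 : τ 1 = 1 := hinjs (by show τ 1 • φ x = (1 : F) • φ x; rw [← hτx, one_smul, one_smul])
  have hτ0 : τ 0 = 0 := hinjs (by show τ 0 • φ x = (0 : F) • φ x; rw [← hτx, h0, zero_smul])
  have hmul : ∀ a b, τ (a * b) = τ a * τ b := fun a b => hinjs (by
    show τ (a * b) • φ x = (τ a * τ b) • φ x
    rw [← hτx, hτ, hτx, smul_smul])
  have hadd' : ∀ a b, τ (a + b) = τ a + τ b := fun a b => hinjs (by
    show τ (a + b) • φ x = (τ a + τ b) • φ x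
    rw [← hτx, hadd, hτx, hτx, add_smul])
  let T : F →+* F := { toFun := τ, map_one' := h1, map_mul' := hmul, map_zero' := hτ0, map_add' := hadd' }
  exact ⟨RingEquiv.ofBijective T ⟨T.injective, Finite.injective_iff_surjective.mp T.injective⟩, hτx⟩

end CfsgLib.AutPSU
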