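import Mathlib
import Cfsg.Agent.Lib.AutPSU.Middle
import Cfsg.Agent.Lib.AutPSU.Torus
import Cfsg.Agent.Lib.AutPSL.FieldAut

/-!
The induced map on the middle space is semilinear and respects the form up to a factor.
-/

set_option autoImplicit false

namespace CfsgLib.AutPSU

open CfsgLib.Classical.Herm CfsgLib.Classical.Herm.HermSpace Module

variable {F V : Type*} [Field F] [AddCommGroup V] [Module F V] {H : HermSpace F V}
  [FiniteDimensional F V] [Finite F] {e f : V} {β : MulAut (Gq H)} {φ : V → V}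

omit [FiniteDimensional F V] in
theorem tau_comm (τ : F ≃+* F) (c : F) : τ (H.conj c) = H.conj (τ c) := by
  let σ : F ≃+* F := RingEquiv.ofBijective H.conj
    ⟨H.conj.injective, fun b => ⟨H.conj b, H.conj_conj b⟩⟩
  let _ := Fintype.ofFinite F
  exact congrArg (fun ρ : F ≃+* F => ρ c) (CfsgLib.AutPSL.ringAut_comm τ σ)

omit [Finite F] in
theorem exists_partner_W (p : IsHPair H e f) {x : V} (hx : InW H e f x) (hx0 : x ≠ 0) (hxx : H.h x x = 0) :
    ∃ z, InW H e f z ∧ IsHPair H x z := by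
  obtain ⟨v, hv, hne⟩ : ∃ v, InW H e f v ∧ H.h x v ≠ 0 := by
    by_contra! hcon
    exact hx0 (eq_zero_of_orth_W p hx hcon)
  obtain ⟨t, pt⟩ := pair_of_one (v := (H.h v x)⁻¹ • v) hxx (by
    rw [H.smul_left, inv_mul_cancel₀ fun h0 => hne (H.h_comm_zero h0)])
  exact ⟨_, (hv.smul _).add (hx.smul t), pt⟩

omit [Finite F] in
/-- A property of middle vectors closed under sums and multiples holds everywhere once it holds at isotropic ones. -/
theorem W_induction (P : V → Prop) {x z : V} (hx : InW H e f x) (hz : InW H e f z) (pw : IsHPair H x z)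
    (hsub : ∀ v v', InW H e f v → InW H e f v' → P v → P v' → P (v - v'))
    (hsmul : ∀ (a : F) v, InW H e f v → P v → P (a • v))
    (hiso : ∀ v, InW H e f v → v ≠ 0 → H.h v v = 0 → P v) {w : V} (hw : InW H e f w) : P w := by
  have one : ∀ v, InW H e f v → H.h v x = 1 → P v := by
    intro v hv hv1
    obtain ⟨t, pv⟩ := pair_of_one pw.1 hv1
    have h1 := hsub _ _ (hv.add (hx.smul t)) (hx.smul t) (hiso _ (hv.add (hx.smul t)) pv.swap.left_ne_zero pv.2.1)
      (hsmul t x hx (hiso x hx pw.left_ne_zero pw.1))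
    rwa [add_sub_cancel_right] at h1
  by_cases h0 : H.h w x = 0
  · have h1 := hsub _ _ (hw.add hz) hz (one _ (hw.add hz) (by rw [H.add_left, h0, zero_add, pw.2.2]))
      (one z hz pw.2.2)
    rwa [add_sub_cancel_right] at h1
  · have h1 := hsmul (H.h w x) _ (hw.smul _) (one ((H.h w x)⁻¹ • w) (hw.smul _)
      (by rw [H.smul_left, inv_mul_cancel₀ h0]))
    rwa [smul_inv_smul₀ h0] at h1

namespace Induces

/-- The effect of the transvection at an isotropic middle vector. -/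
theorem transvect (hc : Ctx H) (hβ : Fixes H e f β) (hφ : Induces H e f β φ) (p : IsHPair H e f) {x : V}
    (hx : InW H e f x) (hx0 : x ≠ 0) (hxx : H.h x x = 0) :
    ∃ u, InW H e f u ∧ H.h u u = 0 ∧ ∀ l, l + H.conj l = 0 → ∃ m, m + H.conj m = 0 ∧
      ∀ w, InW H e f w → φ ((l * H.h w x) • x) = (m * H.h (φ w) u) • u := by
  obtain ⟨u, hu0, huu, hT⟩ := exists_TT_image hc β hx0 hxx
  have horth : ∀ v, v ≠ 0 → H.h v v = 0 → (TT H v).map β.toMonoidHom = TT H v → H.h x v = 0 → H.h u v = 0 := by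
    intro v hv0 hvv hv hxv
    obtain ⟨l, hl0, hl⟩ := H.exists_skew
    obtain ⟨m₁, hm₁, h1⟩ := (mem_TT huu).mp (hT ▸ Subgroup.mem_map_of_mem β.toMonoidHom (trc_mem_TT (u := x) hl))
    obtain ⟨m₂, hm₂, h2⟩ := (mem_TT hvv).mp (hv ▸ Subgroup.mem_map_of_mem β.toMonoidHom (trc_mem_TT (u := v) hl))
    have hcm : Commute (trc H u m₁) (trc H v m₂) := by
      rw [← h1, ← h2]
      exact (commute_of_orth hxx hvv hl hl hxv).map β.toMonoidHom
    refine orth_of_commute hc hu0 hv0 huu hvv hm₁ hm₂ (fun h0 => ?_) (fun h0 => ?_) hcm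
    · refine hl0 (trc_inj hc hx0 hxx hl (by simp) (β.injective (h1.trans ?_)))
      simp only [h0, trc, tr_zero huu, tr_zero hxx]
      exact (_root_.map_one β).symm
    · refine hl0 (trc_inj hc hv0 hvv hl (by simp) (β.injective (h2.trans ?_)))
      simp only [h0, trc, tr_zero hvv]
      exact (_root_.map_one β).symm
  have hu : InW H e f u := ⟨horth e p.left_ne_zero p.1 hβ.te hx.1, horth f p.swap.left_ne_zero p.2.1 hβ.tf hx.2⟩
  refine ⟨u, hu, huu, fun l hl => ?_⟩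
  obtain ⟨m, hm, h1⟩ := (mem_TT huu).mp (hT ▸ Subgroup.mem_map_of_mem β.toMonoidHom (trc_mem_TT (u := x) hl))
  obtain ⟨hk, hlam⟩ := tr_mem_Lst p hx hxx hl
  obtain ⟨k', hk', hk'e, hop⟩ := hφ.levi hc hβ p hk
  have hcls : cls k' = cls (tr H u m) := hk'e.symm.trans h1
  refine ⟨m, hm, fun w hw => ?_⟩
  have h2 := hop w hw
  rw [opW_congr hc p hcls] at h2
  simp only [opW, hlam, (tr_mem_Lst p hu huu hm).2, _root_.map_one, one_smul, tr_apply hxx hl,
    tr_apply huu hm] at h2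
  rw [hφ.map_add hc p hw (hx.smul _)] at h2
  exact add_left_cancel h2

theorem iso_line (hc : Ctx H) (hβ : Fixes H e f β) (hφ : Induces H e f β φ) (p : IsHPair H e f) {x : V}
    (hx : InW H e f x) (hx0 : x ≠ 0) (hxx : H.h x x = 0) : ∀ r : F, ∃ c : F, φ (r • x) = c • φ x := by
  obtain ⟨z, hz, pw⟩ := exists_partner_W p hx hx0 hxx
  obtain ⟨u, -, -, hu⟩ := hφ.transvect hc hβ p hx hx0 hxx
  obtain ⟨l, hl0, hl⟩ := H.exists_skew
  obtain ⟨m, -, hm⟩ := hu l hl
  have key : ∀ r : F, ∃ c : F, φ (r • x) = c • u := fun r => by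
    refine ⟨m * H.h (φ ((r / l) • z)) u, ?_⟩
    rw [← hm _ (hz.smul _), H.smul_left, pw.2.2, mul_one, mul_div_cancel₀ _ hl0]
  intro r
  obtain ⟨a, ha⟩ := key 1
  obtain ⟨c, hc'⟩ := key r
  rw [one_smul] at ha
  have ha0 : a ≠ 0 := fun h0 => hx0 (hφ.eq_zero hc hβ p hx (by rw [ha, h0, zero_smul]))
  exact ⟨c / a, by rw [hc', ha, smul_smul, div_mul_cancel₀ _ ha0]⟩

/-- A line with enough torus is mapped semilinearly. -/
theorem line_of_torus (hc : Ctx H) (hβ : Fixes H e f β) (hφ : Induces H e f β φ) (p : IsHPair H e f) {x : V}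
    (hx : InW H e f x) (hx0 : x ≠ 0) (hline : ∀ r : F, ∃ c : F, φ (r • x) = c • φ x) (M : F → Prop)
    (hM : ∀ m, M m → ∃ k ∈ Lst H e f, opW H e f k x = m • x)
    (hgen : ∀ S : Subring F, (∀ m, M m → m ∈ S) → S = ⊤) :
    ∃ τ : F ≃+* F, ∀ r : F, φ (r • x) = τ r • φ x := by
  choose g hg using hline
  refine line_semilinear φ x (fun r s => by rw [add_smul, hφ.map_add hc p (hx.smul r) (hx.smul s)])
    (fun r hr => (smul_eq_zero.mp (hφ.eq_zero hc hβ p (hx.smul r) hr)).resolve_right hx0) M ?_ hgen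
  intro m hm
  obtain ⟨k, hk, hkx⟩ := hM m hm
  obtain ⟨k', -, -, hop⟩ := hφ.levi hc hβ p hk
  refine ⟨g m, fun r => ?_⟩
  have h1 := hop _ (hx.smul r)
  rw [opW_smul, hkx, smul_smul, mul_comm r m, hg r, opW_smul, ← hop x hx, hkx, hg m, smul_smul] at h1
  rw [h1, hg r, smul_smul, mul_comm]

theorem iso_semilinear (hc : Ctx H) (hβ : Fixes H e f β) (hφ : Induces H e f β φ) (p : IsHPair H e f) {x : V}
    (hx : InW H e f x) (hx0 : x ≠ 0) (hxx : H.h x x = 0) :
    ∃ τ : F ≃+* F, ∀ r : F, φ (r • x) = τ r • φ x := by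
  obtain ⟨z, hz, pw⟩ := exists_partner_W p hx hx0 hxx
  refine hφ.line_of_torus hc hβ p hx hx0 (hφ.iso_line hc hβ p hx hx0 hxx) (fun m => ∃ a : F, a ≠ 0 ∧ m = a * a) ?_
    (fun S hS => subring_top_sq S fun a ha => hS _ ⟨a, ha, rfl⟩)
  rintro _ ⟨a, ha, rfl⟩
  obtain ⟨k, hk, hlam, hkx, -⟩ := torus_four hc p hx hz pw (H.conj_ne_zero ha)
  exact ⟨k, hk, by rw [opW, hlam, hkx, H.conj_conj, smul_smul]⟩

theorem tau_eq (hc : Ctx H) (hβ : Fixes H e f β) (hφ : Induces H e f β φ) (p : IsHPair H e f) {x w : V}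
    (hx : InW H e f x) (hx0 : x ≠ 0) (hxx : H.h x x = 0) (hw : InW H e f w) (hne : H.h w x ≠ 0)
    {τ σ : F ≃+* F} (hτ : ∀ r : F, φ (r • x) = τ r • φ x) (hσ : ∀ r : F, φ (r • w) = σ r • φ w) :
    τ = σ := by
  obtain ⟨u, -, -, hu⟩ := hφ.transvect hc hβ p hx hx0 hxx
  obtain ⟨l, hl0, hl⟩ := H.exists_skew
  obtain ⟨m, -, hm⟩ := hu l hl
  have hφx : φ x ≠ 0 := fun h0 => hx0 (hφ.eq_zero hc hβ p hx h0)
  have h1 := hm w hw
  rw [hτ] at h1
  refine RingEquiv.ext fun r => ?_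
  have h2 := hm _ (hw.smul r)
  rw [H.smul_left, mul_left_comm, hτ, _root_.map_mul, hσ, H.smul_left, mul_left_comm m, ← smul_smul,
    ← smul_smul (σ r), ← h1] at h2
  exact smul_left_injective F (smul_ne_zero (τ.injective.ne_iff' (_root_.map_zero τ) |>.mpr (mul_ne_zero hl0 hne)) hφx) h2

/-- The map is semilinear. -/
theorem semilinear (hc : Ctx H) (hβ : Fixes H e f β) (hφ : Induces H e f β φ) (p : IsHPair H e f) :
    ∃ τ : F ≃+* F, ∀ (a : F) w, InW H e f w → φ (a • w) = τ a • φ w := by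
  obtain ⟨y, hy, hyy⟩ := exists_nonisotropic_W hc p
  have hy0 : y ≠ 0 := fun h0 => hyy (by rw [h0, H.zero_left])
  rcases hc.dim with h4 | ⟨h3, hk⟩
  · obtain ⟨x, z, hx, hz, pw, -⟩ := exists_pair_W hc p h4 hy hy0
    obtain ⟨τ, hτ⟩ := hφ.iso_semilinear hc hβ p hx pw.left_ne_zero pw.1
    obtain ⟨σ, hσ⟩ := hφ.iso_semilinear hc hβ p hz pw.swap.left_ne_zero pw.2.1
    have hzx : H.h z x ≠ 0 := by rw [pw.2.2]; exact one_ne_zero
    obtain rfl := hφ.tau_eq hc hβ p hx pw.left_ne_zero pw.1 hz hzx hτ hσ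
    refine ⟨τ, fun a w hw => W_induction (P := fun v => ∀ a : F, φ (a • v) = τ a • φ v) hx hz pw ?_ ?_ ?_ hw a⟩
    · intro v v' hv hv' h1 h2 a
      rw [smul_sub, hφ.map_sub hc p (hv.smul a) (hv'.smul a), h1, h2, hφ.map_sub hc p hv hv', smul_sub]
    · intro b v _ h1 a
      rw [smul_smul, h1, h1, smul_smul, _root_.map_mul]
    intro v hv hv0 hvv
    obtain ⟨ρ, hρ⟩ := hφ.iso_semilinear hc hβ p hv hv0 hvv
    by_cases h0 : H.h x v = 0 ∧ H.h z v = 0
    · have hxv : H.h v x = 0 := H.h_comm_zero h0.1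
      have hs : H.h (v + x) (v + x) = 0 := by
        rw [H.add_left, H.add_right, H.add_right, hvv, hxv, h0.1, pw.1]; ring
      have hne : H.h z (v + x) ≠ 0 := by
        rw [H.add_right, h0.2, zero_add, pw.2.2]; exact one_ne_zero
      have hs0 : v + x ≠ 0 := fun h => hne (by rw [h, H.zero_right])
      obtain ⟨ρ', hρ'⟩ := hφ.iso_semilinear hc hβ p (hv.add hx) hs0 hs
      obtain rfl := hφ.tau_eq hc hβ p (hv.add hx) hs0 hs hz hne hρ' hσ
      intro a
      have h1 := hρ' a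
      rw [smul_add, hφ.map_add hc p (hv.smul a) (hx.smul a), hτ, hφ.map_add hc p hv hx, smul_add] at h1
      exact add_right_cancel h1
    · rw [not_and_or] at h0
      rcases h0 with h0 | h0
      · obtain rfl := hφ.tau_eq hc hβ p hv hv0 hvv hx h0 hρ hτ
        exact hρ
      · obtain rfl := hφ.tau_eq hc hβ p hv hv0 hvv hz h0 hρ hσ
        exact hρ
  · have hφy : φ y ≠ 0 := fun h0 => hy0 (hφ.eq_zero hc hβ p hy h0)
    have hline : ∀ r : F, ∃ c : F, φ (r • y) = c • φ y := fun r => by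
      obtain ⟨c, h1⟩ : ∃ c : F, φ y = c • y := ⟨_, W_line_three p h3 hy hyy (hφ.inW p hy)⟩
      obtain ⟨d, h2⟩ : ∃ d : F, φ (r • y) = d • y := ⟨_, W_line_three p h3 hy hyy (hφ.inW p (hy.smul r))⟩
      have h0 : c ≠ 0 := fun h0 => hφy (by rw [h1, h0, zero_smul])
      exact ⟨d / c, by rw [h1, h2, smul_smul, div_mul_cancel₀ _ h0]⟩
    obtain ⟨τ, hτ⟩ := hφ.line_of_torus hc hβ p hy hy0 hline
      (fun m => ∃ a : F, a ≠ 0 ∧ m = H.conj a * (H.conj a / a)) (by
        rintro _ ⟨a, ha, rfl⟩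
        obtain ⟨k, hk', hlam, hkw⟩ := torus_three hc p h3 ha
        exact ⟨k, hk', by rw [opW, hlam, hkw y hy, smul_smul]⟩)
      (fun S hS => subring_top_three hk S fun a ha => hS _ ⟨a, ha, rfl⟩)
    refine ⟨τ, fun a w hw => ?_⟩
    rw [W_line_three p h3 hy hyy hw, smul_smul, hτ, hτ, smul_smul, _root_.map_mul]

theorem map_orth (hc : Ctx H) (hβ : Fixes H e f β) (hφ : Induces H e f β φ) (p : IsHPair H e f) {τ : F ≃+* F}
    (hτ : ∀ (a : F) w, InW H e f w → φ (a • w) = τ a • φ w) {w w' : V} (hw : InW H e f w) (hw' : InW H e f w')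
    (h : H.h w w' = 0) : H.h (φ w) (φ w') = 0 := by
  have key : ∀ v, InW H e f v → H.h v w' = 0 → H.conj (H.h (φ v) (φ w')) = H.h (φ v) (φ w') := by
    intro v hv hvw
    obtain ⟨l, c⟩ := exists_root_cond p.1 hv
    obtain ⟨l', c'⟩ := exists_root_cond p.1 hw'
    obtain ⟨hV, L, C, hE⟩ := hφ v l hv c
    obtain ⟨hV', L', C', hE'⟩ := hφ w' l' hw' c'
    have hcm : rt H e v l * rt H e w' l' = rt H e w' l' * rt H e v l := by
      rw [rt_mul c c', rt_mul c' c, hvw, H.h_comm_zero hvw, add_comm v, add_comm l]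
    have hcm' := congrArg (fun g => β (cls g)) hcm
    rw [show cls (rt H e v l * rt H e w' l') = cls (rt H e v l) * cls (rt H e w' l') from rfl,
      show cls (rt H e w' l' * rt H e v l) = cls (rt H e w' l') * cls (rt H e v l) from rfl,
      _root_.map_mul, _root_.map_mul, hE, hE'] at hcm'
    replace hcm' : cls (rt H e (φ v) L * rt H e (φ w') L') = cls (rt H e (φ w') L' * rt H e (φ v) L) := hcm'
    rw [rt_mul C C', rt_mul C' C] at hcm'
    have := (rt_inj hc p (hV.add hV') (hV'.add hV) (C.add C') (C'.add C) hcm').2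
    rw [H.symm']
    linear_combination -this
  obtain ⟨a, ha⟩ := H.conj_ne
  obtain ⟨r, rfl⟩ := τ.surjective a
  have h1 := key _ (hw.smul r) (by rw [H.smul_left, h, mul_zero])
  rw [hτ r w hw, H.smul_left, _root_.map_mul, key w hw h] at h1
  have : (H.conj (τ r) - τ r) * H.h (φ w) (φ w') = 0 := by linear_combination h1
  exact (mul_eq_zero.mp this).resolve_left (sub_ne_zero.mpr ha)

/-- The form is respected up to a factor. -/
theorem exists_multiplier (hc : Ctx H) (hβ : Fixes H e f β) (hφ : Induces H e f β φ) (p : IsHPair H e f)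
    {τ : F ≃+* F} (hτ : ∀ (a : F) w, InW H e f w → φ (a • w) = τ a • φ w) :
    ∃ N : F, N ≠ 0 ∧ ∀ w w', InW H e f w → InW H e f w' → H.h (φ w) (φ w') = N * τ (H.h w w') := by
  obtain ⟨y, hy, hyy⟩ := exists_nonisotropic_W hc p
  have hy0 : y ≠ 0 := fun h0 => hyy (by rw [h0, H.zero_left])
  have hy' : τ (H.h y y) ≠ 0 := τ.injective.ne_iff' (_root_.map_zero τ) |>.mpr hyy
  set N := H.h (φ y) (φ y) / τ (H.h y y) with hN
  have hleft : ∀ w v u, InW H e f w → InW H e f v → InW H e f u → H.h u v ≠ 0 →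
      H.h (φ u) (φ v) = N * τ (H.h u v) → H.h (φ w) (φ v) = N * τ (H.h w v) := by
    intro w v u hw hv hu hne hEq
    have h1 := hφ.map_orth hc hβ p hτ (hw.sub (hu.smul (H.h w v / H.h u v))) hv
      (by rw [H.sub_left, H.smul_left, div_mul_cancel₀ _ hne, sub_self])
    rw [hφ.map_sub hc p hw (hu.smul _), hτ _ u hu, H.sub_left, H.smul_left, hEq, sub_eq_zero, mul_left_comm,
      ← _root_.map_mul, div_mul_cancel₀ _ hne] at h1
    exact h1
  have hNc : H.conj N = N := by rw [hN, map_div₀, H.conj_diag, ← tau_comm, H.conj_diag]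
  have hyy' : H.h (φ y) (φ y) = N * τ (H.h y y) := (div_mul_cancel₀ _ hy').symm
  have hyv : ∀ v, InW H e f v → H.h (φ y) (φ v) = N * τ (H.h y v) := by
    intro v hv
    have h1 := hleft v y y hv hy hy hyy hyy'
    rw [← H.symm' (φ v), h1, _root_.map_mul, hNc, ← tau_comm, H.symm']
  have hall : ∀ w v, InW H e f w → InW H e f v → H.h y v ≠ 0 → H.h (φ w) (φ v) = N * τ (H.h w v) :=
    fun w v hw hv hne => hleft w v y hw hv hy hne (hyv v hv)
  refine ⟨N, fun h0 => ?_, fun w v hw hv => ?_⟩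
  · refine hy0 (hφ.eq_zero hc hβ p hy (eq_zero_of_orth_W p (hφ.inW p hy) fun x hx => ?_))
    obtain ⟨v, hv, rfl⟩ := hφ.surj hc hβ p hx
    rw [hyv v hv, h0, zero_mul]
  · by_cases hne : H.h y v = 0
    · have h1 := hall w (v + y) hw (hv.add hy) (by rwa [H.add_right, hne, zero_add])
      rw [hφ.map_add hc p hv hy, H.add_right, H.add_right, hall w y hw hy hyy, _root_.map_add, mul_add] at h1
      exact add_right_cancel h1
    · exact hall w v hw hv hne

end Induces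

end CfsgLib.AutPSU
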