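import Mathlib
import Cfsg.Agent.Lib.AutPSU.Linear

/-!
Every automorphism of the simple unitary group is induced by a semilinear isometry.
-/

set_option autoImplicit false

namespace CfsgLib.AutPSU

open CfsgLib.Classical.Herm CfsgLib.Classical.Herm.HermSpace Module

variable {F V : Type*} [Field F] [AddCommGroup V] [Module F V] {H : HermSpace F V}
  [FiniteDimensional F V] [Finite F] {e f : V}

omit [FiniteDimensional F V] [Finite F] in
theorem Lst_swap {k : rootGen H} (hk : k ∈ Lst H e f) : k ∈ Lst H f e := by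
  obtain ⟨a, ha, h1, h2⟩ := hk
  exact ⟨(H.conj a)⁻¹, inv_ne_zero (H.conj_ne_zero ha), h2, by rw [map_inv₀, H.conj_conj, inv_inv]; exact h1⟩

omit [FiniteDimensional F V] [Finite F] in
theorem lam_swap (p : IsHPair H e f) {k : rootGen H} (hk : k ∈ Lst H e f) :
    lam H f e k = (H.conj (lam H e f k))⁻¹ := by
  obtain ⟨-, -, h2⟩ := Lst_spec p hk
  rw [lam, h2, H.smul_left, p.2.2, mul_one]

omit [Finite F] in
theorem trc_zero_vec {d : F} (hd : d + H.conj d = 0) : trc H (0 : V) d = 1 := by
  have : tr H (0 : V) d = 1 := gen_ext fun x => by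
    rw [tr_apply (H.zero_left 0) hd, smul_zero, add_zero]; rfl
  rw [show trc H (0 : V) d = cls (1 : rootGen H) from congrArg cls this]
  rfl

/-- Fixed pointwise. -/
def Reach (γ : MulAut (Gq H)) (u : V) : Prop := ∀ d, d + H.conj d = 0 → γ (trc H u d) = trc H u d

section Fix

variable {γ : MulAut (Gq H)}

omit [Finite F] in
theorem Lst_fixed (hc : Ctx H) (hγ : Fixes H e f γ) (hid : Induces H e f γ id) (p : IsHPair H e f)
    {k : rootGen H} (hk : k ∈ Lst H e f) : γ (cls k) = cls k := by
  obtain ⟨k', hk', hk'e, hop⟩ := hid.levi hc hγ p hk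
  have h1 : cls (k⁻¹ * k') = 1 := by
    refine cls_eq_one_of_opW hc p (mul_mem (inv_mem hk) hk') fun w hw => ?_
    rw [opW_mul p (inv_mem hk) hk']
    rw [show opW H e f k' w = opW H e f k w from (hop w hw).symm, ← opW_mul p (inv_mem hk) hk, inv_mul_cancel]
    obtain ⟨ha, h2, -⟩ := Lst_spec p (one_mem (Lst H e f))
    have : lam H e f 1 = 1 := by
      rw [lam]; exact H.h_comm_one p.2.2
    rw [opW, this, _root_.map_one, one_smul]
    rfl
  rw [hk'e]
  exact (inv_mul_eq_one.mp h1).symm

omit [Finite F] in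
theorem reach_e (hc : Ctx H) (hid : Induces H e f γ id) (p : IsHPair H e f) : Reach γ e := by
  intro d hd
  obtain ⟨y, hy, hyy⟩ := exists_nonisotropic_W hc p
  obtain ⟨t, ht⟩ := H.exists_trace_one
  set c := (-d / H.h y y) * t with hcdef
  have hcc : H.h y y * (H.conj c - c) = d := by
    rw [hcdef, _root_.map_mul, map_div₀, _root_.map_neg, H.conj_diag, show H.conj d = -d by linear_combination hd]
    field_simp
    linear_combination d * ht
  obtain ⟨l, cl⟩ := exists_root_cond p.1 hy
  obtain ⟨l', cl'⟩ := exists_root_cond p.1 (hy.smul c)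
  obtain ⟨hv, L, C, hE⟩ := hid y l hy cl
  obtain ⟨hv', L', C', hE'⟩ := hid _ l' (hy.smul c) cl'
  simp only [id_eq] at C C' hE hE'
  have hd' : H.h y (c • y) - H.h (c • y) y = d := by
    rw [H.smul_left, H.smul_right, ← hcc]; ring
  have key : ∀ a a' : F, RootCond H e y a → RootCond H e (c • y) a' →
      cls (rt H e y a) * cls (rt H e (c • y) a') =
        cls (rt H e (c • y) a') * cls (rt H e y a) * trc H e d := by
    intro a a' ca ca'
    have hh := rt_mul (ca'.add ca) (tr_cond p.1 hd)
    show cls (rt H e y a * rt H e (c • y) a') = cls (rt H e (c • y) a' * rt H e y a * tr H e d)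
    rw [rt_mul ca ca', rt_mul ca' ca, tr, hh, add_zero, H.zero_left, add_comm (c • y)]
    refine congrArg (fun s => cls (rt H e (y + c • y) s)) ?_
    linear_combination hd'
  have h1 := key l l' cl cl'
  apply_fun γ at h1
  rw [_root_.map_mul, _root_.map_mul, _root_.map_mul, hE, hE', key L L' C C'] at h1
  exact (mul_left_cancel h1).symm

omit [FiniteDimensional F V] [Finite F] in
theorem Reach.map {u : V} (h : Reach γ u) {g : rootGen H} (hg : γ (cls g) = cls g) : Reach γ (ap g u) := by
  intro d hd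
  have : trc H (ap g u) d = cls g * trc H u d * (cls g)⁻¹ := congrArg cls (tr_conj g u d).symm
  rw [this, _root_.map_mul, _root_.map_mul, _root_.map_inv, hg, h d hd]

omit [FiniteDimensional F V] [Finite F] in
theorem Reach.smul {u : V} (hu : H.h u u = 0) (h : Reach γ u) {a : F} (ha : a ≠ 0) : Reach γ (a • u) := by
  intro d hd
  rw [show trc H (a • u) d = trc H u (a * H.conj a * d) from congrArg cls (tr_smul_vec ha hu hd)]
  exact h _ (norm_skew hd)

omit [Finite F] in
theorem map_TT_image {x : V} {g g' : rootGen H} (hx : (TT H x).map γ.toMonoidHom = TT H x)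
    (hg : γ (cls g) = cls g') : (TT H (ap g x)).map γ.toMonoidHom = TT H (ap g' x) := by
  have hcomp : γ.toMonoidHom.comp (MulAut.conj (cls g)).toMonoidHom =
      (MulAut.conj (cls g')).toMonoidHom.comp γ.toMonoidHom := by
    refine MonoidHom.ext fun z => ?_
    show γ (cls g * z * (cls g)⁻¹) = cls g' * γ z * (cls g')⁻¹
    rw [_root_.map_mul, _root_.map_mul, _root_.map_inv, hg]
  rw [← TT_map, ← TT_map, Subgroup.map_map, hcomp, ← Subgroup.map_map, hx]

omit [Finite F] in
/-- The relation between root elements at the two ends. -/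
theorem root_relation (hc : Ctx H) (hγ : Fixes H e f γ) (p : IsHPair H e f) {b : F}
    (hid : Induces H e f γ id) (hf : Induces H f e γ (fun w => b • w)) {w : V} {l : F} (hw : InW H e f w)
    (hw0 : w ≠ 0) (c : RootCond H e w l) (hl : l ≠ 0) :
    ∃ l₁, RootCond H e w l₁ ∧ γ (cls (rt H e w l)) = cls (rt H e w l₁) ∧ b * l₁ = l := by
  obtain ⟨-, l₁, c₁, hu⟩ := hid w l hw c
  simp only [id_eq] at c₁ hu
  have cv : RootCond H f (l⁻¹ • w) l⁻¹ := by
    refine ⟨p.2.1, (hw.smul _).2, ?_⟩
    rw [H.smul_left, H.smul_right, map_inv₀]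
    have := H.conj_ne_zero hl
    field_simp
    linear_combination c.2.2
  obtain ⟨-, L, cL, hv⟩ := hf (l⁻¹ • w) l⁻¹ (hw.swap.smul _) cv
  refine ⟨l₁, c₁, hu, ?_⟩
  have h1 : ap (rt H f (l⁻¹ • w) l⁻¹) e = l⁻¹ • ap (rt H e w l) f := by
    rw [rt_apply_f p.swap (hw.swap.smul _) cv, rt_apply_f p hw c]
    match_scalars <;> field_simp
  have hiso : ∀ (g : rootGen H), H.h (ap g f) (ap g f) = 0 := fun g => by rw [ap_h, p.2.1]
  have h2 : TT H (ap (rt H f (l⁻¹ • w) l⁻¹) e) = TT H (ap (rt H e w l) f) := by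
    rw [h1, TT_smul (inv_ne_zero hl) (hiso _)]
  have h3 : TT H (ap (rt H e w l₁) f) = TT H (ap (rt H f (b • l⁻¹ • w) L) e) := by
    rw [← map_TT_image hγ.tf hu, ← map_TT_image hγ.te hv, h2]
  obtain ⟨a, -, ha⟩ := TT_inj hc (unit_ne_zero _ p.swap.left_ne_zero) (hiso _) (by rw [ap_h, p.1]) h3
  replace ha : ap (rt H e w l₁) f = a • ap (rt H f (b • l⁻¹ • w) L) e := ha
  rw [rt_apply_f p hw c₁, rt_apply_f p.swap (hw.swap.smul _ |>.smul _) cL] at ha
  have hef : H.h e f = 1 := H.h_comm_one p.2.2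
  have e1 := congrArg (fun x => H.h x f) ha
  have e2 := congrArg (fun x => H.h x e) ha
  simp only [H.add_left, H.smul_left, p.1, p.2.1, p.2.2, hef, hw.1, hw.2, mul_zero, zero_add, add_zero,
    mul_one] at e1 e2
  subst e1
  have h4 : w = (l₁ * b * l⁻¹) • w := by
    have h5 : f + w + l₁ • e = l₁ • e + (l₁ * b * l⁻¹) • w + f := by
      rw [ha]
      match_scalars <;> (first | ring1 | linear_combination -e2 | linear_combination e2)
    linear_combination (norm := module) h5
  have h5 : (1 : F) = l₁ * b * l⁻¹ := smul_left_injective F hw0 (by simpa using h4)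
  field_simp at h5
  linear_combination -h5

omit [Finite F] in
theorem fix_UU (hc : Ctx H) (hγ : Fixes H e f γ) (p : IsHPair H e f) (hid : Induces H e f γ id)
    (hid' : Induces H f e γ id) : ∀ z ∈ UU H e, γ z = z := by
  have hT := reach_e hc hid p
  intro z hz
  obtain ⟨w, l, hw, c, rfl⟩ := (mem_UU p).mp hz
  have hid'' : Induces H f e γ (fun v => (1 : F) • v) := by simpa [Induces] using hid'
  have main : ∀ v m, InW H e f v → RootCond H e v m → m ≠ 0 → γ (cls (rt H e v m)) = cls (rt H e v m) := by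
    intro v m hv cm hm
    by_cases hv0 : v = 0
    · subst hv0
      exact hT m (by have := cm.2.2; rwa [H.zero_left, add_zero] at this)
    obtain ⟨m₁, -, hE, h1⟩ := root_relation hc hγ p hid hid'' hv hv0 cm hm
    rw [one_mul] at h1
    rwa [h1] at hE
  by_cases hl : l = 0
  · obtain ⟨d, hd0, hd⟩ := H.exists_skew
    have cd : RootCond H e w d := ⟨c.1, c.2.1, by have := c.2.2; rw [hl, _root_.map_zero] at this; linear_combination this + hd⟩
    obtain ⟨hs, he⟩ := rt_split cd c
    rw [he, show cls (rt H e w d * tr H e (l - d)) = cls (rt H e w d) * trc H e (l - d) from rfl, _root_.map_mul,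
      main w d hw cd hd0, hT _ hs]
  · exact main w l hw c hl

end Fix

section Core

variable {γ : MulAut (Gq H)}

/-- The map induced at the opposite end is a scalar. -/
theorem opposite_scalar (hc : Ctx H) (hγ : Fixes H e f γ) (p : IsHPair H e f) (hid : Induces H e f γ id) {φ : V → V}
    (hφ : Induces H f e γ φ) : ∃ b : F, ∀ w, InW H e f w → φ w = b • w := by
  have hcomm : ∀ k ∈ Lst H e f, ∀ w, InW H e f w → φ (opW H f e k w) = opW H f e k (φ w) := by
    intro k hk w hw
    obtain ⟨k', -, hk'e, hop⟩ := hφ.levi hc hγ.swap p.swap (Lst_swap hk)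
    rw [hop w hw.swap, opW_congr hc p.swap (hk'e.symm.trans (Lst_fixed hc hγ hid p hk))]
  obtain ⟨τ, hτ⟩ := hφ.semilinear hc hγ.swap p.swap
  have hφ0 : ∀ w, InW H e f w → φ w = 0 → w = 0 := fun w hw => hφ.eq_zero hc hγ.swap p.swap hw.swap
  have fixM : ∀ (x : V) (c : F), InW H e f x → x ≠ 0 → φ x = c • x → ∀ k ∈ Lst H e f, ∀ m : F,
      opW H f e k x = m • x → τ m = m := by
    intro x c hx hx0 hcx k hk m hm
    have h1 := hcomm k hk x hx
    rw [hcx, opW_smul, hm, hτ m x hx.swap, hcx, smul_smul, smul_smul, mul_comm c] at h1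
    have hc0 : c ≠ 0 := fun h0 => hx0 (hφ0 x hx (by rw [hcx, h0, zero_smul]))
    exact mul_right_cancel₀ hc0 (smul_left_injective F hx0 h1)
  have hτid : ∀ M : F → Prop, (∀ m, M m → τ m = m) → (∀ S : Subring F, (∀ m, M m → m ∈ S) → S = ⊤) →
      ∀ a, τ a = a := by
    intro M hM hgen a
    have := hgen (RingHom.eqLocus τ.toRingHom (RingHom.id F)) hM
    exact (this.ge (Subring.mem_top a) :)
  obtain ⟨y, hy, hyy⟩ := exists_nonisotropic_W hc p
  have hy0 : y ≠ 0 := fun h0 => hyy (by rw [h0, H.zero_left])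
  rcases hc.dim with h4 | ⟨h3, hk⟩
  · obtain ⟨l, hl0, hl⟩ := H.exists_skew
    have push : ∀ x, InW H e f x → H.h x x = 0 → ∀ w, InW H e f w →
        τ (l * H.h w x) • φ x = (l * H.h (φ w) x) • x := by
      intro x hx hxx w hw
      obtain ⟨hk, -⟩ := tr_mem_Lst p hx hxx hl
      obtain ⟨-, hlam⟩ := tr_mem_Lst p.swap hx.swap hxx hl
      have h1 := hcomm _ hk w hw
      simp only [opW, hlam, _root_.map_one, one_smul, tr_apply hxx hl] at h1
      rw [hφ.map_add hc p.swap hw.swap (hx.swap.smul _), hτ _ x hx.swap] at h1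
      exact add_left_cancel h1
    have line : ∀ x, InW H e f x → x ≠ 0 → H.h x x = 0 → ∃ c : F, φ x = c • x := by
      intro x hx hx0 hxx
      obtain ⟨z, hz, pw⟩ := exists_partner_W p hx hx0 hxx
      have h1 := push x hx hxx z hz
      rw [pw.2.2, mul_one] at h1
      have : τ l ≠ 0 := τ.injective.ne_iff' (_root_.map_zero τ) |>.mpr hl0
      exact ⟨(τ l)⁻¹ * (l * H.h (φ z) x), by rw [← smul_smul, ← h1, inv_smul_smul₀ this]⟩
    obtain ⟨x, z, hx, hz, pw, -⟩ := exists_pair_W hc p h4 hy hy0
    obtain ⟨b, hb⟩ := line z hz pw.swap.left_ne_zero pw.2.1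
    obtain ⟨bx, hbx⟩ := line x hx pw.left_ne_zero pw.1
    have hid' : ∀ a, τ a = a := by
      refine hτid (fun m => ∃ a : F, a ≠ 0 ∧ m = a * a) ?_ (fun S hS => subring_top_sq S fun a ha => hS _ ⟨a, ha, rfl⟩)
      rintro _ ⟨a, ha, rfl⟩
      obtain ⟨k, hk, hlam, -, hkx⟩ := torus_four hc p hz hx pw.swap (inv_ne_zero ha)
      refine fixM x bx hx pw.left_ne_zero hbx k hk _ ?_
      rw [opW, lam_swap p hk, hlam, hkx, smul_smul]
      simp only [map_inv₀, H.conj_conj, inv_inv]
    have rel : ∀ v, InW H e f v → v ≠ 0 → H.h v v = 0 → ∀ c, φ v = c • v → ∀ w, InW H e f w →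
        H.h (φ w) v = c * H.h w v := by
      intro v hv hv0 hvv c hcv w hw
      have h1 := push v hv hvv w hw
      rw [hid', hcv, smul_smul] at h1
      have h2 := smul_left_injective F hv0 h1
      refine mul_left_cancel₀ hl0 ?_
      linear_combination -h2
    obtain rfl : bx = b := by
      have := rel x hx pw.left_ne_zero pw.1 bx hbx z hz
      rw [hb, H.smul_left, pw.2.2, mul_one, mul_one] at this
      exact this.symm
    refine ⟨bx, fun w hw => W_induction (P := fun v => φ v = bx • v) hx hz pw ?_ ?_ ?_ hw⟩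
    · intro v v' hv hv' h1 h2
      rw [hφ.map_sub hc p.swap hv.swap hv'.swap, h1, h2, smul_sub]
    · intro a v hv h1
      rw [hτ a v hv.swap, hid', h1, smul_comm]
    intro v hv hv0 hvv
    obtain ⟨c, hcv⟩ := line v hv hv0 hvv
    have same : ∀ u, InW H e f u → φ u = bx • u → H.h u v ≠ 0 → φ v = bx • v := by
      intro u hu hbu hne
      have h1 := rel v hv hv0 hvv c hcv u hu
      rw [hbu, H.smul_left] at h1
      rw [hcv, mul_right_cancel₀ hne h1]
    by_cases h0 : H.h x v = 0 ∧ H.h z v = 0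
    · have hxv : H.h v x = 0 := H.h_comm_zero h0.1
      have hs : H.h (v + x) (v + x) = 0 := by
        rw [H.add_left, H.add_right, H.add_right, hvv, hxv, h0.1, pw.1]; ring
      have hne : H.h z (v + x) ≠ 0 := by
        rw [H.add_right, h0.2, zero_add, pw.2.2]; exact one_ne_zero
      have hs0 : v + x ≠ 0 := fun h => hne (by rw [h, H.zero_right])
      obtain ⟨c', hc'⟩ := line _ (hv.add hx) hs0 hs
      have h1 := rel _ (hv.add hx) hs0 hs c' hc' z hz
      rw [hb, H.smul_left] at h1
      rw [← mul_right_cancel₀ hne h1, hφ.map_add hc p.swap hv.swap hx.swap, hbx, smul_add] at hc'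
      exact add_right_cancel hc'
    · rw [not_and_or] at h0
      exact h0.elim (same x hx hbx) (same z hz hb)
  · obtain ⟨b, hb⟩ : ∃ b : F, φ y = b • y := ⟨_, W_line_three p h3 hy hyy (hφ.inW p.swap hy.swap).swap⟩
    have hid' : ∀ a, τ a = a := by
      refine hτid (fun m => ∃ a : F, a ≠ 0 ∧ m = H.conj a * (H.conj a / a)) ?_
        (fun S hS => subring_top_three hk S fun a ha => hS _ ⟨a, ha, rfl⟩)
      rintro _ ⟨a, ha, rfl⟩
      obtain ⟨k, hk', hlam, hkw⟩ := torus_three hc p h3 (inv_ne_zero (H.conj_ne_zero ha))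
      refine fixM y b hy hy0 hb k hk' _ ?_
      rw [opW, lam_swap p hk', hlam, hkw y hy, smul_smul]
      congr 1
      simp only [map_inv₀, H.conj_conj, inv_inv]
      field_simp
    refine ⟨b, fun w hw => ?_⟩
    rw [W_line_three p h3 hy hyy hw, hτ _ y hy.swap, hid', hb, smul_comm]

/-- An automorphism fixing the pair and inducing the identity is trivial. -/
theorem eq_one_of_induces_id (hc : Ctx H) (hγ : Fixes H e f γ) (p : IsHPair H e f) (hid : Induces H e f γ id) :
    γ = 1 := by
  obtain ⟨φ, hφ⟩ := exists_induces hc p.swap hγ.swap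
  obtain ⟨b, hb⟩ := opposite_scalar hc hγ p hid hφ
  have hf : Induces H f e γ (fun w => b • w) := fun w l hw c => by
    have := hφ w l hw c
    rwa [hb w hw.swap] at this
  obtain ⟨y, hy, hyy⟩ := exists_nonisotropic_W hc p
  have hy0 : y ≠ 0 := fun h0 => hyy (by rw [h0, H.zero_left])
  have hT := reach_e hc hid p
  have hb1 : b = 1 := by
    obtain ⟨l, cl⟩ := exists_root_cond p.1 hy
    obtain ⟨d, hd0, hd⟩ := H.exists_skew
    have hne : ∀ m, RootCond H e y m → m ≠ 0 := fun m cm h0 => hyy (by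
      have := cm.2.2; rw [h0, _root_.map_zero] at this; linear_combination this)
    have cld : RootCond H e y (l + d) := ⟨cl.1, cl.2.1, by rw [_root_.map_add]; linear_combination cl.2.2 + hd⟩
    obtain ⟨l₁, c₁, h1, e1⟩ := root_relation hc hγ p hid hf hy hy0 cl (hne _ cl)
    obtain ⟨l₂, c₂, h2, e2⟩ := root_relation hc hγ p hid hf hy hy0 cld (hne _ cld)
    obtain ⟨-, hsplit⟩ := rt_split cl cld
    rw [add_sub_cancel_left] at hsplit
    rw [hsplit, show cls (rt H e y l * tr H e d) = cls (rt H e y l) * trc H e d from rfl, _root_.map_mul, h1,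
      hT d hd] at h2
    have h3 := rt_mul c₁ (tr_cond p.1 hd)
    rw [add_zero, H.zero_left, sub_zero] at h3
    replace h2 : cls (rt H e y l₁ * rt H e 0 d) = cls (rt H e y l₂) := h2
    have c3 : RootCond H e y (l₁ + d) := ⟨c₁.1, c₁.2.1, by rw [_root_.map_add]; linear_combination c₁.2.2 + hd⟩
    rw [h3] at h2
    rw [← (rt_inj hc p hy hy c3 c₂ h2).2] at e2
    refine mul_right_cancel₀ hd0 ?_
    linear_combination e2 - e1
  have hid' : Induces H f e γ id := fun w l hw c => by
    have := hf w l hw c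
    simp only [hb1, one_smul] at this
    exact this
  have hUe := fix_UU hc hγ p hid hid'
  have hUf := fix_UU hc hγ.swap p.swap hid' hid
  have hTf := reach_e hc hid' p.swap
  have near : ∀ {e f : V}, IsHPair H e f → (∀ z ∈ UU H e, γ z = z) → Reach γ f →
      ∀ u, H.h u u = 0 → H.h u e ≠ 0 → Reach γ u := by
    intro e f p hU hR u hu hne
    have pz : IsHPair H e ((H.h u e)⁻¹ • u) := by
      refine ⟨p.1, ?_, ?_⟩
      · rw [H.smul_left, H.smul_right, hu, mul_zero, mul_zero]
      · rw [H.smul_left, inv_mul_cancel₀ hne]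
    obtain ⟨w, l, c, hz, -⟩ := exists_root_partner p pz
    have hz' : ap (rt H e w l) f = (H.h u e)⁻¹ • u := by rw [ap, rt_coe c]; exact hz
    have h1 := (hR.map (hU _ (cls_rt_mem_UU c))).smul (by rw [ap_h, p.2.1]) hne
    rwa [hz', smul_inv_smul₀ hne] at h1
  have all : ∀ u, H.h u u = 0 → Reach γ u := by
    intro u hu
    by_cases he : H.h u e = 0
    · by_cases hf' : H.h u f = 0
      · by_cases hu0 : u = 0
        · subst hu0
          intro d hd
          rw [trc_zero_vec hd, _root_.map_one]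
        obtain ⟨v, hv, hne⟩ : ∃ v, InW H e f v ∧ H.h u v ≠ 0 := by
          by_contra! hcon
          exact hu0 (eq_zero_of_orth_W p ⟨he, hf'⟩ hcon)
        obtain ⟨m, cm⟩ := exists_root_cond (f := e) p.2.1 hv.swap
        set g := rt H f v m with hg
        have hgu : H.h (ap g u) e ≠ 0 := by
          rw [hg, rt_apply cm, hf', zero_smul, add_zero, mul_zero, add_zero, H.add_left, H.smul_left, he,
            p.2.2, zero_add, mul_one]
          exact neg_ne_zero.mpr hne
        have h1 := (near p hUe hTf (ap g u) (by rw [ap_h, hu]) hgu).map (g := g⁻¹)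
          (by
            show γ (cls g)⁻¹ = (cls g)⁻¹
            rw [_root_.map_inv, hUf _ (cls_rt_mem_UU cm)])
        rwa [ap_inv] at h1
      · exact near p.swap hUf hT u hu hf'
    · exact near p hUe hTf u hu he
  set K : Subgroup (Unit' H) :=
    ((γ.toMonoidHom.eqLocus (MonoidHom.id (Gq H))).comap (QuotientGroup.mk' _)).map (rootGen H).subtype with hK
  have hle : rootGen H ≤ K := by
    conv_lhs => rw [← closure_transvectionSet hc.big hc.perf p]
    rw [Subgroup.closure_le]
    rintro _ ⟨v, c, hcs, hv, rfl⟩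
    rw [shear_isotropic_eq_root hcs hv]
    have hd : c + H.conj c = 0 := by linear_combination hcs.eq - c * H.conj c * hv
    exact ⟨tr H v c, all v hv c hd, rt_coe (tr_cond hv hd)⟩
  refine MulEquiv.ext fun z => ?_
  obtain ⟨g, rfl⟩ := QuotientGroup.mk_surjective z
  obtain ⟨g', hg', hgg⟩ := hle g.2
  rw [← Subtype.ext (hgg : g'.1 = g.1)]
  exact hg'

/-- A semilinear isometry with the same effect on the radical. -/
theorem exists_semi_induces [Nontrivial V] (hc : Ctx H) {β : MulAut (Gq H)} (hβ : Fixes H e f β)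
    (p : IsHPair H e f) {φ : V → V} (hφ : Induces H e f β φ) :
    ∃ s : SemiUnit H, (TT H e).map s.aut.toMonoidHom = TT H e ∧ (TT H f).map s.aut.toMonoidHom = TT H f ∧
      ∀ w l, InW H e f w → RootCond H e w l →
        ∃ L, RootCond H e (φ w) L ∧ s.aut (cls (rt H e w l)) = cls (rt H e (φ w) L) := by
  obtain ⟨τ, hτ⟩ := hφ.semilinear hc hβ p
  obtain ⟨N, hN0, hN⟩ := hφ.exists_multiplier hc hβ p hτ
  obtain ⟨y, hy, hyy⟩ := exists_nonisotropic_W hc p
  have hNc : H.conj N = N := by
    have h1 := congrArg H.conj (hN y y hy hy)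
    rw [H.conj_diag, _root_.map_mul, ← tau_comm, H.conj_diag] at h1
    have h2 : τ (H.h y y) ≠ 0 := τ.injective.ne_iff' (_root_.map_zero τ) |>.mpr hyy
    exact (mul_right_cancel₀ h2 ((hN y y hy hy).symm.trans h1)).symm
  obtain ⟨a, ha⟩ := H.norm_surj N hNc
  have ha0 : a ≠ 0 := fun h0 => hN0 (by rw [← ha, h0, zero_mul])
  have hca := H.conj_ne_zero ha0
  let M : V →+ V :=
    { toFun := fun x => (τ (H.h x f) * a) • e + (τ (H.h x e) * (H.conj a)⁻¹) • f +
        (H.conj a)⁻¹ • φ (pairProj H e f x)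
      map_zero' := by
        have : pairProj H e f (0 : V) = 0 := by simp [pairProj, H.zero_left]
        rw [this, hφ.map_zero hc p, H.zero_left, H.zero_left, _root_.map_zero]; module
      map_add' := fun x x' => by
        have : pairProj H e f (x + x') = pairProj H e f x + pairProj H e f x' := by
          simp only [pairProj, H.add_left]; module
        rw [this, hφ.map_add hc p (pairProj_mem p x) (pairProj_mem p x'), H.add_left, H.add_left, _root_.map_add,
          _root_.map_add]
        module }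
  have hMdef : ∀ x, M x = (τ (H.h x f) * a) • e + (τ (H.h x e) * (H.conj a)⁻¹) • f +
      (H.conj a)⁻¹ • φ (pairProj H e f x) := fun x => rfl
  have hef : H.h e f = 1 := H.h_comm_one p.2.2
  have hMh : ∀ x x', H.h (M x) (M x') = τ (H.h x x') := by
    intro x x'
    have hP := hφ.inW p (pairProj_mem p x)
    have hP' := hφ.inW p (pairProj_mem p x')
    simp only [hMdef, H.add_left, H.add_right, H.smul_left, H.smul_right, p.1, p.2.1, p.2.2, hef, hP.1, hP.2,
      H.h_comm_zero hP'.1, H.h_comm_zero hP'.2, hN _ _ (pairProj_mem p x) (pairProj_mem p x')]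
    have hpp : τ (H.h (pairProj H e f x) (pairProj H e f x')) =
        τ (H.h x x') - τ (H.h x f) * H.conj (τ (H.h x' e)) - τ (H.h x e) * H.conj (τ (H.h x' f)) := by
      rw [pairProj_h (H := H) x (k := pairProj H e f x') (pairProj_mem p x'), pairProj, H.add_right, H.add_right,
        H.smul_right, H.smul_right, _root_.map_neg, _root_.map_neg, ← tau_comm, ← tau_comm]
      simp only [_root_.map_add, _root_.map_mul, _root_.map_neg]
      ring
    rw [hpp]
    simp only [_root_.map_mul, map_inv₀, H.conj_conj]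
    field_simp
    linear_combination (τ (H.h x f) * H.conj (τ (H.h x' e)) + τ (H.h x e) * H.conj (τ (H.h x' f))
      - τ (H.h x x')) * ha
  have : Finite V := Module.finite_of_finite F
  have hMinj : Function.Injective M := (injective_iff_map_eq_zero M).mpr fun x hx => H.nondeg x fun x' => by
    refine τ.injective ?_
    rw [← hMh, hx, H.zero_left, _root_.map_zero]
  have hMsmul : ∀ (c : F) x, M (c • x) = τ c • M x := by
    intro c x
    have : pairProj H e f (c • x) = c • pairProj H e f x := by simp only [pairProj, H.smul_left]; module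
    rw [hMdef, hMdef, this, hτ c _ (pairProj_mem p x), H.smul_left, H.smul_left, _root_.map_mul, _root_.map_mul]
    module
  let s : SemiUnit H := ⟨τ, AddEquiv.ofBijective M ⟨hMinj, Finite.injective_iff_surjective.mp hMinj⟩, hMsmul, hMh⟩
  have hMe : s.M e = a • e := by
    have : pairProj H e f e = 0 := by simp only [pairProj, p.1, hef]; module
    show M e = _
    rw [hMdef, this, hφ.map_zero hc p, p.1, hef, _root_.map_one, _root_.map_zero]
    module
  have hMf : s.M f = (H.conj a)⁻¹ • f := by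
    have : pairProj H e f f = 0 := by simp only [pairProj, p.2.1, p.2.2]; module
    show M f = _
    rw [hMdef, this, hφ.map_zero hc p, p.2.1, p.2.2, _root_.map_one, _root_.map_zero]
    module
  refine ⟨s, ?_, ?_, fun w l hw c => ?_⟩
  · rw [s.aut_TT p.1, hMe, TT_smul ha0 p.1]
  · rw [s.aut_TT p.2.1, hMf, TT_smul (inv_ne_zero hca) p.2.1]
  have hMw : s.M w = (H.conj a)⁻¹ • φ w := by
    have : pairProj H e f w = w := by simp only [pairProj, hw.1, hw.2]; module
    show M w = _
    rw [hMdef, this, hw.1, hw.2, _root_.map_zero]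
    module
  have c1 := s.rootCond c
  rw [hMe] at c1
  have c2 := c1.smul a ha0
  rw [hMw, smul_inv_smul₀ hca] at c2
  refine ⟨_, c2, ?_⟩
  rw [s.aut_rt c, hMe, rt_smul_vec ha0 c1, hMw, smul_inv_smul₀ hca]

/-- Every automorphism is induced by a semilinear isometry. -/
theorem exists_semi [Nontrivial V] (hc : Ctx H) (β : MulAut (Gq H)) : ∃ s : SemiUnit H, β = s.aut := by
  obtain ⟨e, f, p⟩ := hc.pair
  obtain ⟨u, hu0, huu, hu⟩ := exists_TT_image hc β p.left_ne_zero p.1
  obtain ⟨v, hv0, hvv, hv⟩ := exists_TT_image hc β p.swap.left_ne_zero p.2.1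
  have huv : H.h v u ≠ 0 := by
    intro h0
    obtain ⟨l, hl0, hl⟩ := H.exists_skew
    obtain ⟨x, hx, hxe⟩ : trc H e l ∈ TT H e ∧ β (trc H e l) ∈ TT H u ∧ True :=
      ⟨trc_mem_TT hl, hu ▸ Subgroup.mem_map_of_mem β.toMonoidHom (trc_mem_TT hl), trivial⟩
    obtain ⟨m, hm, hme⟩ := (mem_TT huu).mp hx
    obtain ⟨m', hm', hmf⟩ := (mem_TT hvv).mp (hv ▸ Subgroup.mem_map_of_mem β.toMonoidHom (trc_mem_TT (u := f) hl))
    have h1 : Commute (β (trc H e l)) (β (trc H f l)) := by
      have h2 := commute_of_orth huu hvv hm hm' (H.h_comm_zero h0)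
      rwa [← hme, ← hmf] at h2
    have h2 : Commute (trc H e l) (trc H f l) := β.injective (by rw [_root_.map_mul, _root_.map_mul]; exact h1)
    have := orth_of_commute hc p.left_ne_zero p.swap.left_ne_zero p.1 p.2.1 hl hl hl0 hl0 h2
    rw [H.h_comm_one p.2.2] at this
    exact one_ne_zero this
  have p' : IsHPair H u ((H.h v u)⁻¹ • v) := by
    refine ⟨huu, ?_, ?_⟩
    · rw [H.smul_left, H.smul_right, hvv, mul_zero, mul_zero]
    · rw [H.smul_left, inv_mul_cancel₀ huv]
  obtain ⟨g₀, hg₀, hgu, hgv⟩ := rootGen_map_hpair hc.big p p'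
  set g : rootGen H := ⟨g₀, hg₀⟩ with hg
  set δ := (MulAut.conj (cls g))⁻¹ * β with hδdef
  have hδT : ∀ x w, (TT H x).map β.toMonoidHom = TT H (ap g w) → (TT H x).map δ.toMonoidHom = TT H w := by
    intro x w h
    rw [show δ.toMonoidHom = (MulAut.conj (cls g))⁻¹.toMonoidHom.comp β.toMonoidHom from rfl, ← Subgroup.map_map,
      h, ← TT_map, Subgroup.map_map]
    convert Subgroup.map_id _ using 2
    ext z
    exact (MulAut.conj (cls g)).symm_apply_apply z
  have he : (TT H e).map δ.toMonoidHom = TT H e := hδT e e (by rw [hu]; exact congrArg (TT H) hgu.symm)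
  have hf : (TT H f).map δ.toMonoidHom = TT H f := hδT f f (by
    rw [hv, show ap g f = (H.h v u)⁻¹ • v from hgv, TT_smul (inv_ne_zero huv) hvv])
  have hδ : Fixes H e f δ := ⟨he, hf, UU_image hc p he, UU_image hc p.swap hf⟩
  obtain ⟨φ, hφ⟩ := exists_induces hc p hδ
  obtain ⟨s, hse, hsf, hs⟩ := exists_semi_induces hc hδ p hφ
  set γ := s.aut⁻¹ * δ with hγdef
  have hγT : ∀ x, (TT H x).map δ.toMonoidHom = TT H x → (TT H x).map s.aut.toMonoidHom = TT H x →
      (TT H x).map γ.toMonoidHom = TT H x := by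
    intro x h1 h2
    rw [show γ.toMonoidHom = (s.aut⁻¹).toMonoidHom.comp δ.toMonoidHom from rfl, ← Subgroup.map_map, h1]
    conv_lhs => rw [← h2, Subgroup.map_map]
    convert Subgroup.map_id _ using 2
    ext z
    exact s.aut.symm_apply_apply z
  have hγe := hγT e he hse
  have hγf := hγT f hf hsf
  have hγ : Fixes H e f γ := ⟨hγe, hγf, UU_image hc p hγe, UU_image hc p.swap hγf⟩
  have hid : Induces H e f γ id := by
    intro w l hw c
    obtain ⟨v', L', hv', cv', hE⟩ := (mem_UU p).mp (hγ.ue ▸ Subgroup.mem_map_of_mem γ.toMonoidHom (cls_rt_mem_UU c))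
    obtain ⟨hφw, L₁, C₁, hd⟩ := hφ w l hw c
    obtain ⟨L₂, C₂, hs2⟩ := hs v' L' hv' cv'
    replace hE : s.aut⁻¹ (δ (cls (rt H e w l))) = cls (rt H e v' L') := hE
    apply_fun s.aut at hE
    rw [show ∀ z, s.aut (s.aut⁻¹ z) = z from s.aut.apply_symm_apply, hd, hs2] at hE
    have h1 := (rt_inj hc p hφw (hφ.inW p hv') C₁ C₂ hE).1
    obtain rfl : w = v' := sub_eq_zero.mp (hφ.eq_zero hc hδ p (hw.sub hv')
      (by rw [hφ.map_sub hc p hw hv', h1, sub_self]))
    refine ⟨hw, L', cv', ?_⟩
    simp only [id_eq]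
    exact s.aut.injective (by
      show s.aut (s.aut⁻¹ (δ (cls (rt H e w l)))) = _
      rw [show ∀ z, s.aut (s.aut⁻¹ z) = z from s.aut.apply_symm_apply, hd, hs2]
      exact hE)
  have hone := eq_one_of_induces_id hc hγ p hid
  refine ⟨(unitSemi g.1).comp s, ?_⟩
  rw [SemiUnit.aut_comp, unitSemi_aut, inv_mul_eq_one.mp hone, hδdef, mul_inv_cancel_left]

end Core

end CfsgLib.AutPSU
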