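import Mathlib
import Cfsg.Agent.Lib.AutPSU.Decomp

/-!
The semilinear isometries acting trivially on the simple group.
-/

set_option autoImplicit false

namespace CfsgLib.AutPSU

open CfsgLib.Classical.Herm CfsgLib.Classical.Herm.HermSpace Module

variable {F V : Type*} [Field F] [AddCommGroup V] [Module F V] {H : HermSpace F V} [Nontrivial V]

theorem aut_congr {s t : SemiUnit H} (h : ∀ x, s.M x = t.M x) : s.aut = t.aut := by
  refine MulEquiv.ext fun z => ?_
  obtain ⟨g, rfl⟩ := QuotientGroup.mk_surjective z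
  exact s.aut_eq fun x => by rw [h, h]; exact t.genAut_apply g x

variable [FiniteDimensional F V] [Finite F]

/-- A semilinear isometry acting trivially is a scalar. -/
theorem aut_eq_one (hc : Ctx H) {s : SemiUnit H} (h : s.aut = 1) :
    s.tau = RingEquiv.refl F ∧ ∃ a : F, a * H.conj a = 1 ∧ ∀ x, s.M x = a • x := by
  obtain ⟨e, f, p⟩ := hc.pair
  have hline : ∀ u, u ≠ 0 → H.h u u = 0 → ∃ a : F, a ≠ 0 ∧ s.M u = a • u := by
    intro u hu0 hu
    have h1 := s.aut_TT hu
    rw [h] at h1
    have h2 : TT H (s.M u) = TT H u := h1.symm.trans (Subgroup.map_id _)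
    exact TT_inj hc (by simpa using hu0) (by rw [s.map_h, hu, map_zero]) hu h2
  obtain ⟨a, ha, hMe⟩ := hline e p.left_ne_zero p.1
  obtain ⟨b, hb, hMf⟩ := hline f p.swap.left_ne_zero p.2.1
  have hca := H.conj_ne_zero ha
  have hba : b = (H.conj a)⁻¹ := by
    have h1 := s.map_h f e
    rw [hMe, hMf, H.smul_left, H.smul_right, p.2.2, mul_one, map_one] at h1
    exact eq_inv_of_mul_eq_one_left h1
  have hW : ∀ w l, InW H e f w → RootCond H e w l → H.conj a • s.M w = w ∧ a * H.conj a * s.tau l = l := by
    intro w l hw c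
    have h1 := s.aut_rt c
    rw [h, MulAut.one_apply] at h1
    have c1 := s.rootCond c
    rw [hMe] at c1 h1
    rw [rt_smul_vec ha c1] at h1
    have hw' : InW H e f (s.M w) := by
      constructor
      · have h2 := s.map_h w e
        rw [hMe, H.smul_right, hw.1, map_zero, mul_eq_zero] at h2
        exact h2.resolve_left hca
      · have h2 := s.map_h w f
        rw [hMf, H.smul_right, hw.2, map_zero, mul_eq_zero] at h2
        exact h2.resolve_left (H.conj_ne_zero hb)
    obtain ⟨e1, e2⟩ := rt_inj hc p hw (hw'.smul _) c (c1.smul a ha) h1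
    exact ⟨e1.symm, e2.symm⟩
  have hWM : ∀ w, InW H e f w → H.conj a • s.M w = w := fun w hw => by
    obtain ⟨l, c⟩ := exists_root_cond p.1 hw
    exact (hW w l hw c).1
  obtain ⟨y, hy, hyy⟩ := exists_nonisotropic_W hc p
  have hy0 : y ≠ 0 := fun h0 => hyy (by rw [h0, H.zero_left])
  have htau : ∀ c : F, s.tau c = c := by
    intro c
    have h1 := hWM _ (hy.smul c)
    rw [s.map_smul', smul_comm, hWM y hy] at h1
    exact smul_left_injective F hy0 h1
  obtain ⟨d, hd0, hd⟩ := H.exists_skew
  have hN : a * H.conj a = 1 := by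
    have h1 := (hW 0 d InW.zero (tr_cond p.1 hd)).2
    rw [htau] at h1
    exact mul_right_cancel₀ hd0 (by rw [h1, one_mul])
  refine ⟨RingEquiv.ext htau, a, hN, fun x => ?_⟩
  have hb' : b = a := by rw [hba, inv_eq_of_mul_eq_one_left hN]
  have hP : s.M (pairProj H e f x) = a • pairProj H e f x := by
    have h1 := congrArg (a • ·) (hWM _ (pairProj_mem p x))
    simp only [smul_smul, hN, one_smul] at h1
    exact h1
  conv_lhs => rw [pair_decomp (H := H) (e := e) (f := f) x]
  rw [map_add, map_add, s.map_smul', s.map_smul', htau, htau, hP, hMe, hMf, hb']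
  conv_rhs => rw [pair_decomp (H := H) (e := e) (f := f) x]
  module

end CfsgLib.AutPSU
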