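import Mathlib
import Cfsg.Prelude.Def_LieTypeDatum
import Cfsg.Prelude.Def_LieClassical
import Cfsg.Agent.Lib.AutPSL.Quot

/-!
The standard automorphisms of `PSU_n(q)`: those induced by the general unitary group and by field automorphisms.
-/

set_option autoImplicit false

namespace CfsgLib.AutPSU

open Matrix Cfsg
open scoped MatrixGroups
open CfsgLib.AutPSL (descend descend_mk eq_descend_iff descend_conj)

variable {n : ℕ} {F : Type*} [Field F] {q : ℕ}

/-- The special unitary group, shorthand. -/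
abbrev SUg (n : ℕ) (F : Type*) [Field F] (q : ℕ) : Type _ := ↥(Cfsg.SU n F q)

/-- The general unitary group, shorthand. -/
abbrev GUg (n : ℕ) (F : Type*) [Field F] (q : ℕ) : Type _ := ↥(Cfsg.GU n F q)

/-- The matrix of a special unitary element. -/
abbrev sMat (s : SUg n F q) : Matrix (Fin n) (Fin n) F := s.1.1

/-- The matrix of a unitary element. -/
abbrev uMat (g : GUg n F q) : Matrix (Fin n) (Fin n) F := g.1.1

theorem su_ext {s t : SUg n F q} (h : sMat s = sMat t) : s = t := Subtype.ext (Subtype.ext h)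

theorem gu_ext {g h : GUg n F q} (e : uMat g = uMat h) : g = h := Subtype.ext (Units.ext e)

theorem uMat_mul (g h : GUg n F q) : uMat (g * h) = uMat g * uMat h := rfl

theorem sMat_mul (s t : SUg n F q) : sMat (s * t) = sMat s * sMat t := rfl

theorem uMat_one : uMat (1 : GUg n F q) = 1 := rfl

theorem uMat_inv_mul (g : GUg n F q) : uMat g⁻¹ * uMat g = 1 := Units.inv_mul g.1

theorem uMat_mul_inv (g : GUg n F q) : uMat g * uMat g⁻¹ = 1 := Units.mul_inv g.1

theorem uMat_inv_mul' (g : GUg n F q) (A : Matrix (Fin n) (Fin n) F) : uMat g⁻¹ * (uMat g * A) = A := by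
  rw [← Matrix.mul_assoc, uMat_inv_mul, Matrix.one_mul]

theorem uMat_mul_inv' (g : GUg n F q) (A : Matrix (Fin n) (Fin n) F) : uMat g * (uMat g⁻¹ * A) = A := by
  rw [← Matrix.mul_assoc, uMat_mul_inv, Matrix.one_mul]

/-- `SU` inside `GU`. -/
def suGU : SUg n F q →* GUg n F q where
  toFun s := ⟨Matrix.SpecialLinearGroup.toGL s.1, s.2⟩
  map_one' := Subtype.ext (map_one _)
  map_mul' a b := Subtype.ext (map_mul _ _ _)

theorem suGU_coe (s : SUg n F q) : uMat (suGU s) = sMat s := rfl

/-- Conjugation of a special unitary element by a unitary one. -/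
def conjFun (g : GUg n F q) (s : SUg n F q) : SUg n F q :=
  ⟨⟨uMat g * sMat s * uMat g⁻¹, by
      rw [Matrix.det_mul, Matrix.det_mul, s.1.2, mul_one, ← Matrix.det_mul]
      show (g.1.1 * (g.1⁻¹).1).det = 1
      rw [Units.mul_inv, Matrix.det_one]⟩,
    (g * suGU s * g⁻¹).2⟩

theorem conjFun_coe (g : GUg n F q) (s : SUg n F q) : sMat (conjFun g s) = uMat g * sMat s * uMat g⁻¹ := rfl

/-- Conjugation by the general unitary group. -/
def conjSU : GUg n F q →* MulAut (SUg n F q) where
  toFun g :=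
    { toFun := conjFun g
      invFun := conjFun g⁻¹
      left_inv := fun s => su_ext (by simp [conjFun_coe, Matrix.mul_assoc, uMat_inv_mul, uMat_mul_inv, uMat_inv_mul', uMat_mul_inv', sMat_mul])
      right_inv := fun s => su_ext (by simp [conjFun_coe, Matrix.mul_assoc, uMat_inv_mul, uMat_mul_inv, uMat_inv_mul', uMat_mul_inv', sMat_mul])
      map_mul' := fun s t => su_ext (by simp [conjFun_coe, Matrix.mul_assoc, uMat_inv_mul, uMat_mul_inv, uMat_inv_mul', uMat_mul_inv', sMat_mul]) }
  map_one' := MulEquiv.ext fun s => su_ext (by simp [conjFun_coe, uMat_one])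
  map_mul' g h := MulEquiv.ext fun s => su_ext (by simp [conjFun_coe, _root_.mul_inv_rev, Matrix.mul_assoc, uMat_mul])

theorem conjSU_coe (g : GUg n F q) (s : SUg n F q) : sMat (conjSU g s) = uMat g * sMat s * uMat g⁻¹ := rfl

theorem hermForm_map (σ : F ≃+* F) (u v : Fin n → F) :
    Cfsg.hermForm n F q (fun i => σ (u i)) (fun i => σ (v i)) = σ (Cfsg.hermForm n F q u v) := by
  simp [Cfsg.hermForm, map_sum, map_mul, map_pow]

theorem map_mulVec' (σ : F ≃+* F) (A : Matrix (Fin n) (Fin n) F) (u : Fin n → F) :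
    A.map σ *ᵥ (fun i => σ (u i)) = fun i => σ ((A *ᵥ u) i) :=
  funext fun i => (RingHom.map_mulVec σ.toRingHom A u i).symm

theorem map_preserves (σ : F ≃+* F) {A : Matrix (Fin n) (Fin n) F}
    (hA : ∀ u v, Cfsg.hermForm n F q (A *ᵥ u) (A *ᵥ v) = Cfsg.hermForm n F q u v) (u v : Fin n → F) :
    Cfsg.hermForm n F q (A.map σ *ᵥ u) (A.map σ *ᵥ v) = Cfsg.hermForm n F q u v := by
  obtain ⟨u, rfl⟩ : ∃ u', (fun i => σ (u' i)) = u := ⟨fun i => σ.symm (u i), funext fun i => σ.apply_symm_apply _⟩
  obtain ⟨v, rfl⟩ : ∃ v', (fun i => σ (v' i)) = v := ⟨fun i => σ.symm (v i), funext fun i => σ.apply_symm_apply _⟩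
  rw [map_mulVec', map_mulVec', hermForm_map, hermForm_map, hA]

/-- A field automorphism applied entrywise on `SU`. -/
def fieldFun (σ : F ≃+* F) (s : SUg n F q) : SUg n F q :=
  ⟨⟨(sMat s).map σ, by
      show (σ.toRingHom.mapMatrix (sMat s)).det = 1
      rw [← RingHom.map_det, show (sMat s).det = 1 from s.1.2, map_one]⟩,
    map_preserves σ s.2⟩

theorem fieldFun_coe (σ : F ≃+* F) (s : SUg n F q) : sMat (fieldFun σ s) = (sMat s).map σ := rfl

/-- A field automorphism as an automorphism of `SU`. -/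
def fieldSU : (F ≃+* F) →* MulAut (SUg n F q) where
  toFun σ :=
    { toFun := fieldFun σ
      invFun := fieldFun σ.symm
      left_inv := fun s => su_ext (by ext i j; simp [fieldFun_coe])
      right_inv := fun s => su_ext (by ext i j; simp [fieldFun_coe])
      map_mul' := fun s t => su_ext (Matrix.map_mul (f := σ.toRingHom)) }
  map_one' := MulEquiv.ext fun s => su_ext rfl
  map_mul' σ τ := MulEquiv.ext fun s => su_ext rfl

theorem fieldSU_coe (σ : F ≃+* F) (s : SUg n F q) : sMat (fieldSU σ s) = (sMat s).map σ := rfl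

/-- The automorphism of `PSU` induced by a unitary element. -/
def simAut : GUg n F q →* MulAut (Cfsg.PSU n F q) := descend.comp conjSU

/-- The standard field automorphism of `PSU`. -/
def fieldAut : (F ≃+* F) →* MulAut (Cfsg.PSU n F q) := descend.comp fieldSU

@[simp] theorem simAut_mk (g : GUg n F q) (s : SUg n F q) :
    simAut g (QuotientGroup.mk s) = QuotientGroup.mk (conjSU g s) := rfl

@[simp] theorem fieldAut_mk (σ : F ≃+* F) (s : SUg n F q) :
    fieldAut σ (QuotientGroup.mk s) = QuotientGroup.mk (fieldSU σ s) := rfl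

theorem conjSU_suGU (s : SUg n F q) : conjSU (suGU s) = MulAut.conj s := by
  refine MulEquiv.ext fun t => su_ext ?_
  rw [conjSU_coe, MulAut.conj_apply, suGU_coe, ← map_inv, suGU_coe]
  rfl

theorem simAut_suGU (s : SUg n F q) : simAut (suGU s) = MulAut.conj (QuotientGroup.mk s : Cfsg.PSU n F q) := by
  show descend (conjSU _) = _
  rw [conjSU_suGU, descend_conj]

/-- A field automorphism applied entrywise on `GU`. -/
def guMap (σ : F ≃+* F) : GUg n F q →* GUg n F q :=
  ((Matrix.GeneralLinearGroup.map σ.toRingHom).comp (Cfsg.GU n F q).subtype).codRestrict _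
    fun g => map_preserves σ g.2

theorem guMap_coe (σ : F ≃+* F) (g : GUg n F q) : uMat (guMap σ g) = (uMat g).map σ := rfl

theorem fieldAut_simAut (σ : F ≃+* F) (g : GUg n F q) :
    fieldAut σ * simAut g = simAut (guMap σ g) * fieldAut σ := by
  have h : fieldSU σ * conjSU g = conjSU (guMap σ g) * fieldSU σ := by
    refine MulEquiv.ext fun s => su_ext ?_
    simp only [MulAut.mul_apply, fieldSU_coe, conjSU_coe, guMap_coe]
    show (_ * sMat s * _ : Matrix (Fin n) (Fin n) F).map σ.toRingHom = _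
    rw [Matrix.map_mul, Matrix.map_mul]
    rfl
  simp only [fieldAut, simAut, MonoidHom.comp_apply, ← map_mul, h]

/-! ### The predicates of the prelude -/

theorem isInducedBySemilinearPSU_iff {g : GUg n F q} {σ : F ≃+* F} {β : MulAut (Cfsg.PSU n F q)} :
    Cfsg.IsInducedBySemilinearPSU g.1 σ β ↔ β = simAut g * fieldAut σ := by
  constructor
  · intro h
    ext x
    induction x using QuotientGroup.induction_on with
    | _ s => exact h s (conjSU g (fieldSU σ s)) rfl
  · rintro rfl s s' h
    rw [MulAut.mul_apply, fieldAut_mk, simAut_mk]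
    exact congrArg _ (su_ext h.symm)

theorem isInnerDiagonalAutPSU_iff {β : MulAut (Cfsg.PSU n F q)} :
    Cfsg.IsInnerDiagonalAutPSU β ↔ β ∈ (simAut (n := n) (F := F) (q := q)).range := by
  rw [MonoidHom.mem_range]
  constructor
  · rintro ⟨g, hg, h⟩
    exact ⟨⟨g, hg⟩, ((eq_descend_iff (e := conjSU (⟨g, hg⟩ : GUg n F q))).mpr fun s => h s _ rfl).symm⟩
  · rintro ⟨g, rfl⟩
    exact ⟨g.1, g.2, fun s s' h => (simAut_mk g s).trans (congrArg _ (su_ext h.symm))⟩

theorem isFieldAutPSUOf_iff {σ : F ≃+* F} {β : MulAut (Cfsg.PSU n F q)} :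
    Cfsg.IsFieldAutPSUOf σ β ↔ β = fieldAut σ := by
  constructor
  · intro h
    exact eq_descend_iff.mpr fun s => h s (fieldSU σ s) rfl
  · rintro rfl s s' h
    exact (fieldAut_mk σ s).trans (congrArg _ (su_ext h.symm))

theorem inndiagPSU_eq : Cfsg.inndiagPSU n F q = (simAut (n := n) (F := F) (q := q)).range := by
  have : {β : MulAut (Cfsg.PSU n F q) | Cfsg.IsInnerDiagonalAutPSU β} =
      ((simAut (n := n) (F := F) (q := q)).range : Set _) := by
    ext β
    exact isInnerDiagonalAutPSU_iff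
  show Subgroup.closure {β : MulAut (Cfsg.PSU n F q) | Cfsg.IsInnerDiagonalAutPSU β} = _
  rw [this, Subgroup.closure_eq]

theorem gammaPSU_eq_top
    (h : ∀ β : MulAut (Cfsg.PSU n F q), ∃ (g : GUg n F q) (σ : F ≃+* F), β = simAut g * fieldAut σ) :
    Cfsg.gammaPSU n F q = ⊤ := by
  rw [eq_top_iff]
  intro β _
  obtain ⟨g, σ, hβ⟩ := h β
  exact Subgroup.subset_closure ⟨g.1, σ, g.2, isInducedBySemilinearPSU_iff.mpr hβ⟩

end CfsgLib.AutPSU
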