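import Mathlib
import Cfsg.Agent.Lib.AutPSU.Kernel
import Cfsg.Agent.Lib.AutPSU.Matrix
import Cfsg.Agent.Lib.Classical.Herm.Std
import Cfsg.Agent.Lib.AutPSL.FieldAut

/-!
`PSU_n(q)` as the simple group of the standard Hermitian space: the structure of its automorphism group.
-/

set_option autoImplicit false

namespace CfsgLib.AutPSU

open Matrix
open CfsgLib.Classical.Herm CfsgLib.Classical.Herm.HermSpace

variable {n : ℕ} {F : Type*} [Field F] [Fintype F] {q : ℕ}

theorem ctx_std (hF : Fintype.card F = q ^ 2) (hn : 3 ≤ n) (hs : ¬ (n = 3 ∧ q = 2)) : Ctx (stdHerm hF n) := by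
  refine ⟨big_std hF hn, exists_pair_std hF hn, perfectable_std hF hn hs, ?_⟩
  rw [Module.finrank_fin_fun]
  rcases Nat.lt_or_ge n 4 with h | h
  · refine Or.inr ⟨by omega, ?_⟩
    have hq := two_le_of_card hF
    have hq3 : 3 ≤ q := by
      by_contra hcon
      exact hs ⟨by omega, by omega⟩
    have hcard := card_fixed_units hF
    obtain ⟨⟨u, hu⟩, hne⟩ : ∃ x : (powMonoidHom (q - 1) : Fˣ →* Fˣ).ker, x ≠ 1 := by
      by_contra hcon
      push Not at hcon
      have : Subsingleton (powMonoidHom (q - 1) : Fˣ →* Fˣ).ker := ⟨fun a b => by rw [hcon a, hcon b]⟩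
      rw [Nat.card_of_subsingleton (1 : (powMonoidHom (q - 1) : Fˣ →* Fˣ).ker)] at hcard
      omega
    exact ⟨(u : F), (qPow_fixed_unit_iff hF u).mpr hu, u.ne_zero,
      fun h1 => hne (Subtype.ext (Units.ext h1))⟩
  · exact Or.inl h

theorem nontrivial_std (hn : 3 ≤ n) : Nontrivial (Fin n → F) :=
  haveI : Nonempty (Fin n) := ⟨⟨0, by omega⟩⟩
  Function.nontrivial

theorem su_map_center (hF : Fintype.card F = q ^ 2) (hn : 3 ≤ n) :
    (Subgroup.center (Cfsg.SU n F q)).map (suEquivRoot hF hn).toMonoidHom =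
      Subgroup.center (rootGen (stdHerm hF n)) := by
  ext b
  constructor
  · rintro ⟨a, ha, rfl⟩
    refine Subgroup.mem_center_iff.2 fun b => ?_
    obtain ⟨b', rfl⟩ := (suEquivRoot hF hn).surjective b
    show suEquivRoot hF hn b' * suEquivRoot hF hn a = suEquivRoot hF hn a * suEquivRoot hF hn b'
    rw [← map_mul, ← map_mul, Subgroup.mem_center_iff.1 ha]
  · intro hb
    refine ⟨(suEquivRoot hF hn).symm b, Subgroup.mem_center_iff.2 fun a => (suEquivRoot hF hn).injective ?_,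
      (suEquivRoot hF hn).apply_symm_apply b⟩
    rw [map_mul, map_mul, MulEquiv.apply_symm_apply]
    exact Subgroup.mem_center_iff.1 hb _

/-- `PSU` as the simple group of the standard space. -/
noncomputable def psuEquiv (hF : Fintype.card F = q ^ 2) (hn : 3 ≤ n) :
    Cfsg.PSU n F q ≃* Gq (stdHerm hF n) :=
  QuotientGroup.congr _ _ (suEquivRoot hF hn) (su_map_center hF hn)

theorem psuEquiv_mk (hF : Fintype.card F = q ^ 2) (hn : 3 ≤ n) (s : SUg n F q) :
    psuEquiv hF hn (QuotientGroup.mk s) = cls (suEquivRoot hF hn s) := rfl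

theorem ap_root (hF : Fintype.card F = q ^ 2) (hn : 3 ≤ n) (s : SUg n F q) (x : Fin n → F) :
    ap (suEquivRoot hF hn s) x = sMat s *ᵥ x :=
  suEquiv_apply hF n s x

/-- The semilinear isometry `x ↦ g σ(x)`. -/
noncomputable def stdSemi (hF : Fintype.card F = q ^ 2) (g : GUg n F q) (σ : F ≃+* F) :
    SemiUnit (stdHerm hF n) where
  tau := σ
  M := (AddEquiv.piCongrRight fun _ : Fin n => σ.toAddEquiv).trans (guEquiv hF n g).1.toAddEquiv
  map_smul' c x := by
    show (guEquiv hF n g).1 (fun i => σ ((c • x) i)) = σ c • (guEquiv hF n g).1 (fun i => σ (x i))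
    rw [← LinearEquiv.map_smul]
    congr 1
    funext i
    simp
  map_h x y := by
    show (stdHerm hF n).h ((guEquiv hF n g).1 (fun i => σ (x i))) ((guEquiv hF n g).1 (fun i => σ (y i))) = _
    rw [unit_h, stdHerm_h, stdHerm_h, hermForm_map]

theorem stdSemi_M (hF : Fintype.card F = q ^ 2) (g : GUg n F q) (σ : F ≃+* F) (x : Fin n → F) :
    (stdSemi hF g σ).M x = uMat g *ᵥ fun i => σ (x i) :=
  guEquiv_apply hF n g _

theorem transport [Nontrivial (Fin n → F)] (hF : Fintype.card F = q ^ 2) (hn : 3 ≤ n) (g : GUg n F q)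
    (σ : F ≃+* F) (z : Cfsg.PSU n F q) :
    psuEquiv hF hn ((simAut g * fieldAut σ : MulAut (Cfsg.PSU n F q)) z) =
      (stdSemi hF g σ).aut (psuEquiv hF hn z) := by
  induction z using QuotientGroup.induction_on with
  | _ s =>
    rw [MulAut.mul_apply, fieldAut_mk, simAut_mk, psuEquiv_mk, psuEquiv_mk]
    refine ((stdSemi hF g σ).aut_eq fun x => ?_).symm
    rw [stdSemi_M, stdSemi_M, ap_root, ap_root, conjSU_coe, fieldSU_coe, mulVec_mulVec, Matrix.mul_assoc,
      uMat_inv_mul, Matrix.mul_one, ← mulVec_mulVec, map_mulVec']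

/-- Every automorphism is semilinear. -/
theorem aut_decomposition (hF : Fintype.card F = q ^ 2) (hn : 3 ≤ n) (hs : ¬ (n = 3 ∧ q = 2))
    (β : MulAut (Cfsg.PSU n F q)) : ∃ (g : GUg n F q) (σ : F ≃+* F), β = simAut g * fieldAut σ := by
  haveI := nontrivial_std (F := F) hn
  set Ψ := psuEquiv hF hn with hΨ
  obtain ⟨s, hsβ⟩ := exists_semi (ctx_std hF hn hs) ((Ψ.symm.trans β).trans Ψ)
  let L : (Fin n → F) ≃ₗ[F] (Fin n → F) :=
    { (AddEquiv.piCongrRight fun _ : Fin n => s.tau.symm.toAddEquiv).trans s.M with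
      map_smul' := fun c x => by
        show s.M (fun i => s.tau.symm ((c • x) i)) = c • s.M (fun i => s.tau.symm (x i))
        rw [show (fun i => s.tau.symm ((c • x) i)) = s.tau.symm c • (fun i => s.tau.symm (x i)) from
          funext fun i => by simp, s.map_smul', RingEquiv.apply_symm_apply] }
  have hL : ∀ x, L x = s.M (fun i => s.tau.symm (x i)) := fun x => rfl
  let u : Unit' (stdHerm hF n) := ⟨L, fun x y => by
    rw [hL, hL, s.map_h, stdHerm_h, hermForm_map, RingEquiv.apply_symm_apply]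
    rfl⟩
  refine ⟨(guEquiv hF n).symm u, s.tau, MulEquiv.ext fun z => Ψ.injective ?_⟩
  rw [transport]
  have h1 : s.aut = (stdSemi hF ((guEquiv hF n).symm u) s.tau).aut := aut_congr fun x => by
    show s.M x = (guEquiv hF n ((guEquiv hF n).symm u)).1 (fun i => s.tau (x i))
    rw [MulEquiv.apply_symm_apply]
    show s.M x = L _
    rw [hL]
    congr 1
    funext i
    rw [RingEquiv.symm_apply_apply]
  rw [← h1, ← hsβ]
  simp [hΨ]

/-- The kernel of the semilinear action. -/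
theorem semilinear_eq_one (hF : Fintype.card F = q ^ 2) (hn : 3 ≤ n) (hs : ¬ (n = 3 ∧ q = 2)) {g : GUg n F q}
    {σ : F ≃+* F} (h : (simAut g * fieldAut σ : MulAut (Cfsg.PSU n F q)) = 1) :
    σ = RingEquiv.refl F ∧ ∃ a : F, a * a ^ q = 1 ∧ uMat g = a • 1 := by
  haveI := nontrivial_std (F := F) hn
  have h1 : (stdSemi hF g σ).aut = 1 := MulEquiv.ext fun z => by
    obtain ⟨y, rfl⟩ := (psuEquiv hF hn).surjective z
    rw [← transport, h]
    rfl
  obtain ⟨hσ, a, ha, hM⟩ := aut_eq_one (ctx_std hF hn hs) h1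
  replace hσ : σ = RingEquiv.refl F := hσ
  subst hσ
  refine ⟨rfl, a, ha, Matrix.toLin'.injective (LinearMap.ext fun x => ?_)⟩
  have h2 := hM x
  rw [stdSemi_M] at h2
  rw [Matrix.toLin'_apply, Matrix.toLin'_apply, smul_mulVec, one_mulVec]
  exact h2

theorem fieldAut_injective (hF : Fintype.card F = q ^ 2) (hn : 3 ≤ n) (hs : ¬ (n = 3 ∧ q = 2)) :
    Function.Injective (fieldAut (n := n) (F := F) (q := q)) :=
  (injective_iff_map_eq_one _).mpr fun σ h =>
    (semilinear_eq_one hF hn hs (g := 1) (σ := σ) (by rw [map_one, one_mul, h])).1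

theorem semilinear_inj (hF : Fintype.card F = q ^ 2) (hn : 3 ≤ n) (hs : ¬ (n = 3 ∧ q = 2)) {g g' : GUg n F q}
    {σ σ' : F ≃+* F} (h : (simAut g * fieldAut σ : MulAut (Cfsg.PSU n F q)) = simAut g' * fieldAut σ') :
    (simAut g : MulAut (Cfsg.PSU n F q)) = simAut g' ∧ σ = σ' := by
  have h1 : (simAut (g'⁻¹ * g) * fieldAut (σ * σ'⁻¹) : MulAut (Cfsg.PSU n F q)) = 1 := by
    rw [map_mul, map_inv, map_mul, map_inv, mul_assoc, ← mul_assoc (simAut g), h]
    group
  have h2 : σ = σ' := mul_inv_eq_one.mp (semilinear_eq_one hF hn hs h1).1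
  subst h2
  exact ⟨mul_right_cancel h, rfl⟩

theorem simAut_eq_one_iff (hF : Fintype.card F = q ^ 2) (hn : 3 ≤ n) (hs : ¬ (n = 3 ∧ q = 2)) {g : GUg n F q} :
    (simAut g : MulAut (Cfsg.PSU n F q)) = 1 ↔ ∃ a : F, uMat g = a • 1 := by
  constructor
  · intro h
    obtain ⟨-, a, -, ha⟩ := semilinear_eq_one hF hn hs (g := g) (σ := 1) (by rw [map_one, mul_one, h])
    exact ⟨a, ha⟩
  · rintro ⟨a, ha⟩
    refine MulEquiv.ext fun z => ?_
    induction z using QuotientGroup.induction_on with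
    | _ s =>
      rw [simAut_mk, MulAut.one_apply]
      refine congrArg _ (su_ext ?_)
      have h1 := uMat_mul_inv g
      rw [ha, Matrix.smul_mul, Matrix.one_mul] at h1
      rw [conjSU_coe, ha, Matrix.smul_mul, Matrix.one_mul, Matrix.smul_mul, ← Matrix.mul_smul, h1, Matrix.mul_one]

theorem simAut_eq_iff (hF : Fintype.card F = q ^ 2) (hn : 3 ≤ n) (hs : ¬ (n = 3 ∧ q = 2)) {g h : GUg n F q} :
    (simAut g : MulAut (Cfsg.PSU n F q)) = simAut h ↔ ∃ a : F, uMat g = a • uMat h := by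
  rw [← div_eq_one, ← map_div, simAut_eq_one_iff hF hn hs, div_eq_mul_inv, uMat_mul]
  constructor
  · rintro ⟨a, ha⟩
    refine ⟨a, ?_⟩
    have := congrArg (· * uMat h) ha
    simp only [Matrix.mul_assoc, uMat_inv_mul, Matrix.mul_one, Matrix.smul_mul, Matrix.one_mul] at this
    exact this
  · rintro ⟨a, ha⟩
    exact ⟨a, by rw [ha, Matrix.smul_mul, uMat_mul_inv]⟩

theorem inn_le : Cfsg.Inn (Cfsg.PSU n F q) ≤ (simAut (n := n) (F := F) (q := q)).range := by
  rintro _ ⟨x, rfl⟩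
  obtain ⟨A, rfl⟩ := QuotientGroup.mk_surjective x
  exact ⟨suGU A, simAut_suGU A⟩

theorem card_range (hF : Fintype.card F = q ^ 2) (hn : 3 ≤ n) (hs : ¬ (n = 3 ∧ q = 2)) :
    Nat.card ↥(simAut (n := n) (F := F) (q := q)).range = Nat.gcd n (q + 1) * Nat.card (Cfsg.PSU n F q) := by
  have hker : Nat.card (simAut (n := n) (F := F) (q := q)).ker = q + 1 := by
    have hsc : ∀ u : (powMonoidHom (q + 1) : Fˣ →* Fˣ).ker,
        Matrix.GeneralLinearGroup.scalar (Fin n) u.1 ∈ Cfsg.GU n F q := by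
      intro u x y
      have hu : (u.1 : F) * (u.1 : F) ^ q = 1 := by
        rw [← pow_succ', ← Units.val_pow_eq_pow_val]
        exact congrArg Units.val (MonoidHom.mem_ker.mp u.2)
      show Cfsg.hermForm n F q ((Matrix.GeneralLinearGroup.scalar (Fin n) u.1).1 *ᵥ x)
        ((Matrix.GeneralLinearGroup.scalar (Fin n) u.1).1 *ᵥ y) = _
      simp [Cfsg.hermForm, Matrix.GeneralLinearGroup.scalar, mul_pow]
      refine Finset.sum_congr rfl fun i _ => ?_
      linear_combination (x i * y i ^ q) * hu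
    rw [← card_normOne_units hF]
    symm
    refine Nat.card_congr (Equiv.ofBijective (fun u => ⟨⟨_, hsc u⟩, MonoidHom.mem_ker.mpr
      ((simAut_eq_one_iff hF hn hs).mpr ⟨(u.1 : F), by
        show (Matrix.GeneralLinearGroup.scalar (Fin n) u.1).1 = _
        ext i j; simp [Matrix.GeneralLinearGroup.scalar, Matrix.one_apply, Matrix.diagonal]⟩)⟩) ⟨?_, ?_⟩)
    · intro u v huv
      have h1 : uMat (⟨_, hsc u⟩ : GUg n F q) = uMat (⟨_, hsc v⟩ : GUg n F q) :=
        congrArg (fun k : (simAut (n := n) (F := F) (q := q)).ker => uMat k.1) huv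
      have h2 := congrFun (congrFun h1 ⟨0, by omega⟩) ⟨0, by omega⟩
      simp [Matrix.GeneralLinearGroup.scalar] at h2
      exact Subtype.ext (Units.ext h2)
    · rintro ⟨g, hg⟩
      obtain ⟨-, a, ha, hga⟩ := semilinear_eq_one hF hn hs (g := g) (σ := 1)
        (by rw [map_one, mul_one, MonoidHom.mem_ker.mp hg])
      refine ⟨⟨Units.mk0 a (left_ne_zero_of_mul_eq_one ha), Units.ext ?_⟩, Subtype.ext (gu_ext ?_)⟩
      · rw [powMonoidHom_apply, Units.val_pow_eq_pow_val, Units.val_mk0, pow_succ', Units.val_one]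
        exact ha
      · rw [hga]
        show (Matrix.GeneralLinearGroup.scalar (Fin n) _).1 = _
        ext i j; simp [Matrix.GeneralLinearGroup.scalar, Matrix.one_apply, Matrix.diagonal]
  have h1 := Subgroup.card_eq_card_quotient_mul_card_subgroup (simAut (n := n) (F := F) (q := q)).ker
  rw [Nat.card_congr (QuotientGroup.quotientKerEquivRange (simAut (n := n) (F := F) (q := q))).toEquiv, hker,
    Nat.card_congr (guEquiv hF n).toEquiv, ← card_unit_eq_mul_su hF (by omega)] at h1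
  have h2 := Subgroup.card_eq_card_quotient_mul_card_subgroup (Subgroup.center (Cfsg.SU n F q))
  rw [card_center_su hF hn] at h2
  refine Nat.eq_of_mul_eq_mul_right (Nat.succ_pos q) ?_
  rw [← h1, h2, Nat.succ_eq_add_one]
  ring

theorem card_aut (p f : ℕ) [Fact p.Prime] (hq : q = p ^ f) (hF : Fintype.card F = q ^ 2) (hn : 3 ≤ n)
    (hs : ¬ (n = 3 ∧ q = 2)) :
    Nat.card (MulAut (Cfsg.PSU n F q)) = Nat.gcd n (q + 1) * (2 * f) * Nat.card (Cfsg.PSU n F q) := by
  have hF' : Fintype.card F = p ^ (2 * f) := by rw [hF, hq, ← pow_mul, mul_comm]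
  let Φ : ↥(simAut (n := n) (F := F) (q := q)).range × (F ≃+* F) → MulAut (Cfsg.PSU n F q) :=
    fun x => x.1.1 * fieldAut x.2
  have hΦ : Function.Bijective Φ := by
    constructor
    · rintro ⟨⟨_, g, rfl⟩, σ⟩ ⟨⟨_, g', rfl⟩, σ'⟩ h
      obtain ⟨h1, h2⟩ := semilinear_inj hF hn hs h
      exact Prod.ext (Subtype.ext h1) h2
    · intro β
      obtain ⟨g, σ, h⟩ := aut_decomposition hF hn hs β
      exact ⟨⟨⟨_, g, rfl⟩, σ⟩, h.symm⟩
  rw [← Nat.card_congr (Equiv.ofBijective Φ hΦ), Nat.card_prod, CfsgLib.AutPSL.card_ringAut hF', card_range hF hn hs]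
  ring

end CfsgLib.AutPSU
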