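import Mathlib
import Cfsg.Agent.Lib.AutPSU.Bridge
import Cfsg.Agent.Lib.AutPSL.FieldAut
import Cfsg.Agent.Lib.AutPSL.HermCongr
import Cfsg.Agent.Lib.AutPSL.Coset

/-!
Field automorphisms of odd order of `PSU_n(q)`: the elements of the same order in the coset are conjugate.
-/

set_option autoImplicit false

namespace CfsgLib.AutPSU

open Matrix Cfsg
open CfsgLib.Classical.Herm CfsgLib.Classical.Herm.HermSpace
open CfsgLib.AutPSL (fixedField mem_fixedField exists_norm_eq semilinear_fixed_span ringAut_comm card_fixedField_pow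
  exists_hermitian_congr)

variable {n : ℕ} {F : Type*} [Field F] [Fintype F] {q : ℕ}

theorem h_sum (hF : Fintype.card F = q ^ 2) {ι κ : Type*} (s : Finset ι) (t : Finset κ) (a : ι → F) (b : κ → F)
    (u : ι → Fin n → F) (v : κ → Fin n → F) :
    (stdHerm hF n).h (∑ i ∈ s, a i • u i) (∑ j ∈ t, b j • v j) =
      ∑ i ∈ s, ∑ j ∈ t, a i * qPow hF (b j) * (stdHerm hF n).h (u i) (v j) := by
  set H := stdHerm hF n with hH
  have hl : ∀ y, H.h (∑ i ∈ s, a i • u i) y = ∑ i ∈ s, a i * H.h (u i) y := fun y => by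
    rw [← form_apply, map_sum]
    simp [H.smul_left]
  rw [hl]
  refine Finset.sum_congr rfl fun i _ => ?_
  rw [← H.symm' (∑ j ∈ t, b j • v j) (u i), ← form_apply, map_sum, map_sum, Finset.mul_sum]
  refine Finset.sum_congr rfl fun j _ => ?_
  rw [form_apply, H.smul_left, map_mul, H.symm', mul_assoc]
  rfl

/-- A matrix with orthonormal columns is unitary. -/
theorem preserves_of_cols (hF : Fintype.card F = q ^ 2) {A : Matrix (Fin n) (Fin n) F}
    (h : ∀ i j, (stdHerm hF n).h (fun k => A k i) (fun k => A k j) = if i = j then 1 else 0) (u v : Fin n → F) :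
    Cfsg.hermForm n F q (A *ᵥ u) (A *ᵥ v) = Cfsg.hermForm n F q u v := by
  have hA : ∀ w : Fin n → F, A *ᵥ w = ∑ i, w i • (fun k => A k i) := fun w => funext fun k => by
    simp [Matrix.mulVec, dotProduct, mul_comm]
  rw [← stdHerm_h hF, hA, hA, h_sum]
  simp only [h, mul_ite, mul_one, mul_zero, Finset.sum_ite_eq, Finset.mem_univ, if_true]
  rfl

theorem exists_gu_of_cols (hF : Fintype.card F = q ^ 2) {A : Matrix (Fin n) (Fin n) F}
    (h : ∀ i j, (stdHerm hF n).h (fun k => A k i) (fun k => A k j) = if i = j then 1 else 0) :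
    ∃ g : GUg n F q, uMat g = A := by
  have hinj : Function.Injective A.mulVec := fun u v huv => by
    refine sub_eq_zero.mp ((stdHerm hF n).nondeg _ fun y => ?_)
    rw [stdHerm_h, ← preserves_of_cols hF h, Matrix.mulVec_sub, huv, sub_self, ← stdHerm_h hF,
      HermSpace.zero_left]
  obtain ⟨u, hu⟩ := Matrix.mulVec_injective_iff_isUnit.mp hinj
  exact ⟨⟨u, fun x y => by rw [Units.coeHom_apply, hu]; exact preserves_of_cols hF h x y⟩, hu⟩

theorem pow_semi (hF : Fintype.card F = q ^ 2) (g : GUg n F q) (σ : F ≃+* F) (r : ℕ) :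
    ∃ P : GUg n F q, (simAut g * fieldAut σ : MulAut (Cfsg.PSU n F q)) ^ r = simAut P * fieldAut (σ ^ r) ∧
      ∀ v, (stdSemi hF g σ).M^[r] v = uMat P *ᵥ fun i => (σ ^ r) (v i) := by
  induction r with
  | zero =>
    refine ⟨1, by simp, fun v => ?_⟩
    rw [Function.iterate_zero_apply, uMat_one, Matrix.one_mulVec, pow_zero]
    rfl
  | succ r ih =>
    obtain ⟨P, hP, hit⟩ := ih
    refine ⟨g * guMap σ P, ?_, fun v => ?_⟩
    · rw [pow_succ', hP, pow_succ', map_mul fieldAut, map_mul simAut,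
        show (simAut g * fieldAut σ * (simAut P * fieldAut (σ ^ r)) : MulAut (Cfsg.PSU n F q)) =
          simAut g * (fieldAut σ * simAut P) * fieldAut (σ ^ r) by group, fieldAut_simAut]
      group
    · rw [Function.iterate_succ_apply', hit, stdSemi_M, uMat_mul, guMap_coe, ← mulVec_mulVec, ← map_mulVec',
        pow_succ']
      rfl

theorem qPow_sigma (hF : Fintype.card F = q ^ 2) (σ : F ≃+* F) (a : F) : σ (qPow hF a) = qPow hF (σ a) := by
  rw [qPow_apply, qPow_apply, map_pow]

/-- A nonzero skew element fixed by an automorphism of odd order. -/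
theorem exists_skew_fixed (hF : Fintype.card F = q ^ 2) {σ : F ≃+* F} (hodd : Odd (orderOf σ)) :
    ∃ a : F, a ≠ 0 ∧ σ a = a ∧ qPow hF a = -a := by
  obtain ⟨l, hl0, hl⟩ := (stdHerm hF 1).exists_skew
  replace hl : qPow hF l = -l := eq_neg_of_add_eq_zero_right hl
  set r := orderOf σ
  refine ⟨∏ i ∈ Finset.range r, (σ ^ i) l, Finset.prod_ne_zero_iff.mpr fun i _ h0 => hl0 ((σ ^ i).injective (h0.trans (map_zero _).symm)), ?_, ?_⟩
  · have h1 : ∏ i ∈ Finset.range r, (σ ^ (i + 1)) l = ∏ i ∈ Finset.range r, (σ ^ i) l := by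
      have e1 := Finset.prod_range_succ' (fun i => (σ ^ i) l) r
      rw [Finset.prod_range_succ, pow_orderOf_eq_one, pow_zero] at e1
      exact (mul_right_cancel₀ (b := l) (by simpa using hl0) e1).symm
    rw [map_prod]
    refine Eq.trans (Finset.prod_congr rfl fun i _ => ?_) h1
    rw [pow_succ']
    rfl
  · rw [map_prod]
    have : ∀ i ∈ Finset.range r, qPow hF ((σ ^ i) l) = -(σ ^ i) l := fun i _ => by
      rw [← qPow_sigma, hl, map_neg]
    rw [Finset.prod_congr rfl this, Finset.prod_neg, Finset.card_range, hodd.neg_one_pow, neg_one_mul]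

/-- Elements of order `r = orderOf σ` in the coset of `fieldAut σ` are conjugates of it. -/
theorem field_coset_conj (hF : Fintype.card F = q ^ 2) (hn : 3 ≤ n) (hs : ¬ (n = 3 ∧ q = 2)) {σ : F ≃+* F} {r : ℕ}
    (hr : orderOf σ = r) (hodd : Odd r) {g : GUg n F q}
    (hy : (simAut g * fieldAut σ : MulAut (Cfsg.PSU n F q)) ^ r = 1) :
    ∃ h : GUg n F q,
      (simAut g * fieldAut σ : MulAut (Cfsg.PSU n F q)) = simAut h * fieldAut σ * (simAut h)⁻¹ := by
  classical
  set H := stdHerm hF n with hH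
  set s := stdSemi hF g σ with hsdef
  have hσr : σ ^ r = 1 := by rw [← hr]; exact pow_orderOf_eq_one σ
  obtain ⟨P, hP, hit⟩ := pow_semi hF g σ r
  rw [hP, hσr, map_one, mul_one] at hy
  obtain ⟨-, c, hcN, hPc⟩ := semilinear_eq_one hF hn hs (g := P) (σ := 1) (by rw [map_one, mul_one, hy])
  have hc0 : c ≠ 0 := left_ne_zero_of_mul_eq_one hcN
  have hiter : ∀ v, s.M^[r] v = c • v := by
    intro v
    rw [hit, hPc, hσr, Matrix.smul_mulVec, Matrix.one_mulVec]
    rfl
  let i₀ : Fin n := ⟨0, by omega⟩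
  set e₀ : Fin n → F := Pi.single i₀ 1 with he₀def
  have he₀ : e₀ ≠ 0 := fun h0 => one_ne_zero (α := F) (by simpa [he₀def] using congrFun h0 i₀)
  have hσc : σ c = c := by
    have h1 : s.M^[r] (s.M e₀) = s.M (s.M^[r] e₀) := by
      rw [← Function.iterate_succ_apply, Function.iterate_succ_apply']
    rw [hiter, hiter, s.map_smul'] at h1
    exact (smul_left_injective F (by simpa using he₀) h1).symm
  obtain ⟨x, hx⟩ := exists_norm_eq σ hr (c := c⁻¹) (by rw [map_inv₀, hσc])
  let φ : (Fin n → F) → Fin n → F := fun v => x • s.M v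
  have hφsmul : ∀ (b : F) v, φ (b • v) = σ b • φ v := fun b v => by
    simp only [φ, s.map_smul']; exact smul_comm _ _ _
  have hφit : ∀ k v, φ^[k] v = (∏ i ∈ Finset.range k, (σ ^ i) x) • s.M^[k] v := by
    intro k v
    induction k with
    | zero => simp
    | succ k ih =>
      rw [Function.iterate_succ_apply', ih, hφsmul]
      simp only [φ]
      rw [← Function.iterate_succ_apply' s.M, smul_smul]
      congr 1
      rw [Finset.prod_range_succ', map_prod, pow_zero]
      congr 1
      exact Finset.prod_congr rfl fun i _ => by rw [pow_succ']; rfl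
  have hper : ∀ v, φ^[r] v = v := fun v => by
    rw [hφit, hx, hiter, smul_smul, inv_mul_cancel₀ hc0, one_smul]
  have hadd : ∀ u v, φ (u + v) = φ u + φ v := fun u v => by simp only [φ, map_add, smul_add]
  set ν : F := x * qPow hF x with hν
  have hνq : qPow hF ν = ν := by rw [hν, map_mul, qPow_qPow, mul_comm]
  have hform : ∀ u v, H.h (φ u) (φ v) = ν * σ (H.h u v) := fun u v => by
    simp only [φ, H.smul_left, H.smul_right]
    rw [show H.h (s.M u) (s.M v) = σ (H.h u v) from s.map_h u v]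
    show x * (qPow hF x * σ (H.h u v)) = ν * σ (H.h u v)
    rw [hν, mul_assoc]
  obtain ⟨η, hη0, hη, hηq⟩ : ∃ η : F, η ≠ 0 ∧ ν * σ η = η ∧ qPow hF η = η := by
    obtain ⟨e', he'⟩ := H.exists_h_one he₀
    have hper' : ∀ a : F, (fun a : F => ν * σ a)^[orderOf σ] a = a := by
      intro a
      have hk : ∀ k, H.h (φ^[k] (a • e')) (φ^[k] e₀) = (fun a : F => ν * σ a)^[k] (H.h (a • e') e₀) := by
        intro k
        induction k with
        | zero => rfl
        | succ k ih => rw [Function.iterate_succ_apply', Function.iterate_succ_apply', hform, ih,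
            Function.iterate_succ_apply']
      have := hk r
      rw [hper, hper, H.smul_left, he', mul_one] at this
      rw [hr]; exact this.symm
    have hsp := semilinear_fixed_span σ (V := F) (fun a : F => ν * σ a) (fun u v => by simp [mul_add])
      (fun a v => by simp [mul_left_comm]) hper'
    obtain ⟨η, hη0, hη⟩ : ∃ η : F, η ≠ 0 ∧ ν * σ η = η := by
      by_contra hno
      push Not at hno
      have hbot : Submodule.span F {v : F | ν * σ v = v} = ⊥ := Submodule.span_eq_bot.mpr fun v hv => by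
        by_contra h0; exact hno v h0 hv
      rw [hbot] at hsp
      exact bot_ne_top hsp
    by_cases hsk : η + qPow hF η = 0
    · obtain ⟨a, ha0, haσ, haq⟩ := exists_skew_fixed hF (hr ▸ hodd)
      refine ⟨a * η, mul_ne_zero ha0 hη0, by rw [map_mul, haσ, mul_left_comm, hη], ?_⟩
      rw [map_mul, haq, eq_neg_of_add_eq_zero_right hsk, neg_mul_neg]
    · refine ⟨η + qPow hF η, hsk, ?_, by rw [map_add, qPow_qPow, add_comm]⟩
      rw [map_add, mul_add, hη, qPow_sigma]
      congr 1
      conv_rhs => rw [← hη, map_mul, hνq]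
  have hν0 : ν ≠ 0 := fun h0 => hη0 (by rw [← hη, h0, zero_mul])
  have hx0 : x ≠ 0 := fun h0 => hν0 (by rw [hν, h0, zero_mul])
  obtain ⟨b, hbS, hbspan, hbli⟩ := exists_linearIndependent F {v | φ v = v}
  have hspan := semilinear_fixed_span σ φ hadd hφsmul (fun v => by rw [hr, hper])
  let B := Module.Basis.mk hbli (by rw [Subtype.range_coe, hbspan, hspan])
  haveI : Fintype b := FiniteDimensional.fintypeBasisIndex B
  have hbn : Fintype.card b = Fintype.card (Fin n) := by
    rw [← Module.finrank_eq_card_basis B, Module.finrank_fintype_fun_eq_card]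
  let eb : Fin n ≃ b := Fintype.equivOfCardEq hbn.symm
  set e : Fin n → Fin n → F := fun i => (eb i).1 with hedef
  have hefix : ∀ i, φ (e i) = e i := fun i => hbS (eb i).2
  let K := fixedField σ
  have hM₀ : ∀ i j, η⁻¹ * H.h (e i) (e j) ∈ K := by
    intro i j
    rw [mem_fixedField, map_mul, map_inv₀]
    have h1 := hform (e i) (e j)
    rw [hefix, hefix] at h1
    have : σ η ≠ 0 := by simpa using hη0
    conv_rhs => rw [h1, ← hη]
    field_simp
  let M₀ : Matrix (Fin n) (Fin n) ↥K := Matrix.of fun i j => ⟨η⁻¹ * H.h (e i) (e j), hM₀ i j⟩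
  let cK : ↥K ≃+* ↥K :=
    { toFun := fun a => ⟨qPow hF a.1, by rw [mem_fixedField, qPow_sigma, (mem_fixedField σ).mp a.2]⟩
      invFun := fun a => ⟨qPow hF a.1, by rw [mem_fixedField, qPow_sigma, (mem_fixedField σ).mp a.2]⟩
      left_inv := fun a => Subtype.ext (qPow_qPow hF a.1)
      right_inv := fun a => Subtype.ext (qPow_qPow hF a.1)
      map_mul' := fun a b => Subtype.ext (map_mul _ _ _)
      map_add' := fun a b => Subtype.ext (map_add _ _ _) }
  have hcK : orderOf cK = 2 := by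
    refine orderOf_eq_prime (RingEquiv.ext fun a => Subtype.ext (qPow_qPow hF a.1)) fun h1 => ?_
    obtain ⟨a, ha0, haσ, haq⟩ := exists_skew_fixed hF (hr ▸ hodd)
    by_cases h2 : (2 : F) = 0
    · -- in characteristic two use the cardinality of the fixed field
      have hfix : ∀ a : F, σ a = a → qPow hF a = a := fun a ha =>
        congrArg Subtype.val (DFunLike.congr_fun h1 ⟨a, ha⟩)
      let Q : F ≃+* F := RingEquiv.ofBijective (qPow hF)
        ⟨(qPow hF).injective, fun a => ⟨qPow hF a, qPow_qPow hF a⟩⟩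
      have hQ : orderOf Q = 2 := by
        refine orderOf_eq_prime (RingEquiv.ext fun a => qPow_qPow hF a) fun h3 => ?_
        obtain ⟨a, ha⟩ := exists_qPow_ne hF
        exact ha (DFunLike.congr_fun h3 a)
      obtain ⟨p, hp⟩ := CharP.exists F
      haveI : Fact p.Prime := ⟨CharP.char_is_prime F p⟩
      obtain ⟨f, -, hf⟩ := FiniteField.card F p
      have hQK : orderOf Q ∣ orderOf σ := by
        have hle : fixedField σ ≤ fixedField Q := fun a ha => hfix a ha
        obtain ⟨d, hd⟩ : ∃ d, Nat.card ↥(fixedField Q) = Nat.card ↥(fixedField σ) ^ d := by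
          let ι : ↥(fixedField σ) →+* ↥(fixedField Q) := Subfield.inclusion hle
          letI := ι.toAlgebra
          exact ⟨_, Module.natCard_eq_pow_finrank (K := ↥(fixedField σ))⟩
        have h4 := card_fixedField_pow Q
        rw [hd, ← pow_mul, ← card_fixedField_pow σ] at h4
        exact ⟨d, by rw [mul_comm, ← Nat.pow_right_injective Finite.one_lt_card h4]⟩
      rw [hQ, hr] at hQK
      exact (Nat.not_even_iff_odd.mpr hodd) (even_iff_two_dvd.mpr hQK)
    · have h3 : qPow hF a = a := congrArg Subtype.val (DFunLike.congr_fun h1 ⟨a, haσ⟩)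
      rw [haq] at h3
      exact mul_ne_zero h2 ha0 (by linear_combination -h3)
  have hherm : (M₀.map cK)ᵀ = M₀ := by
    ext i j
    show qPow hF (η⁻¹ * H.h (e j) (e i)) = η⁻¹ * H.h (e i) (e j)
    rw [map_mul, map_inv₀, hηq]
    exact congrArg (η⁻¹ * ·) (H.symm' _ _)
  have hMdet : M₀.det ≠ 0 := by
    intro h0
    obtain ⟨v, hv, hvM⟩ := Matrix.exists_vecMul_eq_zero_iff.mpr h0
    have hz : ∑ i, (v i).1 • e i = 0 := by
      refine H.nondeg _ fun y => ?_
      have hy : y ∈ Submodule.span F (Set.range e) := by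
        have : Set.range e = b := by
          rw [hedef, show (fun i => (eb i).1) = Subtype.val ∘ eb from rfl, eb.surjective.range_comp]
          exact Subtype.range_coe
        rw [this, hbspan, hspan]; exact Submodule.mem_top
      induction hy using Submodule.span_induction with
      | mem y hy =>
        obtain ⟨j, rfl⟩ := hy
        have h2 := congrArg Subtype.val (congrFun hvM j)
        simp only [Matrix.vecMul, dotProduct, M₀, Matrix.of_apply, AddSubmonoidClass.coe_finsetSum,
          MulMemClass.coe_mul, Pi.zero_apply, ZeroMemClass.coe_zero] at h2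
        rw [← form_apply, map_sum]
        simp only [map_smul, form_apply, smul_eq_mul]
        calc ∑ i, (v i).1 * H.h (e i) (e j) = η * ∑ i, (v i).1 * (η⁻¹ * H.h (e i) (e j)) := by
              rw [Finset.mul_sum]
              refine Finset.sum_congr rfl fun i _ => ?_
              field_simp
          _ = 0 := by rw [h2, mul_zero]
      | zero => exact H.zero_right _
      | add y z _ _ h1 h2 => rw [H.add_right, h1, h2, add_zero]
      | smul a y _ h1 => rw [H.smul_right, h1, mul_zero]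
    have hli : LinearIndependent F e := hbli.comp eb eb.injective
    exact hv (funext fun i => Subtype.ext (Fintype.linearIndependent_iff.mp hli _ hz i))
  obtain ⟨A, hA⟩ := exists_hermitian_congr cK hcK M₀ hherm hMdet
  have hBB : (A⁻¹).1 * M₀ * ((A⁻¹).1.map cK)ᵀ = 1 := by
    rw [hA, ← Matrix.mul_assoc, Units.inv_mul, Matrix.one_mul, ← Matrix.transpose_mul]
    have : (A⁻¹).1.map cK.toRingHom * A.1.map cK.toRingHom = 1 := by
      rw [← Matrix.map_mul, Units.inv_mul, Matrix.map_one _ (map_zero _) (map_one _)]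
    rw [show (A⁻¹).1.map cK * A.1.map cK = 1 from this, Matrix.transpose_one]
  set f : Fin n → Fin n → F := fun k => ∑ i, ((A⁻¹).1 k i).1 • e i with hfdef
  have hf : ∀ k l, H.h (f k) (f l) = if k = l then η else 0 := by
    intro k l
    have h1 := congrArg Subtype.val (congrFun (congrFun hBB k) l)
    simp only [Matrix.mul_apply, Matrix.transpose_apply, Matrix.map_apply, AddSubmonoidClass.coe_finsetSum,
      MulMemClass.coe_mul, M₀, Matrix.of_apply] at h1
    simp only [hfdef, hH, h_sum]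
    rw [Finset.sum_comm]
    have h2 : η * ((1 : Matrix (Fin n) (Fin n) ↥K) k l).1 = if k = l then η else 0 := by
      by_cases hkl : k = l
      · subst hkl; simp
      · simp [hkl]
    rw [← h2, ← h1, Finset.mul_sum]
    refine Finset.sum_congr rfl fun j _ => ?_
    rw [Finset.sum_mul, Finset.mul_sum]
    refine Finset.sum_congr rfl fun i _ => ?_
    show _ = η * (((A⁻¹).1 k i).1 * (η⁻¹ * H.h (e i) (e j)) * qPow hF ((A⁻¹).1 l j).1)
    rw [hH]
    field_simp
  have hffix : ∀ k, φ (f k) = f k := by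
    intro k
    let φ' : (Fin n → F) →+ (Fin n → F) := AddMonoidHom.mk' φ hadd
    show φ' (f k) = f k
    rw [hfdef, map_sum]
    refine Finset.sum_congr rfl fun i _ => ?_
    show φ (((A⁻¹).1 k i).1 • e i) = _
    rw [hφsmul, hefix, (mem_fixedField σ).mp ((A⁻¹).1 k i).2]
  obtain ⟨t, ht⟩ := H.norm_surj η hηq
  have ht0 : t ≠ 0 := fun h0 => hη0 (by rw [← ht, h0, zero_mul])
  obtain ⟨h, hh⟩ := exists_gu_of_cols hF (A := Matrix.of fun i k => t⁻¹ * f k i) (fun k l => by
    show H.h (t⁻¹ • f k) (t⁻¹ • f l) = _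
    rw [H.smul_left, H.smul_right, hf, map_inv₀]
    by_cases hkl : k = l
    · rw [if_pos hkl, if_pos hkl, ← ht]
      have := H.conj_ne_zero ht0
      field_simp
    · rw [if_neg hkl, if_neg hkl, mul_zero, mul_zero])
  refine ⟨h, ?_⟩
  have key : (simAut (g * guMap σ h) : MulAut (Cfsg.PSU n F q)) = simAut h := by
    refine (simAut_eq_iff hF hn hs).mpr ⟨t / (x * σ t), ?_⟩
    ext i k
    have h1 := congrFun (hffix k) i
    simp only [φ, Pi.smul_apply, smul_eq_mul, hsdef, stdSemi_M] at h1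
    have h2 : (uMat (g * guMap σ h)) i k = (σ t)⁻¹ * (uMat g *ᵥ fun j => σ (f k j)) i := by
      rw [uMat_mul, guMap_coe, hh, Matrix.mul_apply, Matrix.mulVec, dotProduct, Finset.mul_sum]
      refine Finset.sum_congr rfl fun j _ => ?_
      show _ * σ (t⁻¹ * f k j) = _
      rw [map_mul, map_inv₀]
      ring
    rw [h2, Matrix.smul_apply, hh, Matrix.of_apply, smul_eq_mul, ← h1]
    have : σ t ≠ 0 := by simpa using ht0
    field_simp
  rw [map_mul] at key
  rw [eq_mul_inv_of_mul_eq key, ← map_inv simAut h, ← map_inv simAut (guMap σ h), ← map_inv (guMap σ), mul_assoc,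
    mul_assoc, ← fieldAut_simAut]

theorem orderOf_fieldAut (hF : Fintype.card F = q ^ 2) (hn : 3 ≤ n) (hs : ¬ (n = 3 ∧ q = 2)) (σ : F ≃+* F) :
    orderOf (fieldAut σ : MulAut (Cfsg.PSU n F q)) = orderOf σ :=
  orderOf_injective _ (fieldAut_injective hF hn hs) σ

/-- A field automorphism is an inner-diagonal conjugate of a standard one. -/
theorem normal_form (hF : Fintype.card F = q ^ 2) (hn : 3 ≤ n) (hs : ¬ (n = 3 ∧ q = 2))
    {x : MulAut (Cfsg.PSU n F q)} (hx : Cfsg.IsFieldAutClassPSU x) {r : ℕ} (hxr : orderOf x = r) :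
    ∃ (g : GUg n F q) (σ : F ≃+* F), orderOf σ = r ∧ Odd r ∧ x = simAut g * fieldAut σ * (simAut g)⁻¹ := by
  obtain ⟨α, φ, σ, -, hodd, hφ, hα⟩ := hx
  rw [isFieldAutPSUOf_iff] at hφ
  subst hφ
  obtain ⟨g, τ, hd⟩ := aut_decomposition hF hn hs α⁻¹
  have hg : x = simAut g * fieldAut σ * (simAut g)⁻¹ := by
    have hxe : x = α⁻¹ * fieldAut σ * (α⁻¹)⁻¹ := by rw [← hα]; group
    rw [hxe, hd, _root_.mul_inv_rev, show (simAut g * fieldAut τ * fieldAut σ * ((fieldAut τ)⁻¹ * (simAut g)⁻¹) :
      MulAut (Cfsg.PSU n F q)) = simAut g * (fieldAut τ * fieldAut σ) * (fieldAut τ)⁻¹ * (simAut g)⁻¹ by group,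
      ← map_mul, ringAut_comm τ σ, map_mul]
    group
  have hr : orderOf σ = r := by
    rw [← hxr, hg, CfsgLib.AutPSL.orderOf_conj_eq, orderOf_fieldAut hF hn hs]
  exact ⟨g, σ, hr, hr ▸ hodd, hg⟩

theorem orderOf_coset_iff (hF : Fintype.card F = q ^ 2) (hn : 3 ≤ n) (hs : ¬ (n = 3 ∧ q = 2))
    {x δ : MulAut (Cfsg.PSU n F q)} (hx : Cfsg.IsFieldAutClassPSU x) {r : ℕ}
    (hxr : orderOf x = r) (hδ : δ ∈ Cfsg.inndiagPSU n F q) :
    orderOf (δ * x) = r ↔ Cfsg.IsConjUnder (Cfsg.inndiagPSU n F q) x (δ * x) := by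
  refine ⟨fun hy => ?_, fun h => ?_⟩
  swap
  · obtain ⟨a, -, ha⟩ := h
    rw [ha, CfsgLib.AutPSL.orderOf_conj_eq, hxr]
  rw [inndiagPSU_eq] at hδ ⊢
  obtain ⟨d, rfl⟩ := hδ
  obtain ⟨h₀, σ, hσ, hodd, hx0⟩ := normal_form hF hn hs hx hxr
  obtain ⟨h₁, hh₁⟩ := field_coset_conj hF hn hs hσ hodd (g := h₀⁻¹ * d * h₀) (by
    rw [map_mul, map_mul, map_inv]
    have hyr : (simAut d * x) ^ r = 1 := by rw [← hy]; exact pow_orderOf_eq_one _
    have he : ((simAut h₀)⁻¹ * simAut d * simAut h₀ * fieldAut σ : MulAut (Cfsg.PSU n F q)) =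
        (simAut h₀)⁻¹ * (simAut d * x) * (simAut h₀)⁻¹⁻¹ := by rw [hx0]; group
    rw [he, conj_pow, hyr]; group)
  refine ⟨simAut h₀ * simAut h₁ * (simAut h₀)⁻¹, ⟨h₀ * h₁ * h₀⁻¹, by rw [map_mul, map_mul, map_inv]⟩, ?_⟩
  rw [map_mul, map_mul, map_inv] at hh₁
  calc simAut d * x = simAut h₀ * ((simAut h₀)⁻¹ * simAut d * simAut h₀ * fieldAut σ) * (simAut h₀)⁻¹ := by
        rw [hx0]; group
    _ = _ := by rw [hh₁, hx0]; group

end CfsgLib.AutPSU
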