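import Mathlib
import Cfsg.Agent.Lib.AutPSU.Classes
import Cfsg.Agent.Lib.AutPSL.Split
import Cfsg.Agent.Lib.AutPSp.Count

/-!
The general unitary group of a subfield of odd index: centralisers and class splitting of field automorphisms.
-/

set_option autoImplicit false
set_option maxHeartbeats 400000

namespace CfsgLib.AutPSU

open Matrix Cfsg
open CfsgLib.Classical.Herm CfsgLib.Classical.Herm.HermSpace
open CfsgLib.AutPSL (splitClassCount_congr isConjUnder_symm splitClassCount_eq_relIndex centralizer_equiv_of_conj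
  index_sup_cyclic fixedField mem_fixedField exists_equiv_fixedField fixedField_card card_fixedField_pow)

variable {n : ℕ} {F : Type*} [Field F] [Fintype F] {q : ℕ}

/-- The units of norm one. -/
abbrev NormOne (F : Type*) [Field F] (q : ℕ) : Subgroup Fˣ := (powMonoidHom (q + 1) : Fˣ →* Fˣ).ker

omit [Fintype F] in
theorem normOne_spec (u : ↥(NormOne F q)) : (u.1 : F) * (u.1 : F) ^ q = 1 := by
  rw [← pow_succ', ← Units.val_pow_eq_pow_val]
  exact congrArg Units.val (MonoidHom.mem_ker.mp u.2)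

omit [Fintype F] in
theorem scalar_preserves {a : F} (ha : a * a ^ q = 1) (u v : Fin n → F) :
    Cfsg.hermForm n F q (a • u) (a • v) = Cfsg.hermForm n F q u v := by
  simp only [Cfsg.hermForm, Pi.smul_apply, smul_eq_mul, mul_pow]
  refine Finset.sum_congr rfl fun i _ => ?_
  linear_combination (u i * v i ^ q) * ha

/-- Scalars of norm one in `GU`. -/
noncomputable def scalarGU : ↥(NormOne F q) →* GUg n F q :=
  ((Matrix.GeneralLinearGroup.scalar (Fin n)).comp (NormOne F q).subtype).codRestrict _ fun u x y => by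
    rw [Units.coeHom_apply]
    show Cfsg.hermForm n F q (Matrix.scalar (Fin n) (u.1 : F) *ᵥ x) (Matrix.scalar (Fin n) (u.1 : F) *ᵥ y) = _
    rw [Matrix.scalar_apply, ← Matrix.smul_one_eq_diagonal, Matrix.smul_mulVec, Matrix.smul_mulVec,
      Matrix.one_mulVec, Matrix.one_mulVec]
    exact scalar_preserves (normOne_spec u) x y

omit [Fintype F] in
theorem scalarGU_coe (u : ↥(NormOne F q)) : uMat (scalarGU (n := n) u) = (u.1 : F) • 1 := by
  show Matrix.scalar (Fin n) (u.1 : F) = _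
  rw [Matrix.scalar_apply, ← Matrix.smul_one_eq_diagonal]

omit [Fintype F] in
theorem scalarGU_comm (u : ↥(NormOne F q)) (g : GUg n F q) : scalarGU u * g = g * scalarGU u :=
  gu_ext (by rw [uMat_mul, uMat_mul, scalarGU_coe, Matrix.smul_mul, Matrix.mul_smul, Matrix.one_mul, Matrix.mul_one])

theorem cols_of_preserves (hF : Fintype.card F = q ^ 2) (g : GUg n F q) (i j : Fin n) :
    (stdHerm hF n).h (fun k => uMat g k i) (fun k => uMat g k j) = if i = j then 1 else 0 := by
  classical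
  have hcol : ∀ i, uMat g *ᵥ Pi.single i 1 = fun k => uMat g k i := fun i => funext fun k => by
    simp [Matrix.mulVec_single]
  rw [← hcol, ← hcol, stdHerm_h]
  refine (g.2 _ _).trans ?_
  have hq : q ≠ 0 := by have := two_le_of_card hF; omega
  rw [Cfsg.hermForm, Finset.sum_eq_single i (fun k _ hk => by simp [hk]) (by simp)]
  by_cases hij : i = j
  · subst hij; simp
  · simp [hij, zero_pow hq]

theorem det_mem_normOne (hF : Fintype.card F = q ^ 2) (g : GUg n F q) :
    Matrix.GeneralLinearGroup.det g.1 ∈ NormOne F q := by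
  rw [← detHom_guEquiv hF]
  exact detHom_normOne hF n _

/-- The determinant on `GU`. -/
noncomputable def detN (hF : Fintype.card F = q ^ 2) : GUg n F q →* ↥(NormOne F q) :=
  ((Matrix.GeneralLinearGroup.det).comp (Cfsg.GU n F q).subtype).codRestrict _ (det_mem_normOne hF)

theorem detN_coe (hF : Fintype.card F = q ^ 2) (g : GUg n F q) : ((detN hF g).1 : F) = (uMat g).det := rfl

theorem detN_suGU (hF : Fintype.card F = q ^ 2) (s : SUg n F q) : detN hF (suGU s) = 1 :=
  Subtype.ext (Units.ext (by rw [detN_coe, suGU_coe, show (sMat s).det = 1 from s.1.2]; rfl))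

theorem exists_suGU (hF : Fintype.card F = q ^ 2) {g : GUg n F q} (h : detN hF g = 1) :
    ∃ s, suGU s = g := by
  have h1 : (uMat g).det = 1 := by rw [← detN_coe hF, h]; rfl
  exact ⟨⟨⟨uMat g, h1⟩, g.2⟩, gu_ext rfl⟩

theorem detN_surjective (hF : Fintype.card F = q ^ 2) (hn : 1 ≤ n) : Function.Surjective (detN (n := n) hF) := by
  rintro ⟨u, hu⟩
  obtain ⟨g, hg⟩ : u ∈ (detHom (stdHerm hF n)).range := by rw [range_detHom hF hn]; exact hu
  refine ⟨(guEquiv hF n).symm g, Subtype.ext ?_⟩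
  show Matrix.GeneralLinearGroup.det ((guEquiv hF n).symm g).1 = u
  rw [← detHom_guEquiv hF, MulEquiv.apply_symm_apply, hg]

theorem detN_scalarGU (hF : Fintype.card F = q ^ 2) (u : ↥(NormOne F q)) :
    detN hF (scalarGU (n := n) u) = u ^ n :=
  Subtype.ext (Units.ext (by
    rw [detN_coe, scalarGU_coe, Matrix.det_smul, Matrix.det_one, mul_one, Fintype.card_fin,
      SubmonoidClass.coe_pow, Units.val_pow_eq_pow_val]))

section Base

variable {F₀ : Type*} [Field F₀] [Fintype F₀] {q₀ : ℕ} (hF : Fintype.card F = q ^ 2) (hF₀ : Fintype.card F₀ = q₀ ^ 2)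
  (ι : F₀ →+* F) (hq : ∀ a, ι a ^ q = ι (a ^ q₀))

omit [Fintype F] in
include hq in
theorem hermForm_base (u v : Fin n → F₀) :
    Cfsg.hermForm n F q (fun k => ι (u k)) (fun k => ι (v k)) = ι (Cfsg.hermForm n F₀ q₀ u v) := by
  simp only [Cfsg.hermForm, map_sum, map_mul, hq]

include hF hF₀ hq in
theorem base_preserves (B : GUg n F₀ q₀) (x y : Fin n → F) :
    Cfsg.hermForm n F q ((uMat B).map ι *ᵥ x) ((uMat B).map ι *ᵥ y) = Cfsg.hermForm n F q x y := by
  refine preserves_of_cols hF (fun i j => ?_) x y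
  rw [stdHerm_h]
  show Cfsg.hermForm n F q (fun k => ι (uMat B k i)) (fun k => ι (uMat B k j)) = _
  rw [hermForm_base ι hq, ← stdHerm_h hF₀, cols_of_preserves hF₀, apply_ite ι, map_one, map_zero]

/-- `GU` of the subfield inside `GU`. -/
noncomputable def baseGU : GUg n F₀ q₀ →* GUg n F q :=
  ((Matrix.GeneralLinearGroup.map ι).comp (Cfsg.GU n F₀ q₀).subtype).codRestrict _
    fun B x y => base_preserves hF hF₀ ι hq B x y

theorem baseGU_coe (B : GUg n F₀ q₀) : uMat (baseGU hF hF₀ ι hq B) = (uMat B).map ι := rfl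

theorem baseGU_injective : Function.Injective (baseGU (n := n) hF hF₀ ι hq) := fun B C h =>
  gu_ext (Matrix.ext fun i j => ι.injective (congrFun (congrFun (congrArg uMat h) i) j))

/-- Norm-one units of the subfield. -/
noncomputable def baseNorm : ↥(NormOne F₀ q₀) →* ↥(NormOne F q) :=
  ((Units.map ι.toMonoidHom).comp (NormOne F₀ q₀).subtype).codRestrict _ fun u => by
    rw [MonoidHom.mem_ker, powMonoidHom_apply]
    refine Units.ext ?_
    rw [Units.val_pow_eq_pow_val, Units.val_one]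
    show ι (u.1 : F₀) ^ (q + 1) = 1
    rw [pow_succ', hq, ← map_mul, normOne_spec, map_one]

theorem baseNorm_coe (u : ↥(NormOne F₀ q₀)) : ((baseNorm ι hq u).1 : F) = ι (u.1 : F₀) := rfl

theorem baseNorm_injective : Function.Injective (baseNorm ι hq) := fun u v h =>
  Subtype.ext (Units.ext (ι.injective (by rw [← baseNorm_coe ι hq, h, baseNorm_coe])))

theorem detN_baseGU (B : GUg n F₀ q₀) : detN hF (baseGU hF hF₀ ι hq B) = baseNorm ι hq (detN hF₀ B) :=
  Subtype.ext (Units.ext (by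
    rw [detN_coe, baseGU_coe, baseNorm_coe, detN_coe, RingHom.map_det]
    rfl))

theorem baseGU_scalar (u : ↥(NormOne F₀ q₀)) :
    baseGU hF hF₀ ι hq (scalarGU u) = scalarGU (n := n) (baseNorm ι hq u) := by
  refine gu_ext ?_
  rw [baseGU_coe, scalarGU_coe, scalarGU_coe, baseNorm_coe]
  ext i j
  by_cases hij : i = j
  · subst hij; simp
  · simp [hij]

variable (σ : F ≃+* F) (hι : ∀ a, σ (ι a) = ι a) (hι' : ∀ x, σ x = x → ∃ a, ι a = x)

omit [Fintype F] [Fintype F₀] in
include hι in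
theorem baseGU_fixed (u : ↥(NormOne F q)) (B : Matrix (Fin n) (Fin n) F₀) :
    ∃ c : F, c ≠ 0 ∧ ((u.1 : F) • B.map ι).map σ = c • ((u.1 : F) • B.map ι) := by
  refine ⟨σ u.1 / u.1, div_ne_zero (by simp) u.1.ne_zero, ?_⟩
  ext i j
  simp only [Matrix.map_apply, Matrix.smul_apply, smul_eq_mul, map_mul, hι]
  field_simp

include hι' in
/-- A unitary matrix fixed by `σ` up to a scalar is a scalar times a matrix of the subfield. -/
theorem fixed_decomp (hn : 1 ≤ n) {g : GUg n F q} {c : F} (hg : (uMat g).map σ = c • uMat g) :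
    ∃ (u : ↥(NormOne F q)) (B : GUg n F₀ q₀), g = scalarGU u * baseGU hF hF₀ ι hq B := by
  classical
  obtain ⟨i₀, j₀, h0⟩ : ∃ i j, uMat g i j ≠ 0 := by
    by_contra hcon
    simp only [not_exists, not_not] at hcon
    have := congrFun (congrFun (uMat_inv_mul g) ⟨0, hn⟩) ⟨0, hn⟩
    simp [Matrix.mul_apply, hcon] at this
  set e := uMat g i₀ j₀ with he
  have hent : ∀ i j, σ (uMat g i j) = c * uMat g i j := fun i j => by
    have := congrFun (congrFun hg i) j
    simpa using this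
  have hfix : ∀ i j, σ (e⁻¹ * uMat g i j) = e⁻¹ * uMat g i j := fun i j => by
    have hc0 : c ≠ 0 := fun hz => h0 (σ.injective (by rw [hent, hz, zero_mul, map_zero]))
    rw [map_mul, map_inv₀, hent, hent, ← he]
    field_simp
  choose a ha using fun i j => hι' _ (hfix i j)
  have hga : ∀ i j, uMat g i j = e * ι (a i j) := fun i j => by rw [ha, mul_inv_cancel_left₀ h0]
  have hgram : ∀ i j, (e * e ^ q) * ι (Cfsg.hermForm n F₀ q₀ (fun k => a k i) (fun k => a k j)) =
      if i = j then 1 else 0 := by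
    intro i j
    rw [← cols_of_preserves hF g i j, ← hermForm_base ι hq, stdHerm_h]
    simp only [Cfsg.hermForm, hga, mul_pow, Finset.mul_sum]
    exact Finset.sum_congr rfl fun k _ => by ring
  set d := Cfsg.hermForm n F₀ q₀ (fun k => a k ⟨0, hn⟩) (fun k => a k ⟨0, hn⟩) with hd
  have hd1 : (e * e ^ q) * ι d = 1 := by rw [hd, hgram, if_pos rfl]
  have hd0 : d ≠ 0 := fun hz => by rw [hz, map_zero, mul_zero] at hd1; exact zero_ne_one hd1
  have hdq : qPow hF₀ d = d := (stdHerm hF₀ n).symm' _ _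
  obtain ⟨t, ht⟩ := (stdHerm hF₀ n).norm_surj d hdq
  replace ht : t * t ^ q₀ = d := ht
  have ht0 : t ≠ 0 := fun hz => hd0 (by rw [← ht, hz, zero_mul])
  obtain ⟨B, hB⟩ := exists_gu_of_cols hF₀ (A := Matrix.of fun i j => t⁻¹ * a i j) (fun i j => by
    refine ι.injective ?_
    simp only [Matrix.of_apply]
    rw [apply_ite ι, map_one, map_zero, ← hgram i j, stdHerm_h,
      show Cfsg.hermForm n F₀ q₀ (fun k => t⁻¹ * a k i) (fun k => t⁻¹ * a k j) =
          (t * t ^ q₀)⁻¹ * Cfsg.hermForm n F₀ q₀ (fun k => a k i) (fun k => a k j) by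
        simp only [Cfsg.hermForm, Finset.mul_sum, mul_pow]
        exact Finset.sum_congr rfl fun k _ => by rw [mul_inv, ← inv_pow]; ring, ht, map_mul, map_inv₀]
    congr 1
    exact (eq_inv_of_mul_eq_one_left hd1).symm)
  have hN : (e * ι t) * (e * ι t) ^ q = 1 := by
    rw [mul_pow, hq, ← hd1, ← ht, map_mul]
    ring
  refine ⟨⟨Units.mk0 (e * ι t) (left_ne_zero_of_mul_eq_one hN), Units.ext ?_⟩, B, gu_ext ?_⟩
  · rw [powMonoidHom_apply, Units.val_pow_eq_pow_val, Units.val_mk0, Units.val_one, pow_succ']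
    exact hN
  · rw [uMat_mul, scalarGU_coe, baseGU_coe, hB, Matrix.smul_mul, Matrix.one_mul]
    ext i j
    rw [Matrix.smul_apply, Matrix.map_apply, Matrix.of_apply, smul_eq_mul, hga, map_mul, map_inv₀, Units.val_mk0]
    have : ι t ≠ 0 := by simpa using ht0
    field_simp

/-- The product of scalars and the subfield group. -/
noncomputable def fixedHom : ↥(NormOne F q) × GUg n F₀ q₀ →* GUg n F q where
  toFun x := scalarGU x.1 * baseGU hF hF₀ ι hq x.2
  map_one' := by simp
  map_mul' x y := by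
    simp only [Prod.fst_mul, Prod.snd_mul, map_mul]
    rw [mul_assoc, mul_assoc, ← mul_assoc (scalarGU y.1), scalarGU_comm y.1, mul_assoc]

theorem fixedHom_apply (u : ↥(NormOne F q)) (B : GUg n F₀ q₀) :
    fixedHom hF hF₀ ι hq (u, B) = scalarGU u * baseGU hF hF₀ ι hq B := rfl

include hι hι' in
theorem fixed_set_eq (hn : 1 ≤ n) :
    {g : GUg n F q | ∃ c : F, c ≠ 0 ∧ (uMat g).map σ = c • uMat g} = ((fixedHom (n := n) hF hF₀ ι hq).range : Set _) := by
  ext g
  constructor
  · rintro ⟨c, -, hg⟩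
    obtain ⟨u, B, rfl⟩ := fixed_decomp hF hF₀ ι hq σ hι' hn hg
    exact ⟨(u, B), rfl⟩
  · rintro ⟨⟨u, B⟩, rfl⟩
    show ∃ c : F, c ≠ 0 ∧ (uMat (scalarGU u * baseGU hF hF₀ ι hq B)).map σ = _
    obtain ⟨c, hc0, hc⟩ := baseGU_fixed ι σ hι u (uMat B)
    refine ⟨c, hc0, ?_⟩
    rw [show uMat (fixedHom hF hF₀ ι hq (u, B)) = uMat (scalarGU u * baseGU hF hF₀ ι hq B) from rfl, uMat_mul,
      scalarGU_coe, baseGU_coe, Matrix.smul_mul, Matrix.one_mul]
    exact hc

theorem card_fixedHom_range (hn : 1 ≤ n) :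
    Nat.card ↥(fixedHom (n := n) hF hF₀ ι hq).range * (q₀ + 1) = (q + 1) * Nat.card (GUg n F₀ q₀) := by
  have hker : Nat.card ↥(fixedHom (n := n) hF hF₀ ι hq).ker = q₀ + 1 := by
    rw [← card_normOne_units hF₀]
    symm
    refine Nat.card_congr (Equiv.ofBijective (fun v => ⟨(baseNorm ι hq v⁻¹, scalarGU v), ?_⟩) ⟨?_, ?_⟩)
    · show scalarGU (baseNorm ι hq v⁻¹) * baseGU hF hF₀ ι hq (scalarGU v) = 1
      rw [baseGU_scalar, ← map_mul, ← map_mul, inv_mul_cancel, map_one, map_one]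
    · intro v w h
      exact inv_injective (baseNorm_injective ι hq
        (congrArg (fun k : (fixedHom (n := n) hF hF₀ ι hq).ker => k.1.1) h))
    · rintro ⟨⟨u, B⟩, h⟩
      replace h : scalarGU u * baseGU hF hF₀ ι hq B = 1 := h
      have hB : (uMat B).map ι = (u.1 : F)⁻¹ • 1 := by
        have h1 := congrArg uMat h
        rw [uMat_mul, uMat_one, scalarGU_coe, baseGU_coe, Matrix.smul_mul, Matrix.one_mul] at h1
        rw [← h1, inv_smul_smul₀ u.1.ne_zero]
      set b := uMat B ⟨0, hn⟩ ⟨0, hn⟩ with hb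
      have hbu : ι b = (u.1 : F)⁻¹ := by
        have := congrFun (congrFun hB ⟨0, hn⟩) ⟨0, hn⟩
        simpa using this
      have hBb : uMat B = b • 1 := by
        ext i j
        refine ι.injective ?_
        have := congrFun (congrFun hB i) j
        rw [Matrix.map_apply] at this
        rw [this]
        by_cases hij : i = j
        · subst hij; simp [hbu]
        · simp [hij]
      have hN : b * b ^ q₀ = 1 := ι.injective (by
        rw [map_mul, ← hq, hbu, map_one, inv_pow, ← mul_inv, normOne_spec, inv_one])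
      refine ⟨⟨Units.mk0 b (left_ne_zero_of_mul_eq_one hN), Units.ext ?_⟩, Subtype.ext (Prod.ext ?_ (gu_ext ?_))⟩
      · rw [powMonoidHom_apply, Units.val_pow_eq_pow_val, Units.val_mk0, Units.val_one, pow_succ']
        exact hN
      · refine Subtype.ext (Units.ext ?_)
        simp [baseNorm_coe, hbu]
      · rw [hBb, scalarGU_coe]; rfl
  have h1 := Subgroup.card_eq_card_quotient_mul_card_subgroup (fixedHom (n := n) hF hF₀ ι hq).ker
  rw [Nat.card_congr (QuotientGroup.quotientKerEquivRange (fixedHom (n := n) hF hF₀ ι hq)).toEquiv, hker,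
    Nat.card_prod, show Nat.card ↥(NormOne F q) = q + 1 from card_normOne_units hF] at h1
  exact h1.symm

variable (hn : 3 ≤ n) (hs : ¬ (n = 3 ∧ q = 2))

/-- The preimage in `GU` of the centraliser. -/
def guCentralizer : Subgroup (GUg n F q) :=
  (Subgroup.centralizer {(fieldAut σ : MulAut (Cfsg.PSU n F q))}).comap simAut

omit [Fintype F] in
theorem inndiag_inf_centralizer :
    Cfsg.inndiagPSU n F q ⊓ Subgroup.centralizer {(fieldAut σ : MulAut (Cfsg.PSU n F q))} =
      (guCentralizer (n := n) (q := q) σ).map simAut := by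
  rw [inndiagPSU_eq, guCentralizer, Subgroup.map_comap_eq]

include hn hs hι hι' in
theorem guCentralizer_eq : guCentralizer (n := n) (q := q) σ = (fixedHom (n := n) hF hF₀ ι hq).range := by
  refine SetLike.coe_injective ?_
  rw [← fixed_set_eq hF hF₀ ι hq σ hι hι' (by omega)]
  ext g
  show simAut g ∈ Subgroup.centralizer {(fieldAut σ : MulAut (Cfsg.PSU n F q))} ↔ _
  rw [Subgroup.mem_centralizer_singleton_iff, fieldAut_simAut, mul_left_inj, eq_comm,
    simAut_eq_iff hF hn hs, guMap_coe]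
  constructor
  · rintro ⟨a, ha⟩
    refine ⟨a, fun hz => ?_, ha⟩
    rw [hz, zero_smul] at ha
    have h1 := uMat_inv_mul g
    have : uMat g = 0 := Matrix.ext fun i j => σ.injective (by
      have := congrFun (congrFun ha i) j
      simpa using this)
    rw [this, Matrix.mul_zero] at h1
    have := congrFun (congrFun h1 ⟨0, by omega⟩) ⟨0, by omega⟩
    simp at this
  · rintro ⟨a, -, ha⟩
    exact ⟨a, ha⟩

include hF hn hs in
theorem simAut_scalarGU (u : ↥(NormOne F q)) : (simAut (scalarGU (n := n) u) : MulAut (Cfsg.PSU n F q)) = 1 :=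
  (simAut_eq_one_iff hF hn hs).mpr ⟨_, scalarGU_coe u⟩

include hF hF₀ hq hι hι' hn hs in
theorem centralizer_equiv :
    Nonempty (↥(Cfsg.inndiagPSU n F q ⊓ Subgroup.centralizer {(fieldAut σ : MulAut (Cfsg.PSU n F q))}) ≃*
      Cfsg.PGU n F₀ q₀) := by
  let ψ : GUg n F₀ q₀ →* MulAut (Cfsg.PSU n F q) := simAut.comp (baseGU hF hF₀ ι hq)
  have hrange : ψ.range = Cfsg.inndiagPSU n F q ⊓ Subgroup.centralizer {fieldAut σ} := by
    rw [inndiag_inf_centralizer, guCentralizer_eq hF hF₀ ι hq σ hι hι' hn hs]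
    apply le_antisymm
    · rintro _ ⟨B, rfl⟩
      exact ⟨fixedHom hF hF₀ ι hq (1, B), ⟨(1, B), rfl⟩, by rw [fixedHom_apply, map_one, one_mul, MonoidHom.comp_apply]⟩
    · rintro _ ⟨_, ⟨⟨u, B⟩, rfl⟩, rfl⟩
      refine ⟨B, ?_⟩
      rw [MonoidHom.comp_apply, fixedHom_apply, map_mul, simAut_scalarGU hF hn hs, one_mul]
  have hker : ψ.ker = (Cfsg.Geo.scalars (Fin n) F₀).subgroupOf (Cfsg.GU n F₀ q₀) := by
    ext B
    rw [MonoidHom.mem_ker, Subgroup.mem_subgroupOf, Cfsg.Geo.mem_scalars_iff]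
    rw [MonoidHom.comp_apply]
    rw [simAut_eq_one_iff hF hn hs, baseGU_coe]
    let i₀ : Fin n := ⟨0, by omega⟩
    constructor
    · rintro ⟨a, ha⟩
      have h3 : ι (uMat B i₀ i₀) = a := by
        have := congrFun (congrFun ha i₀) i₀
        simpa using this
      have h4 : uMat B i₀ i₀ ≠ 0 := fun hz => by
        rw [hz, map_zero] at h3
        rw [← h3, zero_smul] at ha
        have h1 := uMat_inv_mul (baseGU hF hF₀ ι hq B)
        rw [baseGU_coe, ha, Matrix.mul_zero] at h1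
        have := congrFun (congrFun h1 i₀) i₀
        simp at this
      refine ⟨Units.mk0 _ h4, Matrix.ext fun i j => ι.injective ?_⟩
      have h5 := congrFun (congrFun ha i) j
      rw [Matrix.map_apply] at h5
      refine h5.trans ?_
      by_cases hij : i = j
      · subst hij; simp [h3]
      · simp [hij]
    · rintro ⟨u, hu⟩
      refine ⟨ι (u : F₀), ?_⟩
      rw [show uMat B = _ from hu]
      ext i j
      by_cases hij : i = j
      · subst hij; simp
      · simp [hij]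
  exact ⟨((QuotientGroup.quotientMulEquivOfEq hker.symm).trans
    ((QuotientGroup.quotientKerEquivRange ψ).trans (MulEquiv.subgroupCongr hrange))).symm⟩

include hn hs in
/-- The index of `Inn` together with the image of a subgroup of `GU`, read off the determinants. -/
theorem relIndex_sup_inn (K : Subgroup (GUg n F q)) :
    ((K.map simAut) ⊔ Cfsg.Inn (Cfsg.PSU n F q)).relIndex (simAut (n := n) (F := F) (q := q)).range =
      ((K.map (detN hF)) ⊔ (powMonoidHom n : ↥(NormOne F q) →* ↥(NormOne F q)).range).index := by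
  set L : Subgroup ↥(NormOne F q) :=
    (K.map (detN hF)) ⊔ (powMonoidHom n : ↥(NormOne F q) →* ↥(NormOne F q)).range with hL
  have hmap : ((K.map simAut) ⊔ Cfsg.Inn (Cfsg.PSU n F q)) = (L.comap (detN hF)).map simAut := by
    apply le_antisymm
    · refine sup_le (Subgroup.map_mono fun k hk => ?_) ?_
      · exact Subgroup.mem_sup_left ⟨k, hk, rfl⟩
      · rintro _ ⟨x, rfl⟩
        obtain ⟨A, rfl⟩ := QuotientGroup.mk_surjective x
        refine ⟨suGU A, ?_, simAut_suGU A⟩
        show detN hF (suGU A) ∈ L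
        rw [detN_suGU]; exact one_mem _
    · rintro _ ⟨g, hg, rfl⟩
      obtain ⟨_, ⟨k, hk, rfl⟩, _, ⟨u, rfl⟩, hku⟩ := Subgroup.mem_sup.mp (show detN hF g ∈ _ from hg)
      obtain ⟨A, hA⟩ := exists_suGU hF (g := (scalarGU u)⁻¹ * (k⁻¹ * g)) (by
        rw [map_mul, map_mul, map_inv, map_inv, detN_scalarGU, ← hku, powMonoidHom_apply,
          inv_mul_cancel_left, inv_mul_cancel])
      have : g = k * (scalarGU u * suGU A) := by rw [hA]; group
      rw [this, map_mul, map_mul, simAut_scalarGU hF hn hs, one_mul, simAut_suGU]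
      exact mul_mem (Subgroup.mem_sup_left ⟨k, hk, rfl⟩) (Subgroup.mem_sup_right ⟨_, rfl⟩)
  have hker : (simAut (n := n) (F := F) (q := q)).ker ≤ L.comap (detN hF) := by
    intro g hg
    obtain ⟨-, a, ha, hga⟩ := semilinear_eq_one hF hn hs (g := g) (σ := 1)
      (by rw [map_one, mul_one, MonoidHom.mem_ker.mp hg])
    let u : ↥(NormOne F q) := ⟨Units.mk0 a (left_ne_zero_of_mul_eq_one ha), Units.ext (by
      rw [powMonoidHom_apply, Units.val_pow_eq_pow_val, Units.val_mk0, Units.val_one, pow_succ']; exact ha)⟩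
    rw [Subgroup.mem_comap, show g = scalarGU u from gu_ext (by rw [hga, scalarGU_coe]; rfl), detN_scalarGU]
    exact Subgroup.mem_sup_right ⟨u, rfl⟩
  rw [hmap, MonoidHom.range_eq_map, Subgroup.relIndex_map_map, sup_of_le_left hker, top_sup_eq,
    Subgroup.relIndex_top_right, Subgroup.index_comap_of_surjective _ (detN_surjective hF (by omega))]

include hF hF₀ hq hι hι' hn hs in
theorem split_count :
    Cfsg.splitClassCount (Cfsg.inndiagPSU n F q) (Cfsg.Inn (Cfsg.PSU n F q)) (fieldAut σ) =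
      Nat.gcd ((q + 1) / (q₀ + 1)) (Nat.gcd n (q + 1)) := by
  rw [splitClassCount_eq_relIndex _ _ (by rw [inndiagPSU_eq]; exact inn_le)
      (fun h _ k hk => CfsgLib.AutPSp.inn_conj h hk),
    inndiag_inf_centralizer, inndiagPSU_eq, relIndex_sup_inn hF hn hs, guCentralizer_eq hF hF₀ ι hq σ hι hι' hn hs]
  have hcU : Nat.card ↥(NormOne F q) = q + 1 := card_normOne_units hF
  have hidx : (baseNorm ι hq).range.index = (q + 1) / (q₀ + 1) := by
    have h1 := Subgroup.card_mul_index (baseNorm ι hq).range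
    rw [← Nat.card_congr (MonoidHom.ofInjective (baseNorm_injective ι hq)).toEquiv, hcU,
      show Nat.card ↥(NormOne F₀ q₀) = q₀ + 1 from card_normOne_units hF₀] at h1
    rw [← h1, Nat.mul_div_cancel_left _ (Nat.succ_pos q₀)]
  have hmap : (fixedHom (n := n) hF hF₀ ι hq).range.map (detN hF) ⊔
      (powMonoidHom n : ↥(NormOne F q) →* ↥(NormOne F q)).range =
        (baseNorm ι hq).range ⊔ (powMonoidHom n : ↥(NormOne F q) →* ↥(NormOne F q)).range := by
    apply le_antisymm
    · refine sup_le ?_ le_sup_right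
      rintro _ ⟨_, ⟨⟨u, B⟩, rfl⟩, rfl⟩
      rw [fixedHom_apply, map_mul, detN_scalarGU, detN_baseGU]
      exact mul_mem (Subgroup.mem_sup_right ⟨u, rfl⟩) (Subgroup.mem_sup_left ⟨_, rfl⟩)
    · refine sup_le ?_ le_sup_right
      rintro _ ⟨v, rfl⟩
      obtain ⟨B, rfl⟩ := detN_surjective (n := n) hF₀ (by omega) v
      refine Subgroup.mem_sup_left ⟨_, ⟨(1, B), rfl⟩, ?_⟩
      rw [fixedHom_apply, map_one, one_mul, detN_baseGU]
  rw [hmap, index_sup_cyclic, hidx, IsCyclic.index_powMonoidHom_range, hcU, Nat.gcd_comm (q + 1) n]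

end Base

theorem base_compat {F₀ : Type*} [Field F₀] [Fintype F₀] {q₀ r : ℕ} (hF₀ : Fintype.card F₀ = q₀ ^ 2)
    (hq : q = q₀ ^ r) (hr : Odd r) (ι : F₀ →+* F) (a : F₀) : ι a ^ q = ι (a ^ q₀) := by
  obtain ⟨k, rfl⟩ := hr
  rw [← map_pow, hq, pow_succ, pow_mul q₀, pow_mul, ← hF₀, FiniteField.pow_card_pow]

theorem card_fixed_field (hF : Fintype.card F = q ^ 2) {σ : F ≃+* F} {q₀ r : ℕ} (hσ : orderOf σ = r) (hr : r ≠ 0)
    (hq : q = q₀ ^ r) : Nat.card ↥(fixedField σ) = q₀ ^ 2 := by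
  refine Nat.pow_left_injective hr ?_
  show Nat.card ↥(fixedField σ) ^ r = (q₀ ^ 2) ^ r
  rw [← hσ, card_fixedField_pow, hF, hq, hσ, ← pow_mul, ← pow_mul, mul_comm]

/-- S2677. -/
theorem count_fixed {n q₀ r : ℕ} (hr : Odd r) (hn : 1 ≤ n) (hq : q = q₀ ^ r)
    (hF : Fintype.card F = q ^ 2) (σ : F ≃+* F) (hσ : orderOf σ = r) :
    (Nat.card {g : GUg n F q // ∃ c : F, c ≠ 0 ∧ (uMat g).map σ = c • uMat g} : ℤ) =
      ((q + 1) / (q₀ + 1) : ℕ) *
        ((q₀ : ℤ) ^ (n * (n - 1) / 2) * ∏ i : Fin n, ((q₀ : ℤ) ^ ((i : ℕ) + 1) - (-1) ^ ((i : ℕ) + 1))) := by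
  letI : Fintype ↥(fixedField σ) := Fintype.ofFinite _
  have hF₀ : Fintype.card ↥(fixedField σ) = q₀ ^ 2 := by
    rw [← Nat.card_eq_fintype_card, card_fixed_field hF hσ hr.pos.ne' hq]
  let ι := (fixedField σ).subtype
  have hcompat := base_compat hF₀ hq hr ι
  have hset := fixed_set_eq (n := n) hF hF₀ ι hcompat σ (fun a => (mem_fixedField σ).mp a.2)
    (fun x hx => ⟨⟨x, hx⟩, rfl⟩) hn
  have h1 := card_fixedHom_range (n := n) hF hF₀ ι hcompat hn
  rw [Nat.card_congr (guEquiv hF₀ n).toEquiv, card_unit hF₀] at h1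
  have h2 : Nat.card {g : GUg n F q // ∃ c : F, c ≠ 0 ∧ (uMat g).map σ = c • uMat g} =
      Nat.card ↥(fixedHom (n := n) hF hF₀ ι hcompat).range := Nat.card_congr (Equiv.setCongr hset)
  have hdvd : q₀ + 1 ∣ q + 1 := by
    have h3 := hr.nat_add_dvd_pow_add_pow q₀ 1
    rwa [one_pow, ← hq] at h3
  obtain ⟨d, hd⟩ := hdvd
  rw [h2, hd, Nat.mul_div_cancel_left _ (Nat.succ_pos q₀)]
  rw [hd, mul_assoc, mul_comm] at h1
  rw [Nat.eq_of_mul_eq_mul_left (Nat.succ_pos q₀) h1, Nat.cast_mul, Nat.cast_mul, Nat.cast_pow, Nat.cast_prod,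
    Finset.prod_range]
  congr 2
  refine Finset.prod_congr rfl fun i _ => ?_
  have hq0 : 1 ≤ q₀ := by
    have := two_le_of_card hF₀
    omega
  by_cases he : Even (i : ℕ)
  · rw [if_pos he, he.add_one.neg_one_pow]; push_cast; ring
  · rw [if_neg he, (Nat.not_even_iff_odd.mp he).add_one.neg_one_pow, Nat.cast_sub (Nat.one_le_pow _ _ hq0)]
    push_cast; ring

/-- S2705. -/
theorem field_facts {p f : ℕ} [Fact p.Prime] (hq : q = p ^ f) (hF : Fintype.card F = q ^ 2) (hn : 3 ≤ n)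
    (hs : ¬ (n = 3 ∧ q = 2)) {x : MulAut (Cfsg.PSU n F q)} (hx : Cfsg.IsFieldAutClassPSU x) {r : ℕ}
    (hxr : orderOf x = r) {F₀ : Type*} [Field F₀] [Fintype F₀] (hF₀ : Fintype.card F₀ = p ^ (2 * (f / r))) :
    r ∣ f ∧ Nonempty (↥(Cfsg.inndiagPSU n F q ⊓ Subgroup.centralizer {x}) ≃* Cfsg.PGU n F₀ (p ^ (f / r))) ∧
      Cfsg.splitClassCount (Cfsg.inndiagPSU n F q) (Cfsg.Inn (Cfsg.PSU n F q)) x =
        Nat.gcd n ((q + 1) / (p ^ (f / r) + 1)) := by
  obtain ⟨h', σ, hσr, hodd, hh'⟩ := normal_form hF hn hs hx hxr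
  have hF2 : Fintype.card F = p ^ (2 * f) := by rw [hF, hq, ← pow_mul, mul_comm]
  have hdvd2 := (fixedField_card σ hF2 hσr).1
  have hrf : r ∣ f := (Nat.coprime_two_right.mpr hodd).dvd_of_dvd_mul_left hdvd2
  obtain ⟨e⟩ := exists_equiv_fixedField σ hF2 hσr (F₀ := F₀) (by rw [hF₀, Nat.mul_div_assoc 2 hrf])
  let ι : F₀ →+* F := (fixedField σ).subtype.comp e.toRingHom
  have hι : ∀ a, σ (ι a) = ι a := fun a => (mem_fixedField σ).mp (e a).2
  have hι' : ∀ y, σ y = y → ∃ a, ι a = y := fun y hy => ⟨e.symm ⟨y, hy⟩, by simp [ι]⟩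
  have hmem : simAut h' ∈ Cfsg.inndiagPSU n F q := by rw [inndiagPSU_eq]; exact ⟨h', rfl⟩
  have hF₀' : Fintype.card F₀ = (p ^ (f / r)) ^ 2 := by rw [hF₀, ← pow_mul, mul_comm]
  have hqq : q = (p ^ (f / r)) ^ r := by rw [← pow_mul, Nat.div_mul_cancel hrf, hq]
  have hcompat := base_compat hF₀' hqq hodd ι
  refine ⟨hrf, ?_, ?_⟩
  · obtain ⟨e₁⟩ := centralizer_equiv_of_conj _ hmem hh'
    obtain ⟨e₂⟩ := centralizer_equiv (n := n) hF hF₀' ι hcompat σ hι hι' hn hs
    exact ⟨e₁.trans e₂⟩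
  · rw [splitClassCount_congr _ _ (x' := fieldAut σ) (isConjUnder_symm ⟨_, hmem, hh'⟩),
      split_count (n := n) hF hF₀' ι hcompat σ hι hι' hn hs, Nat.gcd_comm, Nat.gcd_assoc]
    congr 1
    refine Nat.gcd_eq_right (Nat.div_dvd_of_dvd ?_)
    have h3 := hodd.nat_add_dvd_pow_add_pow (p ^ (f / r)) 1
    rwa [one_pow, ← hqq] at h3

end CfsgLib.AutPSU
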