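import Mathlib
import Cfsg.Agent.Lib.AutPSU.Central
import Cfsg.Agent.Lib.AutPSL.GraphClass

/-!
Involutory graph automorphisms of `PSU_n(q)` and their models: invertible symmetric or alternating matrices
over the field with `q` elements.
-/

set_option autoImplicit false
set_option maxHeartbeats 800000

namespace CfsgLib.AutPSU

open Matrix Cfsg
open CfsgLib.Classical.Herm CfsgLib.Classical.Herm.HermSpace
open CfsgLib.AutPSL (Congr fixedField mem_fixedField semilinear_fixed_span ringAut_comm card_fixedField_pow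
  exists_hermitian_congr simGroup mem_simGroup)

variable {n : ℕ} {F : Type*} [Field F] [Fintype F] {q : ℕ}

/-- The `q`-th power map as a field automorphism. -/
noncomputable def qEquiv (hF : Fintype.card F = q ^ 2) : F ≃+* F :=
  RingEquiv.ofBijective (qPow hF) ⟨(qPow hF).injective, fun a => ⟨qPow hF a, qPow_qPow hF a⟩⟩

theorem qEquiv_apply (hF : Fintype.card F = q ^ 2) (a : F) : qEquiv hF a = qPow hF a := rfl

theorem orderOf_qEquiv (hF : Fintype.card F = q ^ 2) : orderOf (qEquiv hF) = 2 := by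
  refine orderOf_eq_prime (RingEquiv.ext fun a => qPow_qPow hF a) fun h3 => ?_
  obtain ⟨a, ha⟩ := exists_qPow_ne hF
  exact ha (DFunLike.congr_fun h3 a)

theorem card_fixed_two (hF : Fintype.card F = q ^ 2) {σ : F ≃+* F} (hσ : orderOf σ = 2) :
    Nat.card ↥(fixedField σ) = q := by
  refine Nat.pow_left_injective two_ne_zero ?_
  show Nat.card ↥(fixedField σ) ^ 2 = q ^ 2
  rw [← hσ, card_fixedField_pow, hF, hσ]

theorem eq_qEquiv (hF : Fintype.card F = q ^ 2) {σ : F ≃+* F} (hσ : orderOf σ = 2) : σ = qEquiv hF := by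
  have hc := card_fixed_two hF hσ
  have hfix : ∀ a, σ a = a → qPow hF a = a := by
    intro a ha
    letI : Fintype ↥(fixedField σ) := Fintype.ofFinite _
    have h1 := congrArg Subtype.val (FiniteField.pow_card (⟨a, ha⟩ : ↥(fixedField σ)))
    rw [← Nat.card_eq_fintype_card, hc] at h1
    exact h1
  have hσ2 : ∀ a, σ (σ a) = a := fun a => by
    have h1 := pow_orderOf_eq_one σ
    rw [hσ, pow_two] at h1
    exact DFunLike.congr_fun h1 a
  have heq : ∀ a, qPow hF a = a → σ a = a := by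
    intro a ha
    have hle : (fixedField σ : Set F) ⊆ fixedField (qEquiv hF) := fun b hb => hfix b hb
    have := Set.eq_of_subset_of_ncard_le hle (by
      rw [← Nat.card_coe_set_eq, ← Nat.card_coe_set_eq]
      exact le_of_eq ((card_fixed_two hF (orderOf_qEquiv hF)).trans hc.symm)) (Set.toFinite _)
    exact (this.ge ha :)
  refine RingEquiv.ext fun a => ?_
  rw [qEquiv_apply]
  by_cases ha : σ a = a
  · rw [hfix a ha, ha]
  have hs := hfix (a + σ a) (by rw [map_add, hσ2, add_comm])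
  have hp := hfix (a * σ a) (by rw [map_mul, hσ2, mul_comm])
  rw [map_add] at hs
  rw [map_mul] at hp
  have : (qPow hF a - σ a) * (qPow hF a - a) = 0 := by
    linear_combination (-1 : F) * hp + qPow hF a * hs
  exact ((mul_eq_zero.mp this).resolve_right (sub_ne_zero.mpr fun h => ha (heq a h)) |> sub_eq_zero.mp).symm

/-- The conjugate of a matrix. -/
abbrev cj (hF : Fintype.card F = q ^ 2) (A : Matrix (Fin n) (Fin n) F) : Matrix (Fin n) (Fin n) F := A.map (qPow hF)

theorem cj_mul (hF : Fintype.card F = q ^ 2) (A B : Matrix (Fin n) (Fin n) F) : cj hF (A * B) = cj hF A * cj hF B :=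
  Matrix.map_mul

theorem cj_one (hF : Fintype.card F = q ^ 2) : cj hF (1 : Matrix (Fin n) (Fin n) F) = 1 :=
  Matrix.map_one _ (map_zero _) (map_one _)

theorem cj_smul (hF : Fintype.card F = q ^ 2) (a : F) (A : Matrix (Fin n) (Fin n) F) :
    cj hF (a • A) = qPow hF a • cj hF A := Matrix.map_smul' _ _ _ (map_mul _)

theorem cj_cj (hF : Fintype.card F = q ^ 2) (A : Matrix (Fin n) (Fin n) F) : cj hF (cj hF A) = A := by
  ext i j; exact qPow_qPow hF _

theorem cj_transpose (hF : Fintype.card F = q ^ 2) (A : Matrix (Fin n) (Fin n) F) : cj hF Aᵀ = (cj hF A)ᵀ :=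
  (Matrix.transpose_map).symm

theorem gu_gram (hF : Fintype.card F = q ^ 2) (g : GUg n F q) : (uMat g)ᵀ * cj hF (uMat g) = 1 := by
  ext i j
  rw [Matrix.one_apply, ← cols_of_preserves hF g i j]
  rfl

theorem exists_gu_of_gram (hF : Fintype.card F = q ^ 2) {A : Matrix (Fin n) (Fin n) F} (h : Aᵀ * cj hF A = 1) :
    ∃ g : GUg n F q, uMat g = A :=
  exists_gu_of_cols hF fun i j => by rw [← Matrix.one_apply, ← h]; rfl

theorem guMap_q (hF : Fintype.card F = q ^ 2) (g : GUg n F q) : uMat (guMap (qEquiv hF) g) = cj hF (uMat g) := rfl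

theorem smul_inj_mat {a b : F} {A : Matrix (Fin n) (Fin n) F} (hA : A ≠ 0) (h : a • A = b • A) : a = b :=
  smul_left_injective F hA h

theorem ne_zero_of_mul {A B : Matrix (Fin n) (Fin n) F} (hn : 1 ≤ n) (h : A * B = 1) : A ≠ 0 ∧ B ≠ 0 := by
  constructor <;> rintro rfl <;>
    · have := congrFun (congrFun h ⟨0, hn⟩) ⟨0, hn⟩
      simp at this

/-- The graph automorphism attached to a unitary element. -/
noncomputable def graphU (hF : Fintype.card F = q ^ 2) (g : GUg n F q) : MulAut (Cfsg.PSU n F q) :=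
  simAut g * fieldAut (qEquiv hF)

theorem graphU_conj (hF : Fintype.card F = q ^ 2) (h g : GUg n F q) :
    simAut h * graphU hF g * (simAut h)⁻¹ = graphU hF (h * g * guMap (qEquiv hF) h⁻¹) := by
  rw [graphU, graphU, ← map_inv, mul_assoc, mul_assoc (simAut g), fieldAut_simAut, map_mul, map_mul]
  simp only [mul_assoc]

theorem graphU_sq (hF : Fintype.card F = q ^ 2) (g : GUg n F q) :
    graphU hF g * graphU hF g = simAut (g * guMap (qEquiv hF) g) := by
  rw [graphU, show (simAut g * fieldAut (qEquiv hF) * (simAut g * fieldAut (qEquiv hF)) : MulAut (Cfsg.PSU n F q)) =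
    simAut g * (fieldAut (qEquiv hF) * simAut g) * fieldAut (qEquiv hF) by group, fieldAut_simAut, map_mul,
    mul_assoc, mul_assoc, ← map_mul, show qEquiv hF * qEquiv hF = 1 from RingEquiv.ext fun a => qPow_qPow hF a,
    map_one, mul_one]

variable (hF : Fintype.card F = q ^ 2) (hn : 3 ≤ n) (hs : ¬ (n = 3 ∧ q = 2))

include hn hs in
theorem graphU_eq_iff {g h : GUg n F q} :
    graphU hF g = graphU hF h ↔ ∃ a : F, uMat g = a • uMat h := by
  rw [graphU, graphU, mul_left_inj, simAut_eq_iff hF hn hs]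

include hn hs in
theorem orderOf_graphU {g : GUg n F q} {c : F} (h : uMat g * cj hF (uMat g) = c • 1) :
    orderOf (graphU hF g) = 2 := by
  refine orderOf_eq_prime ?_ fun h1 => ?_
  · rw [pow_two, graphU_sq, simAut_eq_one_iff hF hn hs]
    exact ⟨c, by rw [uMat_mul, guMap_q, h]⟩
  · have h2 := (semilinear_eq_one hF hn hs h1).1
    have h3 := orderOf_qEquiv hF
    rw [h2, show (RingEquiv.refl F) = 1 from rfl, orderOf_one] at h3
    omega

theorem isGraph_graphU (hn : 3 ≤ n) (g : GUg n F q) : Cfsg.IsGraphAutClassPSU (graphU hF g) :=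
  ⟨hn, simAut g, fieldAut (qEquiv hF), qEquiv hF, by rw [orderOf_qEquiv hF]; decide,
    isInnerDiagonalAutPSU_iff.mpr ⟨g, rfl⟩, isFieldAutPSUOf_iff.mpr rfl, rfl⟩

include hn hs in
theorem graph_normal_form {γ : MulAut (Cfsg.PSU n F q)} (hγ : Cfsg.IsGraphAutClassPSU γ) (h2 : orderOf γ = 2) :
    ∃ (g : GUg n F q) (c : F), γ = graphU hF g ∧ c * c = 1 ∧ qPow hF c = c ∧ uMat g * cj hF (uMat g) = c • 1 := by
  obtain ⟨-, δ, φ, σ, hev, hδ, hφ, rfl⟩ := hγ
  obtain ⟨g, rfl⟩ := isInnerDiagonalAutPSU_iff.mp hδ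
  rw [isFieldAutPSUOf_iff] at hφ
  subst hφ
  have h1 : (simAut (g * guMap σ g) * fieldAut (σ * σ) : MulAut (Cfsg.PSU n F q)) = 1 := by
    have h0 := pow_orderOf_eq_one (simAut g * fieldAut σ : MulAut (Cfsg.PSU n F q))
    rw [h2, pow_two, show (simAut g * fieldAut σ * (simAut g * fieldAut σ) : MulAut (Cfsg.PSU n F q)) =
      simAut g * (fieldAut σ * simAut g) * fieldAut σ by group, fieldAut_simAut, ← mul_assoc, ← map_mul,
      mul_assoc, ← map_mul] at h0
    exact h0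
  obtain ⟨hσσ, c, hcN, hc⟩ := semilinear_eq_one hF hn hs h1
  have hσ : orderOf σ = 2 := by
    have hd : orderOf σ ∣ 2 := orderOf_dvd_of_pow_eq_one (by rw [pow_two]; exact hσσ)
    rcases (Nat.dvd_prime Nat.prime_two).mp hd with h | h
    · rw [h] at hev; exact absurd hev (by decide)
    · exact h
  obtain rfl := eq_qEquiv hF hσ
  rw [uMat_mul, guMap_q] at hc
  replace hcN : c * qPow hF c = 1 := hcN
  have hg0 : uMat g ≠ 0 := (ne_zero_of_mul (by omega) (uMat_mul_inv g)).1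
  have hcc : qPow hF c = c := by
    have h3 := congrArg (cj hF) hc
    rw [cj_mul, cj_cj, cj_smul, cj_one] at h3
    have h4 : c • uMat g = qPow hF c • uMat g := by
      calc c • uMat g = uMat g * cj hF (uMat g) * uMat g := by rw [hc, Matrix.smul_mul, Matrix.one_mul]
        _ = uMat g * (cj hF (uMat g) * uMat g) := Matrix.mul_assoc _ _ _
        _ = _ := by rw [h3, Matrix.mul_smul, Matrix.mul_one]
    exact (smul_inj_mat hg0 h4).symm
  exact ⟨g, c, rfl, by rw [hcc] at hcN; exact hcN, hcc, hc⟩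

variable {F₀ : Type*} [Field F₀] [Fintype F₀] (j : F₀ →+* F)

/-- `B` is a model of the graph automorphism attached to `g`. -/
def Model (hF : Fintype.card F = q ^ 2) (j : F₀ →+* F) (g : GUg n F q) (B : Matrix (Fin n) (Fin n) F₀) : Prop :=
  ∃ (K K' : Matrix (Fin n) (Fin n) F) (s t : F), K * K' = 1 ∧ K' * K = 1 ∧ s ≠ 0 ∧ t ≠ 0 ∧
    uMat g * cj hF K = s • K ∧ Kᵀ * cj hF K = t • B.map j

variable (hj : ∀ a, qPow hF (j a) = j a) (hj' : ∀ x, qPow hF x = x → ∃ a, j a = x)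

omit [Fintype F₀] in
include hj in
theorem cj_map (A : Matrix (Fin n) (Fin n) F₀) : cj hF (A.map j) = A.map j := by
  ext i k; exact hj _

omit [Fintype F] [Fintype F₀] in
theorem map_inv_mul {A A' : Matrix (Fin n) (Fin n) F₀} (h : A * A' = 1) : A.map j * A'.map j = 1 := by
  rw [← Matrix.map_mul, h, Matrix.map_one _ (map_zero _) (map_one _)]

omit [Fintype F₀] in
include hn hj' in
theorem exists_model {g : GUg n F q} {c : F} (hc2 : c * c = 1) (hcq : qPow hF c = c)
    (hg : uMat g * cj hF (uMat g) = c • 1) :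
    ∃ B : GL (Fin n) F₀, Model hF j g (B : Matrix (Fin n) (Fin n) F₀) ∧
      ((B : Matrix (Fin n) (Fin n) F₀)ᵀ = (B : Matrix (Fin n) (Fin n) F₀) ∨
        (B : Matrix (Fin n) (Fin n) F₀)ᵀ = -(B : Matrix (Fin n) (Fin n) F₀)) := by
  classical
  obtain ⟨μ, hμ⟩ := (stdHerm hF n).norm_surj c hcq
  replace hμ : μ * qPow hF μ = c := hμ
  have hc0 : c ≠ 0 := left_ne_zero_of_mul_eq_one hc2
  have hμ0 : μ ≠ 0 := fun h0 => hc0 (by rw [← hμ, h0, zero_mul])
  set σ := qEquiv hF with hσdef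
  let φ : (Fin n → F) → Fin n → F := fun v => μ • (uMat g *ᵥ fun i => σ (v i))
  have hadd : ∀ u v, φ (u + v) = φ u + φ v := fun u v => by
    simp only [φ, ← smul_add, ← Matrix.mulVec_add]
    congr 2
    funext i
    simp
  have hsmul : ∀ (a : F) v, φ (a • v) = σ a • φ v := fun a v => by
    simp only [φ]
    rw [show (fun i => σ ((a • v) i)) = σ a • (fun i => σ (v i)) from funext fun i => by simp, Matrix.mulVec_smul,
      smul_comm]
  have hper : ∀ v, φ^[orderOf σ] v = v := by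
    intro v
    rw [hσdef, orderOf_qEquiv hF]
    show φ (φ v) = v
    rw [show φ v = μ • (uMat g *ᵥ fun i => σ (v i)) from rfl, hsmul]
    show σ μ • (μ • (uMat g *ᵥ fun i => σ ((uMat g *ᵥ fun i => σ (v i)) i))) = v
    rw [← map_mulVec', show (fun i => σ (σ (v i))) = v from funext fun i => qPow_qPow hF _,
      Matrix.mulVec_mulVec, show (uMat g).map σ = cj hF (uMat g) from rfl, hg, Matrix.smul_mulVec, Matrix.one_mulVec,
      smul_smul, smul_smul, show σ μ = qPow hF μ from rfl, mul_comm (qPow hF μ), hμ, hc2, one_smul]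
  obtain ⟨b, hbS, hbspan, hbli⟩ := exists_linearIndependent F {v | φ v = v}
  have hspan := semilinear_fixed_span σ φ hadd hsmul hper
  let Bs := Module.Basis.mk hbli (by rw [Subtype.range_coe, hbspan, hspan])
  haveI : Fintype b := FiniteDimensional.fintypeBasisIndex Bs
  have hbn : Fintype.card b = Fintype.card (Fin n) := by
    rw [← Module.finrank_eq_card_basis Bs, Module.finrank_fintype_fun_eq_card]
  let eb : Fin n ≃ b := Fintype.equivOfCardEq hbn.symm
  let K : Matrix (Fin n) (Fin n) F := Matrix.of fun i k => (eb k).1 i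
  have hKdet : IsUnit K.det := by
    rw [← Matrix.isUnit_iff_isUnit_det, ← Matrix.linearIndependent_cols_iff_isUnit]
    exact hbli.comp eb eb.injective
  have hfix : μ • (uMat g * cj hF K) = K := by
    ext i k
    exact congrFun (hbS (eb k).2 : φ (eb k).1 = (eb k).1) i
  have hgK : uMat g * cj hF K = μ⁻¹ • K := by
    rw [eq_inv_smul_iff₀ hμ0, hfix]
  set M := Kᵀ * cj hF K with hMdef
  have hherm : cj hF M = Mᵀ := by
    rw [hMdef, cj_mul, cj_cj, cj_transpose, Matrix.transpose_mul, Matrix.transpose_transpose]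
  have hMc : M = c • cj hF M := by
    have h1 : cj hF M = (cj hF K)ᵀ * K := by rw [hMdef, cj_mul, cj_cj, cj_transpose]
    have h2 : K = μ • (uMat g * cj hF K) := hfix.symm
    calc M = Kᵀ * cj hF K := rfl
      _ = (μ • (uMat g * cj hF K))ᵀ * cj hF (μ • (uMat g * cj hF K)) := by rw [← h2]
      _ = (μ * qPow hF μ) • ((cj hF K)ᵀ * ((uMat g)ᵀ * cj hF (uMat g)) * K) := by
          rw [cj_smul, cj_mul, cj_cj, Matrix.transpose_smul, Matrix.transpose_mul, Matrix.smul_mul, Matrix.mul_smul,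
            smul_smul]
          simp only [Matrix.mul_assoc]
      _ = c • cj hF M := by rw [gu_gram, Matrix.mul_one, hμ, h1]
  obtain ⟨t, ht0, htM⟩ : ∃ t : F, t ≠ 0 ∧ qPow hF t = c * t := by
    rcases mul_self_eq_one_iff.mp hc2 with rfl | rfl
    · exact ⟨1, one_ne_zero, by rw [map_one, one_mul]⟩
    · obtain ⟨l, hl0, hl⟩ := (stdHerm hF n).exists_skew
      exact ⟨l, hl0, by rw [neg_one_mul]; exact eq_neg_of_add_eq_zero_right hl⟩
  have hent : ∀ i k, qPow hF (t⁻¹ * M i k) = t⁻¹ * M i k := by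
    intro i k
    have h1 : M i k = c * qPow hF (M i k) := congrFun (congrFun hMc i) k
    rw [map_mul, map_inv₀, htM]
    conv_rhs => rw [h1]
    field_simp
    linear_combination -(qPow hF (M i k)) * hc2
  choose a ha using fun i k => hj' _ (hent i k)
  have hMa : M = t • (Matrix.of a).map j := by
    ext i k
    rw [Matrix.smul_apply, Matrix.map_apply, Matrix.of_apply, ha, smul_eq_mul, mul_inv_cancel_left₀ ht0]
  have hdet : (Matrix.of a).det ≠ 0 := by
    intro h0
    have h1 := congrArg Matrix.det hMa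
    rw [Matrix.det_smul, ← RingHom.mapMatrix_apply, ← RingHom.map_det, h0, map_zero, mul_zero, hMdef, Matrix.det_mul,
      Matrix.det_transpose] at h1
    have hK2 : (cj hF K).det ≠ 0 := by
      rw [show cj hF K = (qPow hF).mapMatrix K from rfl, ← RingHom.map_det]
      exact (map_ne_zero (qPow hF)).mpr hKdet.ne_zero
    exact mul_ne_zero hKdet.ne_zero hK2 h1
  refine ⟨Matrix.GeneralLinearGroup.mkOfDetNeZero (Matrix.of a) hdet,
    ⟨K, K⁻¹, μ⁻¹, t, Matrix.mul_nonsing_inv K hKdet, Matrix.nonsing_inv_mul K hKdet, inv_ne_zero hμ0, ht0, hgK, hMa⟩, ?_⟩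
  show (Matrix.of a)ᵀ = Matrix.of a ∨ (Matrix.of a)ᵀ = -(Matrix.of a)
  have hT : ∀ i k, j (a k i) = c * j (a i k) := fun i k => by
    rw [ha, ha]
    have h1 : qPow hF (M i k) = M k i := congrFun (congrFun hherm i) k
    have h2 : M i k = c * qPow hF (M i k) := congrFun (congrFun hMc i) k
    rw [h2, h1]
    linear_combination -(t⁻¹ * M k i) * hc2
  rcases mul_self_eq_one_iff.mp hc2 with rfl | rfl
  · exact Or.inl (Matrix.ext fun i k => j.injective (by simpa using hT i k))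
  · exact Or.inr (Matrix.ext fun i k => j.injective (by simpa using hT i k))

omit [Fintype F₀] in
include hn hj hj' in
/-- Models of one element are similar. -/
theorem model_unique {g : GUg n F q} {B B' : GL (Fin n) F₀} (h : Model hF j g (B : Matrix (Fin n) (Fin n) F₀))
    (h' : Model hF j g (B' : Matrix (Fin n) (Fin n) F₀)) :
    ∃ c : F₀, c ≠ 0 ∧ Congr (B : Matrix (Fin n) (Fin n) F₀) (c • (B' : Matrix (Fin n) (Fin n) F₀)) := by
  obtain ⟨K, K', s, t, hKK, hKK', hs0, ht0, hgK, hM⟩ := h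
  obtain ⟨L, L', s', t', hLL, hLL', hs0', ht0', hgL, hM'⟩ := h'
  set R := K' * L with hR
  have hKR : L = K * R := by rw [hR, ← Matrix.mul_assoc, hKK, Matrix.one_mul]
  have hRR : R * (L' * K) = 1 := by
    rw [hR, Matrix.mul_assoc, ← Matrix.mul_assoc L, hLL, Matrix.one_mul, hKK']
  have hcR : cj hF R = (s' / s) • R := by
    have h1 : s' • (K * R) = s • (K * cj hF R) := by
      rw [← hKR, ← hgL, ← Matrix.smul_mul, ← hgK, Matrix.mul_assoc, ← cj_mul, ← hKR]
    have h2 := congrArg (K' * ·) h1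
    simp only [Matrix.mul_smul, ← Matrix.mul_assoc, hKK', Matrix.one_mul] at h2
    rw [div_eq_inv_mul, ← smul_smul, h2, inv_smul_smul₀ hs0]
  obtain ⟨i₀, k₀, h0⟩ : ∃ i k, R i k ≠ 0 := by
    by_contra! hcon
    exact (ne_zero_of_mul (by omega) hRR).1 (Matrix.ext hcon)
  set e := R i₀ k₀ with he
  have hfix : ∀ i k, qPow hF (e⁻¹ * R i k) = e⁻¹ * R i k := fun i k => by
    have hent : ∀ i k, qPow hF (R i k) = s' / s * R i k := fun i k => congrFun (congrFun hcR i) k
    rw [map_mul, map_inv₀, hent, hent, ← he]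
    field_simp
  choose a ha using fun i k => hj' _ (hfix i k)
  have hRa : R = e • (Matrix.of a).map j := by
    ext i k
    rw [Matrix.smul_apply, Matrix.map_apply, Matrix.of_apply, ha, smul_eq_mul, mul_inv_cancel_left₀ h0]
  set N := e * qPow hF e with hNdef
  have hform : t' • (B' : Matrix (Fin n) (Fin n) F₀).map j =
      (t * N) • ((Matrix.of a)ᵀ * B * Matrix.of a).map j := by
    rw [← hM', hKR, Matrix.transpose_mul, cj_mul]
    calc Rᵀ * Kᵀ * (cj hF K * cj hF R) = Rᵀ * (Kᵀ * cj hF K) * cj hF R := by simp only [Matrix.mul_assoc]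
      _ = _ := by
        rw [hM, hRa, cj_smul, cj_map hF j hj, Matrix.transpose_smul, Matrix.map_mul, Matrix.map_mul, Matrix.transpose_map,
          Matrix.smul_mul, Matrix.smul_mul, Matrix.mul_smul, Matrix.mul_smul, Matrix.smul_mul, smul_smul, smul_smul]
        congr 1
        rw [hNdef]; ring
  have hN0 : N ≠ 0 := mul_ne_zero h0 ((map_ne_zero (qPow hF)).mpr h0)
  have hB0 : ∃ i k, (B' : Matrix (Fin n) (Fin n) F₀) i k ≠ 0 := by
    by_contra! hcon
    have h1 := (Units.mul_inv B' : (B' : Matrix (Fin n) (Fin n) F₀) * _ = 1)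
    rw [show (B' : Matrix (Fin n) (Fin n) F₀) = 0 from Matrix.ext hcon, Matrix.zero_mul] at h1
    have := congrFun (congrFun h1 ⟨0, by omega⟩) ⟨0, by omega⟩
    simp at this
  obtain ⟨i₁, k₁, hb⟩ := hB0
  set c := ((Matrix.of a)ᵀ * (B : Matrix (Fin n) (Fin n) F₀) * Matrix.of a) i₁ k₁ /
    (B' : Matrix (Fin n) (Fin n) F₀) i₁ k₁ with hc
  have hent2 : ∀ i k, t' * j ((B' : Matrix (Fin n) (Fin n) F₀) i k) =
      t * N * j (((Matrix.of a)ᵀ * (B : Matrix (Fin n) (Fin n) F₀) * Matrix.of a) i k) := fun i k =>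
    congrFun (congrFun hform i) k
  have hjb : j ((B' : Matrix (Fin n) (Fin n) F₀) i₁ k₁) ≠ 0 := by simpa using hb
  have hjc : j c = t' / (t * N) := by
    rw [hc, map_div₀, div_eq_div_iff hjb (mul_ne_zero ht0 hN0), hent2]
    ring
  have hc0 : c ≠ 0 := fun h1 => by
    rw [h1, map_zero, eq_comm, div_eq_zero_iff] at hjc
    exact hjc.elim ht0' (mul_ne_zero ht0 hN0)
  have hdet : IsUnit (Matrix.of a).det := by
    refine isUnit_iff_ne_zero.mpr fun hz => ?_
    have h3 := congrArg Matrix.det hRR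
    rw [Matrix.det_mul, hRa, Matrix.det_smul, ← RingHom.mapMatrix_apply, ← RingHom.map_det, hz, map_zero, mul_zero,
      zero_mul, Matrix.det_one] at h3
    exact zero_ne_one h3
  refine ⟨c, hc0, Matrix.of a, (Matrix.of a)⁻¹, Matrix.mul_nonsing_inv _ hdet, Matrix.nonsing_inv_mul _ hdet, ?_⟩
  ext i k
  refine j.injective ?_
  rw [Matrix.smul_apply, smul_eq_mul, map_mul, hjc, div_mul_eq_mul_div, hent2,
    mul_div_cancel_left₀ _ (mul_ne_zero ht0 hN0)]

omit [Fintype F₀] in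
theorem model_conj {g g' : GUg n F q} {B : Matrix (Fin n) (Fin n) F₀} (h : Model hF j g B) (k : GUg n F q) {a : F}
    (ha : a ≠ 0) (hg' : uMat g' = a • uMat (k * g * guMap (qEquiv hF) k⁻¹)) : Model hF j g' B := by
  obtain ⟨K, K', s, t, hKK, hKK', hs0, ht0, hgK, hM⟩ := h
  refine ⟨uMat k * K, K' * uMat k⁻¹, a * s, t, ?_, ?_, mul_ne_zero ha hs0, ht0, ?_, ?_⟩
  · rw [Matrix.mul_assoc, ← Matrix.mul_assoc K, hKK, Matrix.one_mul, uMat_mul_inv]
  · rw [Matrix.mul_assoc, uMat_inv_mul', hKK']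
  · rw [hg', uMat_mul, uMat_mul, guMap_q, cj_mul, Matrix.smul_mul, Matrix.mul_assoc,
      ← Matrix.mul_assoc (cj hF (uMat k⁻¹)), ← cj_mul, uMat_inv_mul, cj_one, Matrix.one_mul,
      Matrix.mul_assoc, hgK, Matrix.mul_smul, smul_smul]
  · rw [Matrix.transpose_mul, cj_mul]
    calc Kᵀ * (uMat k)ᵀ * (cj hF (uMat k) * cj hF K) = Kᵀ * ((uMat k)ᵀ * cj hF (uMat k)) * cj hF K := by
          simp only [Matrix.mul_assoc]
      _ = _ := by rw [gu_gram, Matrix.mul_one, hM]

omit [Fintype F₀] in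
include hn hs hj hj' in
theorem congr_of_conj {g g' : GUg n F q} {B B' : GL (Fin n) F₀} (h : Model hF j g (B : Matrix (Fin n) (Fin n) F₀))
    (h' : Model hF j g' (B' : Matrix (Fin n) (Fin n) F₀))
    (hc : Cfsg.IsConjUnder (Cfsg.inndiagPSU n F q) (graphU hF g) (graphU hF g')) :
    ∃ c : F₀, c ≠ 0 ∧ Congr (B : Matrix (Fin n) (Fin n) F₀) (c • (B' : Matrix (Fin n) (Fin n) F₀)) := by
  obtain ⟨δ, hδ, he⟩ := hc
  rw [inndiagPSU_eq] at hδ
  obtain ⟨k, rfl⟩ := hδ
  rw [graphU_conj, graphU_eq_iff hF hn hs] at he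
  obtain ⟨a, ha⟩ := he
  have ha0 : a ≠ 0 := fun h0 => (ne_zero_of_mul (by omega) (uMat_mul_inv g')).1 (by rw [ha, h0, zero_smul])
  exact model_unique hF hn j hj hj' (model_conj hF j h k ha0 ha) h'

theorem gram_hermitian (K : Matrix (Fin n) (Fin n) F) : (Kᵀ * cj hF K)ᵀ = cj hF (Kᵀ * cj hF K) := by
  rw [cj_mul, cj_cj, cj_transpose, Matrix.transpose_mul, Matrix.transpose_transpose]

omit [Fintype F₀] in
include hj in
/-- A similarity between models gives a unitary element. -/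
theorem exists_unitary {B B' : GL (Fin n) F₀} {K L L' : Matrix (Fin n) (Fin n) F} {t t' : F} (hn : 1 ≤ n)
    (hLL : L * L' = 1) (hLL' : L' * L = 1) (ht : t ≠ 0) (ht' : t' ≠ 0)
    (hM : Kᵀ * cj hF K = t • (B : Matrix (Fin n) (Fin n) F₀).map j)
    (hM' : Lᵀ * cj hF L = t' • (B' : Matrix (Fin n) (Fin n) F₀).map j)
    {H : Matrix (Fin n) (Fin n) F₀} {c : F₀} (hc : c ≠ 0)
    (hH : Hᵀ * (B' : Matrix (Fin n) (Fin n) F₀) * H = c • (B : Matrix (Fin n) (Fin n) F₀))
    (hsame : (Kᵀ * cj hF K)ᵀ = cj hF (Kᵀ * cj hF K) ∧ (Lᵀ * cj hF L)ᵀ = cj hF (Lᵀ * cj hF L))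
    {K' : Matrix (Fin n) (Fin n) F} (hKK : K * K' = 1) :
    ∃ (k : GUg n F q) (ρ : F), ρ ≠ 0 ∧ ρ * qPow hF ρ = t / (t' * j c) ∧ uMat k * K = ρ • (L * H.map j) := by
  have hB0 : (B : Matrix (Fin n) (Fin n) F₀).map j ≠ 0 := fun h0 => by
    have h1 := map_inv_mul j (Units.mul_inv B : (B : Matrix (Fin n) (Fin n) F₀) * _ = 1)
    exact (ne_zero_of_mul hn h1).1 h0
  set L₁ := L * H.map j with hL₁
  have hM₁ : L₁ᵀ * cj hF L₁ = (t' * j c) • (B : Matrix (Fin n) (Fin n) F₀).map j := by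
    rw [hL₁, Matrix.transpose_mul, cj_mul, cj_map hF j hj]
    calc (H.map j)ᵀ * Lᵀ * (cj hF L * H.map j) = (H.map j)ᵀ * (Lᵀ * cj hF L) * H.map j := by
          simp only [Matrix.mul_assoc]
      _ = t' • (Hᵀ * (B' : Matrix (Fin n) (Fin n) F₀) * H).map j := by
          rw [hM', Matrix.mul_smul, Matrix.smul_mul, Matrix.map_mul, Matrix.map_mul, Matrix.transpose_map]
      _ = _ := by rw [hH, Matrix.map_smul' _ _ _ (map_mul _), smul_smul]
  have hjc : j c ≠ 0 := by simpa using hc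
  set r := t / (t' * j c) with hr
  have hKL : Kᵀ * cj hF K = r • (L₁ᵀ * cj hF L₁) := by
    rw [hM, hM₁, smul_smul, hr, div_mul_cancel₀ _ (mul_ne_zero ht' hjc)]
  have hrq : qPow hF r = r := by
    have h1 : (Kᵀ * cj hF K)ᵀ = r • (L₁ᵀ * cj hF L₁)ᵀ := by rw [hKL, Matrix.transpose_smul]
    have h2 : (L₁ᵀ * cj hF L₁)ᵀ = cj hF (L₁ᵀ * cj hF L₁) := gram_hermitian hF L₁
    have h3 : qPow hF r • cj hF (L₁ᵀ * cj hF L₁) = r • cj hF (L₁ᵀ * cj hF L₁) := by
      rw [← cj_smul, ← hKL, ← hsame.1, h1, h2]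
    refine smul_inj_mat ?_ h3
    intro h0
    have h4 : L₁ᵀ * cj hF L₁ = 0 := by rw [← cj_cj hF (L₁ᵀ * cj hF L₁), h0]; ext i k; exact map_zero (qPow hF)
    rw [hM₁, smul_eq_zero] at h4
    exact h4.elim (mul_ne_zero ht' hjc) hB0
  obtain ⟨ρ, hρ⟩ := (stdHerm hF n).norm_surj r hrq
  replace hρ : ρ * qPow hF ρ = r := hρ
  have hr0 : r ≠ 0 := div_ne_zero ht (mul_ne_zero ht' hjc)
  have hρ0 : ρ ≠ 0 := fun h0 => hr0 (by rw [← hρ, h0, zero_mul])
  obtain ⟨k, hk⟩ := exists_gu_of_gram hF (A := ρ • (L₁ * K')) (by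
    rw [Matrix.transpose_smul, cj_smul, Matrix.smul_mul, Matrix.mul_smul, smul_smul, hρ, Matrix.transpose_mul, cj_mul]
    calc r • (K'ᵀ * L₁ᵀ * (cj hF L₁ * cj hF K')) = K'ᵀ * (r • (L₁ᵀ * cj hF L₁)) * cj hF K' := by
          simp only [Matrix.mul_smul, Matrix.smul_mul, Matrix.mul_assoc]
      _ = (K * K')ᵀ * cj hF (K * K') := by
          rw [← hKL, Matrix.transpose_mul, cj_mul]; simp only [Matrix.mul_assoc]
      _ = 1 := by rw [hKK, cj_one, Matrix.transpose_one, Matrix.one_mul])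
  refine ⟨k, ρ, hρ0, hρ, ?_⟩
  have hK'K : K' * K = 1 := mul_eq_one_comm.mp hKK
  rw [hk, Matrix.smul_mul, Matrix.mul_assoc, hK'K, Matrix.mul_one]

omit [Fintype F₀] in
include hn hs hj in
theorem conj_of_congr {g g' : GUg n F q} {B B' : GL (Fin n) F₀} (h : Model hF j g (B : Matrix (Fin n) (Fin n) F₀))
    (h' : Model hF j g' (B' : Matrix (Fin n) (Fin n) F₀)) {c : F₀} (hc : c ≠ 0)
    (hcg : Congr (B : Matrix (Fin n) (Fin n) F₀) (c • (B' : Matrix (Fin n) (Fin n) F₀))) :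
    Cfsg.IsConjUnder (Cfsg.inndiagPSU n F q) (graphU hF g) (graphU hF g') := by
  obtain ⟨K, K', s, t, hKK, hKK', hs0, ht0, hgK, hM⟩ := h
  obtain ⟨L, L', s', t', hLL, hLL', hs0', ht0', hgL, hM'⟩ := h'
  have hcg' := hcg.symm
  obtain ⟨H, H', hHH, hH'H, hH⟩ := hcg'
  rw [Matrix.mul_smul, Matrix.smul_mul] at hH
  have hH2 : Hᵀ * (B' : Matrix (Fin n) (Fin n) F₀) * H = c⁻¹ • (B : Matrix (Fin n) (Fin n) F₀) := by
    rw [← hH, inv_smul_smul₀ hc]
  obtain ⟨k, ρ, hρ0, -, hk⟩ := exists_unitary hF j hj (by omega) hLL hLL' ht0 ht0' hM hM' (inv_ne_zero hc) hH2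
    ⟨gram_hermitian hF K, gram_hermitian hF L⟩ hKK
  refine ⟨simAut k, by rw [inndiagPSU_eq]; exact ⟨k, rfl⟩, ?_⟩
  rw [graphU_conj, graphU_eq_iff hF hn hs]
  have hρq : qPow hF ρ ≠ 0 := (map_ne_zero (qPow hF)).mpr hρ0
  have hkinv : cj hF (uMat k⁻¹) * cj hF L = (qPow hF ρ)⁻¹ • (cj hF K * cj hF (H'.map j)) := by
    have h1 : uMat k⁻¹ * L = ρ⁻¹ • (K * H'.map j) := by
      have h2 := congrArg (fun A => uMat k⁻¹ * A * H'.map j) hk
      simp only [Matrix.mul_smul, Matrix.smul_mul, Matrix.mul_assoc, uMat_inv_mul', map_inv_mul j hHH,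
        Matrix.mul_one] at h2
      rw [h2, inv_smul_smul₀ hρ0]
    rw [← cj_mul, h1, cj_smul, cj_mul, map_inv₀]
  refine ⟨s' / ((qPow hF ρ)⁻¹ * s * ρ), ?_⟩
  have hgoal : uMat (k * g * guMap (qEquiv hF) k⁻¹) * cj hF L = ((qPow hF ρ)⁻¹ * s * ρ) • L := by
    rw [uMat_mul, uMat_mul, guMap_q, Matrix.mul_assoc, hkinv, Matrix.mul_smul, Matrix.mul_assoc,
      ← Matrix.mul_assoc (uMat g), hgK, Matrix.smul_mul, Matrix.mul_smul, ← Matrix.mul_assoc, hk, Matrix.smul_mul,
      cj_map hF j hj, Matrix.mul_assoc, map_inv_mul j hHH, Matrix.mul_one, smul_smul, smul_smul]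
  have hcL : cj hF L * cj hF L' = 1 := by rw [← cj_mul, hLL, cj_one]
  have e1 : uMat g' = s' • (L * cj hF L') := by
    rw [← Matrix.smul_mul, ← hgL, Matrix.mul_assoc, hcL, Matrix.mul_one]
  have e2 : uMat (k * g * guMap (qEquiv hF) k⁻¹) = ((qPow hF ρ)⁻¹ * s * ρ) • (L * cj hF L') := by
    rw [← Matrix.smul_mul, ← hgoal, Matrix.mul_assoc, hcL, Matrix.mul_one]
  rw [e1, e2, smul_smul, div_mul_cancel₀ _ (mul_ne_zero (mul_ne_zero (inv_ne_zero hρq) hs0) hρ0)]

omit [Fintype F₀] in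
include hn hs hj in
/-- Every symmetric or alternating matrix over the small field is a model. -/
theorem exists_of_model (B : GL (Fin n) F₀)
    (hB : (B : Matrix (Fin n) (Fin n) F₀)ᵀ = (B : Matrix (Fin n) (Fin n) F₀) ∨
      (B : Matrix (Fin n) (Fin n) F₀)ᵀ = -(B : Matrix (Fin n) (Fin n) F₀)) :
    ∃ g : GUg n F q, Model hF j g (B : Matrix (Fin n) (Fin n) F₀) ∧
      Cfsg.IsGraphAutClassPSU (graphU hF g) ∧ orderOf (graphU hF g) = 2 := by
  obtain ⟨t, c, ht0, hc2, hcq, htq, hBt⟩ : ∃ t c : F, t ≠ 0 ∧ c * c = 1 ∧ qPow hF c = c ∧ qPow hF t = c * t ∧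
      ((B : Matrix (Fin n) (Fin n) F₀).map j)ᵀ = c • (B : Matrix (Fin n) (Fin n) F₀).map j := by
    rcases hB with hB | hB
    · exact ⟨1, 1, one_ne_zero, one_mul 1, map_one _, by rw [map_one, one_mul], by
        rw [← Matrix.transpose_map, hB, one_smul]⟩
    · obtain ⟨l, hl0, hl⟩ := (stdHerm hF n).exists_skew
      refine ⟨l, -1, hl0, by rw [neg_mul_neg, one_mul], by rw [map_neg, map_one],
        by rw [neg_one_mul]; exact eq_neg_of_add_eq_zero_right hl, ?_⟩
      rw [← Matrix.transpose_map, hB, neg_one_smul]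
      ext i k; simp
  set M := t • (B : Matrix (Fin n) (Fin n) F₀).map j with hMdef
  have hherm : (M.map (qEquiv hF))ᵀ = M := by
    show (cj hF M)ᵀ = M
    rw [hMdef, cj_smul, cj_map hF j hj, Matrix.transpose_smul, hBt, smul_smul, htq, mul_comm c t, mul_assoc, hc2,
      mul_one]
  have hdet : M.det ≠ 0 := by
    rw [hMdef, Matrix.det_smul, ← RingHom.mapMatrix_apply, ← RingHom.map_det]
    exact mul_ne_zero (pow_ne_zero _ ht0) (by simp [Matrix.GeneralLinearGroup.det_ne_zero B])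
  obtain ⟨h, hh⟩ := exists_hermitian_congr (qEquiv hF) (orderOf_qEquiv hF) M hherm hdet
  set K := h.1ᵀ with hK
  set K' := (h⁻¹).1ᵀ with hK'
  have hKK : K * K' = 1 := by rw [hK, hK', ← Matrix.transpose_mul, Units.inv_mul, Matrix.transpose_one]
  have hKK' : K' * K = 1 := by rw [hK, hK', ← Matrix.transpose_mul, Units.mul_inv, Matrix.transpose_one]
  have hM : Kᵀ * cj hF K = M := by
    rw [hh, hK, Matrix.transpose_transpose, cj_transpose]
    rfl
  obtain ⟨μ, hμ⟩ := (stdHerm hF n).norm_surj c hcq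
  replace hμ : μ * qPow hF μ = c := hμ
  have hμ0 : μ ≠ 0 := fun h0 => by rw [h0, zero_mul] at hμ; rw [← hμ, mul_zero] at hc2; exact zero_ne_one hc2
  have hcc : cj hF K * cj hF K' = 1 := by rw [← cj_mul, hKK, cj_one]
  obtain ⟨g, hg⟩ := exists_gu_of_gram hF (A := μ • (K * cj hF K')) (by
    rw [Matrix.transpose_smul, cj_smul, Matrix.smul_mul, Matrix.mul_smul, smul_smul, hμ, Matrix.transpose_mul, cj_mul,
      cj_cj]
    calc c • ((cj hF K')ᵀ * Kᵀ * (cj hF K * K')) = (cj hF K')ᵀ * (c • M) * K' := by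
          rw [← hM]; simp only [Matrix.mul_smul, Matrix.smul_mul, Matrix.mul_assoc]
      _ = (cj hF K')ᵀ * cj hF M * K' := by
          rw [hMdef, cj_smul, cj_map hF j hj, htq, smul_smul]
      _ = (cj hF K * cj hF K')ᵀ * (K * K') := by
          rw [← hM, cj_mul, cj_cj, cj_transpose, Matrix.transpose_mul]; simp only [cj_transpose, Matrix.mul_assoc]
      _ = 1 := by rw [hcc, hKK, Matrix.transpose_one, Matrix.one_mul])
  refine ⟨g, ⟨K, K', μ, t, hKK, hKK', hμ0, ht0, ?_, by rw [hM, hMdef]⟩, isGraph_graphU hF hn g,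
    orderOf_graphU hF hn hs (c := c) ?_⟩
  · rw [hg, Matrix.smul_mul, Matrix.mul_assoc, ← cj_mul, hKK', cj_one, Matrix.mul_one]
  · rw [hg, cj_smul, cj_mul, cj_cj, Matrix.smul_mul, Matrix.mul_smul, smul_smul, hμ, Matrix.mul_assoc,
      ← Matrix.mul_assoc (cj hF K'), ← cj_mul, hKK', cj_one, Matrix.one_mul, hKK]

end CfsgLib.AutPSU
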