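import Mathlib
import Cfsg.Agent.Lib.AutPSU.GraphModel
import Cfsg.Agent.Lib.AutPSL.GraphSplit
import Cfsg.Agent.Lib.AutPSL.FiniteFieldEmb

/-!
Centralisers and class splitting of involutory graph automorphisms of `PSU_n(q)`.
-/

set_option autoImplicit false
set_option maxHeartbeats 800000

namespace CfsgLib.AutPSU

open Matrix Cfsg
open CfsgLib.Classical.Herm CfsgLib.Classical.Herm.HermSpace
open CfsgLib.AutPSL (Congr fixedField mem_fixedField semilinear_fixed_span simGroup mem_simGroup det_sq_of_mem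
  halfScalar halfScalar_mul_J det_halfScalar simGroup_J_decomp spToGL spToGL_coe)

variable {n : ℕ} {F : Type*} [Field F] [Fintype F] {q : ℕ}

/-- Hilbert 90 for the quadratic extension. -/
theorem exists_div_conj (hF : Fintype.card F = q ^ 2) (v : ↥(NormOne F q)) :
    ∃ ρ : F, ρ ≠ 0 ∧ (v.1 : F) * qPow hF ρ = ρ := by
  have hv : (v.1 : F) * qPow hF (v.1 : F) = 1 := normOne_spec v
  have hper : ∀ a : F, (fun a : F => (v.1 : F) * qPow hF a)^[orderOf (qEquiv hF)] a = a := by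
    intro a
    rw [orderOf_qEquiv hF]
    show (v.1 : F) * qPow hF ((v.1 : F) * qPow hF a) = a
    rw [map_mul, qPow_qPow, ← mul_assoc, hv, one_mul]
  have hsp := semilinear_fixed_span (qEquiv hF) (V := F) (fun a : F => (v.1 : F) * qPow hF a)
    (fun a b => by simp only [map_add, mul_add])
    (fun a b => by simp only [smul_eq_mul, map_mul, qEquiv_apply]; ring) hper
  by_contra hno
  push Not at hno
  have hbot : Submodule.span F {a : F | (v.1 : F) * qPow hF a = a} = ⊥ :=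
    Submodule.span_eq_bot.mpr fun a ha => by
      by_contra h0; exact hno a h0 ha
  rw [hbot] at hsp
  exact bot_ne_top hsp

/-- The field with `q` elements inside the field with `q²` elements. -/
theorem exists_embedding (hF : Fintype.card F = q ^ 2) {F₀ : Type*} [Field F₀] [Fintype F₀]
    (hF₀ : Fintype.card F₀ = q) :
    ∃ j : F₀ →+* F, (∀ a, qPow hF (j a) = j a) ∧ ∀ x, qPow hF x = x → ∃ a, j a = x := by
  obtain ⟨j⟩ := CfsgLib.AutPSL.exists_ringHom_of_card_pow (F := F₀) (K := F) (r := 2) (by rw [hF, hF₀])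
  have h1 : ∀ a, qPow hF (j a) = j a := fun a => by
    rw [qPow_apply, ← map_pow, ← hF₀, FiniteField.pow_card]
  refine ⟨j, h1, fun x hx => ?_⟩
  have hle : Set.range j ⊆ (fixedField (qEquiv hF) : Set F) := by
    rintro _ ⟨a, rfl⟩; exact h1 a
  have := Set.eq_of_subset_of_ncard_le hle (by
    rw [← Nat.card_coe_set_eq, ← Nat.card_coe_set_eq, Nat.card_range_of_injective j.injective,
      Nat.card_eq_fintype_card (α := F₀), hF₀]
    exact le_of_eq (card_fixed_two hF (orderOf_qEquiv hF))) (Set.toFinite _)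
  exact (this.ge hx :)

variable (hF : Fintype.card F = q ^ 2) (hn : 3 ≤ n) (hs : ¬ (n = 3 ∧ q = 2))
variable {F₀ : Type*} [Field F₀] (j : F₀ →+* F) (hj : ∀ a, qPow hF (j a) = j a)
  (hj' : ∀ x, qPow hF x = x → ∃ a, j a = x)
variable {g : GUg n F q} {B : GL (Fin n) F₀} {K K' : Matrix (Fin n) (Fin n) F} {s t : F}
  (hKK : K * K' = 1) (hKK' : K' * K = 1) (hs0 : s ≠ 0) (ht0 : t ≠ 0) (hgK : uMat g * cj hF K = s • K)
  (hM : Kᵀ * cj hF K = t • (B : Matrix (Fin n) (Fin n) F₀).map j)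

/-- The relation between similarities of the model and unitary elements. -/
def Rel (hF : Fintype.card F = q ^ 2) (j : F₀ →+* F) (K : Matrix (Fin n) (Fin n) F) (B : GL (Fin n) F₀)
    (R : GL (Fin n) F₀) (k : GUg n F q) (ρ : F) : Prop :=
  ρ ≠ 0 ∧ uMat k * K = ρ • (K * (R : Matrix (Fin n) (Fin n) F₀).map j) ∧
    ∃ c : F₀, (R : Matrix (Fin n) (Fin n) F₀)ᵀ * B * R = c • (B : Matrix (Fin n) (Fin n) F₀) ∧
      ρ * qPow hF ρ * j c = 1

include hn hKK ht0 hM hj in
theorem exists_rel {R : GL (Fin n) F₀} {c : F₀} (hc : c ≠ 0)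
    (hR : (R : Matrix (Fin n) (Fin n) F₀)ᵀ * B * R = c • (B : Matrix (Fin n) (Fin n) F₀)) :
    ∃ k ρ, Rel hF j K B R k ρ := by
  obtain ⟨k, ρ, hρ0, hρ, hk⟩ := exists_unitary hF j hj (by omega) hKK (mul_eq_one_comm.mp hKK) ht0 ht0 hM hM hc hR
    ⟨gram_hermitian hF K, gram_hermitian hF K⟩ hKK
  refine ⟨k, ρ, hρ0, hk, c, hR, ?_⟩
  have : j c ≠ 0 := (map_ne_zero j).mpr hc
  rw [hρ]
  field_simp

include hn hs hKK hKK' hs0 hgK hj in
theorem rel_mem {R : GL (Fin n) F₀} {k : GUg n F q} {ρ : F} (h : Rel hF j K B R k ρ) :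
    simAut k ∈ Subgroup.centralizer {graphU hF g} := by
  obtain ⟨hρ0, hk, -⟩ := h
  rw [Subgroup.mem_centralizer_singleton_iff, ← mul_inv_eq_iff_eq_mul, graphU_conj, graphU_eq_iff hF hn hs]
  have hρq : qPow hF ρ ≠ 0 := (map_ne_zero (qPow hF)).mpr hρ0
  set R' := ((R⁻¹ : GL (Fin n) F₀) : Matrix (Fin n) (Fin n) F₀)
  have hRR : (R : Matrix (Fin n) (Fin n) F₀).map j * R'.map j = 1 := map_inv_mul j (Units.mul_inv R)
  have hkinv : cj hF (uMat k⁻¹) * cj hF K = (qPow hF ρ)⁻¹ • (cj hF K * cj hF (R'.map j)) := by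
    have h1 : uMat k⁻¹ * K = ρ⁻¹ • (K * R'.map j) := by
      have h2 := congrArg (fun A => uMat k⁻¹ * A * R'.map j) hk
      simp only [Matrix.mul_smul, Matrix.smul_mul, Matrix.mul_assoc, uMat_inv_mul', hRR, Matrix.mul_one] at h2
      rw [h2, inv_smul_smul₀ hρ0]
    rw [← cj_mul, h1, cj_smul, cj_mul, map_inv₀]
  have hgoal : uMat (k * g * guMap (qEquiv hF) k⁻¹) * cj hF K = ((qPow hF ρ)⁻¹ * s * ρ) • K := by
    rw [uMat_mul, uMat_mul, guMap_q, Matrix.mul_assoc, hkinv, Matrix.mul_smul, Matrix.mul_assoc,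
      ← Matrix.mul_assoc (uMat g), hgK, Matrix.smul_mul, Matrix.mul_smul, ← Matrix.mul_assoc, hk, Matrix.smul_mul,
      cj_map hF j hj, Matrix.mul_assoc, hRR, Matrix.mul_one, smul_smul, smul_smul]
  have hcK : cj hF K * cj hF K' = 1 := by rw [← cj_mul, hKK, cj_one]
  refine ⟨(qPow hF ρ)⁻¹ * ρ, ?_⟩
  have e1 : uMat g = s • (K * cj hF K') := by
    rw [← Matrix.smul_mul, ← hgK, Matrix.mul_assoc, hcK, Matrix.mul_one]
  have e2 : uMat (k * g * guMap (qEquiv hF) k⁻¹) = ((qPow hF ρ)⁻¹ * s * ρ) • (K * cj hF K') := by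
    rw [← Matrix.smul_mul, ← hgoal, Matrix.mul_assoc, hcK, Matrix.mul_one]
  rw [e2, e1, smul_smul]
  congr 1
  ring

include hn hs hKK hKK' hs0 ht0 hgK hM hj hj' in
theorem exists_rel_of_mem {k : GUg n F q} (h : simAut k ∈ Subgroup.centralizer {graphU hF g}) :
    ∃ R ρ, R ∈ simGroup (B : Matrix (Fin n) (Fin n) F₀) ∧ Rel hF j K B R k ρ := by
  rw [Subgroup.mem_centralizer_singleton_iff, ← mul_inv_eq_iff_eq_mul, graphU_conj, graphU_eq_iff hF hn hs] at h
  obtain ⟨a, ha⟩ := h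
  set S := K' * (uMat k * K) with hS
  have hkS : uMat k * K = K * S := by rw [hS, ← Matrix.mul_assoc K, hKK, Matrix.one_mul]
  have hSS : S * (K' * (uMat k⁻¹ * K)) = 1 := by
    rw [hS, Matrix.mul_assoc, Matrix.mul_assoc (uMat k), ← Matrix.mul_assoc K, hKK, Matrix.one_mul, uMat_mul_inv',
      hKK']
  have hrel : uMat k * uMat g = a • (uMat g * cj hF (uMat k)) := by
    rw [← Matrix.smul_mul, ← ha, uMat_mul, uMat_mul, guMap_q, Matrix.mul_assoc, ← cj_mul, uMat_inv_mul, cj_one,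
      Matrix.mul_one]
  have hfixS : S = a • cj hF S := by
    have h1 := congrArg (· * cj hF K) hrel
    simp only [Matrix.smul_mul, Matrix.mul_assoc, ← cj_mul, hkS] at h1
    rw [hgK, Matrix.mul_smul, hkS, cj_mul, ← Matrix.mul_assoc (uMat g), hgK, Matrix.smul_mul, smul_comm a s] at h1
    have h2 := congrArg (K' * ·) (smul_right_injective _ hs0 h1)
    simp only [Matrix.mul_smul, ← Matrix.mul_assoc, hKK', Matrix.one_mul] at h2
    exact h2
  obtain ⟨i₀, k₀, h0⟩ : ∃ i k, S i k ≠ 0 := by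
    by_contra! hcon
    exact (ne_zero_of_mul (by omega) hSS).1 (Matrix.ext hcon)
  set e := S i₀ k₀ with he
  have hent : ∀ i l, S i l = a * qPow hF (S i l) := fun i l => congrFun (congrFun hfixS i) l
  have ha0 : a ≠ 0 := fun hz => h0 (by rw [he, hent i₀ k₀, hz, zero_mul])
  have hfix : ∀ i l, qPow hF (e⁻¹ * S i l) = e⁻¹ * S i l := fun i l => by
    have hq0 : qPow hF e ≠ 0 := (map_ne_zero (qPow hF)).mpr h0
    rw [map_mul, map_inv₀]
    conv_rhs => rw [hent i l, show e = a * qPow hF e from hent i₀ k₀]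
    field_simp
  choose r hr using fun i l => hj' _ (hfix i l)
  have hSr : S = e • (Matrix.of r).map j := by
    ext i l
    rw [Matrix.smul_apply, Matrix.map_apply, Matrix.of_apply, hr, smul_eq_mul, mul_inv_cancel_left₀ h0]
  have hdet : (Matrix.of r).det ≠ 0 := by
    intro hz
    have h3 := congrArg Matrix.det hSS
    rw [Matrix.det_mul, hSr, Matrix.det_smul, ← RingHom.mapMatrix_apply, ← RingHom.map_det, hz, map_zero, mul_zero,
      zero_mul, Matrix.det_one] at h3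
    exact zero_ne_one h3
  set N := e * qPow hF e with hN
  obtain ⟨c, hc⟩ := hj' N⁻¹ (by rw [map_inv₀, hN, map_mul, qPow_qPow, mul_comm])
  have hN0 : N ≠ 0 := mul_ne_zero h0 ((map_ne_zero (qPow hF)).mpr h0)
  have hc0 : c ≠ 0 := fun hz => inv_ne_zero hN0 (by rw [← hc, hz, map_zero])
  have hform : ((Matrix.of r)ᵀ * (B : Matrix (Fin n) (Fin n) F₀) * Matrix.of r) = c • (B : Matrix (Fin n) (Fin n) F₀) := by
    have h1 : (uMat k * K)ᵀ * cj hF (uMat k * K) = Kᵀ * cj hF K := by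
      rw [Matrix.transpose_mul, cj_mul]
      calc Kᵀ * (uMat k)ᵀ * (cj hF (uMat k) * cj hF K) = Kᵀ * ((uMat k)ᵀ * cj hF (uMat k)) * cj hF K := by
            simp only [Matrix.mul_assoc]
        _ = _ := by rw [gu_gram, Matrix.mul_one]
    rw [hkS, Matrix.transpose_mul, cj_mul] at h1
    have h2 : (t * N) • ((Matrix.of r)ᵀ * (B : Matrix (Fin n) (Fin n) F₀) * Matrix.of r).map j =
        t • (B : Matrix (Fin n) (Fin n) F₀).map j := by
      rw [← hM, ← h1]
      calc (t * N) • ((Matrix.of r)ᵀ * (B : Matrix (Fin n) (Fin n) F₀) * Matrix.of r).map j =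
          Sᵀ * (t • (B : Matrix (Fin n) (Fin n) F₀).map j) * cj hF S := by
            rw [hSr, cj_smul, cj_map hF j hj, Matrix.transpose_smul, Matrix.map_mul, Matrix.map_mul,
              Matrix.transpose_map, Matrix.smul_mul, Matrix.smul_mul, Matrix.mul_smul, Matrix.mul_smul, Matrix.smul_mul,
              smul_smul, smul_smul]
            congr 1
            rw [hN]; ring
        _ = _ := by rw [← hM]; simp only [Matrix.mul_assoc]
    ext i l
    refine j.injective (mul_left_cancel₀ (mul_ne_zero ht0 hN0) ?_)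
    have h3 := congrFun (congrFun h2 i) l
    simp only [Matrix.smul_apply, Matrix.map_apply, smul_eq_mul] at h3
    rw [h3, Matrix.smul_apply, smul_eq_mul, map_mul, hc]
    field_simp
  refine ⟨Matrix.GeneralLinearGroup.mkOfDetNeZero (Matrix.of r) hdet, e, ⟨Units.mk0 c hc0, hform⟩, h0, ?_, c, hform,
    by rw [hc, ← hN, mul_inv_cancel₀ hN0]⟩
  show uMat k * K = e • (K * (Matrix.of r).map j)
  rw [hkS, hSr, Matrix.mul_smul]

include hn hs hKK in
theorem rel_simAut_eq {R : GL (Fin n) F₀} {k k' : GUg n F q} {ρ ρ' : F} (h : Rel hF j K B R k ρ)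
    (h' : Rel hF j K B R k' ρ') : (simAut k : MulAut (Cfsg.PSU n F q)) = simAut k' := by
  refine (simAut_eq_iff hF hn hs).mpr ⟨ρ / ρ', ?_⟩
  have e1 : ∀ {k : GUg n F q} {ρ : F}, uMat k * K = ρ • (K * (R : Matrix (Fin n) (Fin n) F₀).map j) →
      uMat k = ρ • (K * (R : Matrix (Fin n) (Fin n) F₀).map j * K') := fun {k ρ} hk => by
    rw [← Matrix.smul_mul, ← hk, Matrix.mul_assoc, hKK, Matrix.mul_one]
  rw [e1 h.2.1, e1 h'.2.1, smul_smul, div_mul_cancel₀ _ h'.1]

omit [Fintype F] in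
theorem simGroup_mult {R : GL (Fin n) F₀} (hR : R ∈ simGroup (B : Matrix (Fin n) (Fin n) F₀)) :
    ∃ c : F₀, c ≠ 0 ∧ (R : Matrix (Fin n) (Fin n) F₀)ᵀ * B * R = c • (B : Matrix (Fin n) (Fin n) F₀) := by
  obtain ⟨c, hc⟩ := hR
  exact ⟨c, c.ne_zero, hc⟩

include hn hs hKK hKK' hs0 ht0 hgK hM hj hj' in
theorem centralizer_graphU_equiv :
    Nonempty (↥(Cfsg.inndiagPSU n F q ⊓ Subgroup.centralizer {graphU hF g}) ≃*
      Cfsg.projQuot (simGroup (B : Matrix (Fin n) (Fin n) F₀))) := by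
  classical
  have hex : ∀ R : ↥(simGroup (B : Matrix (Fin n) (Fin n) F₀)), ∃ k ρ, Rel hF j K B R.1 k ρ := fun R => by
    obtain ⟨c, hc, hR⟩ := simGroup_mult R.2
    exact exists_rel hF hn j hj hKK ht0 hM hc hR
  choose kf ρf hkf using hex
  have hmul : ∀ R S, Rel hF j K B (R * S : ↥(simGroup (B : Matrix (Fin n) (Fin n) F₀))).1 (kf R * kf S) (ρf R * ρf S) := by
    intro R S
    obtain ⟨hR0, hR, c, hRB, hRc⟩ := hkf R
    obtain ⟨hS0, hS, d, hSB, hSd⟩ := hkf S
    refine ⟨mul_ne_zero hR0 hS0, ?_, c * d, ?_, ?_⟩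
    · rw [uMat_mul, Matrix.mul_assoc, hS, Matrix.mul_smul, ← Matrix.mul_assoc, hR, Matrix.smul_mul, smul_smul,
        mul_comm (ρf S), Subgroup.coe_mul, Units.val_mul, Matrix.map_mul, Matrix.mul_assoc]
    · rw [Subgroup.coe_mul, Units.val_mul, Matrix.transpose_mul]
      calc (S.1 : Matrix (Fin n) (Fin n) F₀)ᵀ * (R.1 : Matrix (Fin n) (Fin n) F₀)ᵀ * B *
            ((R.1 : Matrix (Fin n) (Fin n) F₀) * (S.1 : Matrix (Fin n) (Fin n) F₀)) =
          (S.1 : Matrix (Fin n) (Fin n) F₀)ᵀ * ((R.1 : Matrix (Fin n) (Fin n) F₀)ᵀ * B * R.1) * S.1 := by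
            simp only [Matrix.mul_assoc]
        _ = _ := by rw [hRB, Matrix.mul_smul, Matrix.smul_mul, hSB, smul_smul]
    · rw [map_mul, map_mul]
      linear_combination (ρf S * qPow hF (ρf S) * j d) * hRc + hSd
  let θ : ↥(simGroup (B : Matrix (Fin n) (Fin n) F₀)) →* MulAut (Cfsg.PSU n F q) :=
    MonoidHom.mk' (fun R => simAut (kf R)) fun R S => by
      rw [← map_mul]
      exact rel_simAut_eq hF hn hs j hKK (hkf (R * S)) (hmul R S)
  have hrange : θ.range = Cfsg.inndiagPSU n F q ⊓ Subgroup.centralizer {graphU hF g} := by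
    refine le_antisymm ?_ ?_
    · rintro _ ⟨R, rfl⟩
      exact ⟨by rw [inndiagPSU_eq]; exact ⟨_, rfl⟩, rel_mem hF hn hs j hj hKK hKK' hs0 hgK (hkf R)⟩
    · rintro x ⟨hx1, hx2⟩
      rw [inndiagPSU_eq] at hx1
      obtain ⟨k, rfl⟩ := hx1
      obtain ⟨R, ρ, hR, hrel⟩ := exists_rel_of_mem hF hn hs j hj hj' hKK hKK' hs0 ht0 hgK hM hx2
      exact ⟨⟨R, hR⟩, rel_simAut_eq hF hn hs j hKK (hkf ⟨R, hR⟩) hrel⟩
  have hker : θ.ker = (Cfsg.Geo.scalars (Fin n) F₀).subgroupOf (simGroup (B : Matrix (Fin n) (Fin n) F₀)) := by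
    ext R
    rw [MonoidHom.mem_ker, Subgroup.mem_subgroupOf, Cfsg.Geo.mem_scalars_iff,
      show θ R = simAut (kf R) from rfl, simAut_eq_one_iff hF hn hs]
    obtain ⟨hρ0, hk, -⟩ := hkf R
    constructor
    · rintro ⟨a, ha⟩
      have h1 : a • K = ρf R • (K * (R.1 : Matrix (Fin n) (Fin n) F₀).map j) := by
        rw [← hk, ha, Matrix.smul_mul, Matrix.one_mul]
      have h2 : (R.1 : Matrix (Fin n) (Fin n) F₀).map j = (a / ρf R) • 1 := by
        have h3 := congrArg (fun A => (ρf R)⁻¹ • (K' * A)) h1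
        simp only [Matrix.mul_smul, ← Matrix.mul_assoc, hKK', Matrix.one_mul, inv_smul_smul₀ hρ0, smul_smul,
          inv_mul_eq_div] at h3
        exact h3.symm
      let i₀ : Fin n := ⟨0, by omega⟩
      have h4 : j ((R.1 : Matrix (Fin n) (Fin n) F₀) i₀ i₀) = a / ρf R := by
        have := congrFun (congrFun h2 i₀) i₀
        simpa using this
      have h5 : (R.1 : Matrix (Fin n) (Fin n) F₀) i₀ i₀ ≠ 0 := fun hz => by
        rw [hz, map_zero] at h4
        rw [← h4, zero_smul] at h2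
        have h6 : (R.1 : Matrix (Fin n) (Fin n) F₀).map j * ((R.1⁻¹ : GL (Fin n) F₀) : Matrix (Fin n) (Fin n) F₀).map j = 1 :=
          map_inv_mul j (Units.mul_inv R.1)
        rw [h2, Matrix.zero_mul] at h6
        have := congrFun (congrFun h6 i₀) i₀
        simp at this
      refine ⟨Units.mk0 _ h5, Matrix.ext fun i l => j.injective ?_⟩
      have h7 := congrFun (congrFun h2 i) l
      rw [Matrix.map_apply] at h7
      refine h7.trans ?_
      by_cases hil : i = l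
      · subst hil; simp [h4]
      · simp [hil]
    · rintro ⟨u, hu⟩
      refine ⟨ρf R * j u, ?_⟩
      have h2 : (R.1 : Matrix (Fin n) (Fin n) F₀).map j = j u • 1 := by
        rw [hu]
        ext i l
        by_cases hil : i = l
        · subst hil; simp
        · simp [hil]
      have h3 := congrArg (· * K') hk
      simp only [Matrix.mul_assoc, hKK, Matrix.mul_one, h2, Matrix.mul_smul, Matrix.smul_mul, smul_smul,
        Matrix.one_mul] at h3
      exact h3
  exact ⟨((QuotientGroup.quotientMulEquivOfEq hker.symm).trans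
    ((QuotientGroup.quotientKerEquivRange θ).trans (MulEquiv.subgroupCongr hrange))).symm⟩

include hKK in
theorem det_rel {R : GL (Fin n) F₀} {k : GUg n F q} {ρ : F} (h : Rel hF j K B R k ρ) :
    ((detN hF k).1 : F) = ρ ^ n * j (R : Matrix (Fin n) (Fin n) F₀).det := by
  have hK : K.det ≠ 0 := left_ne_zero_of_mul_eq_one (by rw [← Matrix.det_mul, hKK, Matrix.det_one])
  have h1 := congrArg Matrix.det h.2.1
  rw [Matrix.det_mul, Matrix.det_smul, Fintype.card_fin, Matrix.det_mul] at h1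
  refine mul_right_cancel₀ hK ?_
  rw [detN_coe, h1, RingHom.map_det, RingHom.mapMatrix_apply]
  ring

end CfsgLib.AutPSU
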