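import Mathlib
import Cfsg.Agent.Lib.AutPSU.GraphCentral

/-!
Classes, centralisers and splitting of involutory graph automorphisms of `PSU_n(q)`.
-/

set_option autoImplicit false
set_option maxHeartbeats 800000

namespace CfsgLib.AutPSU

open Matrix Cfsg
open CfsgLib.Classical.Herm CfsgLib.Classical.Herm.HermSpace
open CfsgLib.AutPSL (Congr simGroup mem_simGroup det_sq_of_mem halfScalar halfScalar_mul_J det_halfScalar
  simGroup_J_decomp spToGL spToGL_coe graphAut graphAut_normal_form isGraphAutClassPSL_iff orderOf_graphAut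
  index_sup_cyclic)

variable {n : ℕ} {F : Type*} [Field F] [Fintype F] {q : ℕ}
variable (hF : Fintype.card F = q ^ 2) (hn : 3 ≤ n) (hs : ¬ (n = 3 ∧ q = 2))
variable {F₀ : Type*} [Field F₀] [Fintype F₀] (j : F₀ →+* F) (hj : ∀ a, qPow hF (j a) = j a)
  (hj' : ∀ x, qPow hF x = x → ∃ a, j a = x)

include hn hj' hs in
theorem exists_model_of_graph {γ : MulAut (Cfsg.PSU n F q)} (hγ : Cfsg.IsGraphAutClassPSU γ) (h2 : orderOf γ = 2) :
    ∃ (g : GUg n F q) (B : GL (Fin n) F₀), γ = graphU hF g ∧ Model hF j g (B : Matrix (Fin n) (Fin n) F₀) ∧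
      ((B : Matrix (Fin n) (Fin n) F₀)ᵀ = (B : Matrix (Fin n) (Fin n) F₀) ∨
        (B : Matrix (Fin n) (Fin n) F₀)ᵀ = -(B : Matrix (Fin n) (Fin n) F₀)) := by
  obtain ⟨g, c, rfl, hc2, hcq, hg⟩ := graph_normal_form hF hn hs hγ h2
  obtain ⟨B, hM, hB⟩ := exists_model hF hn j hj' hc2 hcq hg
  exact ⟨g, B, rfl, hM, hB⟩

include hn hs hj hj' in
theorem conj_iff {g g' : GUg n F q} {B B' : GL (Fin n) F₀} (h : Model hF j g (B : Matrix (Fin n) (Fin n) F₀))
    (h' : Model hF j g' (B' : Matrix (Fin n) (Fin n) F₀)) :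
    Cfsg.IsConjUnder (Cfsg.inndiagPSU n F q) (graphU hF g) (graphU hF g') ↔
      Cfsg.IsConjUnder (Cfsg.inndiagPSL n F₀) (graphAut B) (graphAut B') := by
  rw [CfsgLib.AutPSL.isConjUnder_graphAut (by omega)]
  constructor
  · exact congr_of_conj hF hn hs j hj hj' h h'
  · rintro ⟨c, hc, hcg⟩
    exact conj_of_congr hF hn hs j hj h h' hc hcg

include hn hs hj hj' in
theorem central_iso {g : GUg n F q} {B : GL (Fin n) F₀} (h : Model hF j g (B : Matrix (Fin n) (Fin n) F₀)) :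
    Nonempty (↥(Cfsg.inndiagPSU n F q ⊓ Subgroup.centralizer ({graphU hF g} : Set (MulAut (Cfsg.PSU n F q)))) ≃*
      ↥(Cfsg.inndiagPSL n F₀ ⊓ Subgroup.centralizer {graphAut B})) := by
  obtain ⟨K, K', s, t, hKK, hKK', hs0, ht0, hgK, hM⟩ := h
  obtain ⟨e₁⟩ := centralizer_graphU_equiv hF hn hs j hj hj' hKK hKK' hs0 ht0 hgK hM
  obtain ⟨e₂⟩ := CfsgLib.AutPSL.centralizer_graphAut_equiv (n := n) (by omega) B
  exact ⟨e₁.trans e₂.symm⟩

include hn hs hj in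
theorem exists_graphU_of_psl {γ : MulAut (CfsgLib.AutPSL.PSLg n F₀)} (hγ : Cfsg.IsGraphAutClassPSL γ)
    (h2 : orderOf γ = 2) :
    ∃ (g : GUg n F q) (B : GL (Fin n) F₀), γ = graphAut B ∧ Model hF j g (B : Matrix (Fin n) (Fin n) F₀) ∧
      Cfsg.IsGraphAutClassPSU (graphU hF g) ∧ orderOf (graphU hF g) = 2 := by
  obtain ⟨B, rfl, hB⟩ := graphAut_normal_form hn hγ h2
  obtain ⟨g, hg⟩ := exists_of_model hF hn hs j hj B hB
  exact ⟨g, B, rfl, hg⟩

include hF in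
/-- S2706. -/
theorem graph_odd_dim (hn : 3 ≤ n) (hs : ¬ (n = 3 ∧ q = 2)) {m : ℕ} (hnm : n = 2 * m + 1)
    (hF₀ : Fintype.card F₀ = q) {γ γ' : MulAut (Cfsg.PSU n F q)} (hγ : Cfsg.IsGraphAutClassPSU γ)
    (hγ2 : orderOf γ = 2) (hγ' : Cfsg.IsGraphAutClassPSU γ') (hγ'2 : orderOf γ' = 2) :
    Nonempty (↥(Cfsg.inndiagPSU n F q ⊓ Subgroup.centralizer {γ}) ≃* Cfsg.PGO F₀ (Cfsg.quadFormOdd m F₀)) ∧
      Cfsg.IsConjUnder (Cfsg.inndiagPSU n F q) γ γ' := by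
  obtain ⟨j, hj, hj'⟩ := exists_embedding hF hF₀
  obtain ⟨g, B, rfl, hM, hB⟩ := exists_model_of_graph hF hn hs j hj' hγ hγ2
  obtain ⟨g', B', rfl, hM', hB'⟩ := exists_model_of_graph hF hn hs j hj' hγ' hγ'2
  obtain ⟨⟨e₁⟩, hconj⟩ := CfsgLib.AutPSL.graph_odd_dim hn hnm (isGraphAutClassPSL_iff.mpr ⟨hn, B, rfl⟩)
    (orderOf_graphAut hn hB) (isGraphAutClassPSL_iff.mpr ⟨hn, B', rfl⟩) (orderOf_graphAut hn hB')
  obtain ⟨e₂⟩ := central_iso hF hn hs j hj hj' hM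
  exact ⟨⟨e₂.trans e₁⟩, (conj_iff hF hn hs j hj hj' hM hM').mpr hconj⟩

include hF in
/-- S2707. -/
theorem graph_even_dim_odd_char (hodd : Odd q) {m : ℕ} (hm : 2 ≤ m) (hnm : n = 2 * m)
    (hF₀ : Fintype.card F₀ = q) :
    ∃ (γ₁ γ₂ γ₃ : MulAut (Cfsg.PSU n F q)) (a b : F₀),
      (∀ z₁ z₂ : F₀, z₁ ^ 2 + a * z₁ * z₂ + b * z₂ ^ 2 = 0 → z₁ = 0 ∧ z₂ = 0) ∧
      Cfsg.IsGraphAutClassPSU γ₁ ∧ orderOf γ₁ = 2 ∧ Cfsg.IsGraphAutClassPSU γ₂ ∧ orderOf γ₂ = 2 ∧
      Cfsg.IsGraphAutClassPSU γ₃ ∧ orderOf γ₃ = 2 ∧ ¬ Cfsg.IsConjUnder (Cfsg.inndiagPSU n F q) γ₁ γ₂ ∧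
      ¬ Cfsg.IsConjUnder (Cfsg.inndiagPSU n F q) γ₁ γ₃ ∧ ¬ Cfsg.IsConjUnder (Cfsg.inndiagPSU n F q) γ₂ γ₃ ∧
      (∀ γ : MulAut (Cfsg.PSU n F q), Cfsg.IsGraphAutClassPSU γ → orderOf γ = 2 →
        Cfsg.IsConjUnder (Cfsg.inndiagPSU n F q) γ₁ γ ∨ Cfsg.IsConjUnder (Cfsg.inndiagPSU n F q) γ₂ γ ∨
          Cfsg.IsConjUnder (Cfsg.inndiagPSU n F q) γ₃ γ) ∧
      Nonempty (↥(Cfsg.inndiagPSU n F q ⊓ Subgroup.centralizer {γ₁}) ≃* Cfsg.PGSp m F₀) ∧
      Nonempty (↥(Cfsg.inndiagPSU n F q ⊓ Subgroup.centralizer {γ₂}) ≃* Cfsg.PGO F₀ (Cfsg.quadFormPlus m F₀)) ∧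
      Nonempty (↥(Cfsg.inndiagPSU n F q ⊓ Subgroup.centralizer {γ₃}) ≃*
        Cfsg.PGO F₀ (Cfsg.quadFormMinus (m - 1) F₀ a b)) := by
  obtain ⟨j, hj, hj'⟩ := exists_embedding hF hF₀
  have hn : 3 ≤ n := by omega
  have hs : ¬ (n = 3 ∧ q = 2) := by omega
  obtain ⟨γ₁, γ₂, γ₃, a, b, hab, h1, h1', h2, h2', h3, h3', n12, n13, n23, hall, ⟨e₁⟩, ⟨e₂⟩, ⟨e₃⟩⟩ :=
    CfsgLib.AutPSL.graph_even_dim_odd_char (F := F₀) (n := n) (by rw [hF₀]; exact hodd) hm hnm
  obtain ⟨g₁, B₁, rfl, M₁, G₁, O₁⟩ := exists_graphU_of_psl hF hn hs j hj h1 h1'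
  obtain ⟨g₂, B₂, rfl, M₂, G₂, O₂⟩ := exists_graphU_of_psl hF hn hs j hj h2 h2'
  obtain ⟨g₃, B₃, rfl, M₃, G₃, O₃⟩ := exists_graphU_of_psl hF hn hs j hj h3 h3'
  obtain ⟨f₁⟩ := central_iso hF hn hs j hj hj' M₁
  obtain ⟨f₂⟩ := central_iso hF hn hs j hj hj' M₂
  obtain ⟨f₃⟩ := central_iso hF hn hs j hj hj' M₃
  refine ⟨graphU hF g₁, graphU hF g₂, graphU hF g₃, a, b, hab, G₁, O₁, G₂, O₂, G₃, O₃,
    fun h => n12 ((conj_iff hF hn hs j hj hj' M₁ M₂).mp h), fun h => n13 ((conj_iff hF hn hs j hj hj' M₁ M₃).mp h),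
    fun h => n23 ((conj_iff hF hn hs j hj hj' M₂ M₃).mp h), ?_, ⟨f₁.trans e₁⟩, ⟨f₂.trans e₂⟩, ⟨f₃.trans e₃⟩⟩
  intro γ hγ hγ2
  obtain ⟨g, B, rfl, hM, hB⟩ := exists_model_of_graph hF hn hs j hj' hγ hγ2
  exact (hall _ (isGraphAutClassPSL_iff.mpr ⟨hn, B, rfl⟩) (orderOf_graphAut hn hB)).imp
    (conj_iff hF hn hs j hj hj' M₁ hM).mpr
    (Or.imp (conj_iff hF hn hs j hj hj' M₂ hM).mpr (conj_iff hF hn hs j hj hj' M₃ hM).mpr)

include hF in
/-- S2708. -/
theorem graph_even_dim_even_char [CharP F 2] {m : ℕ} (hm : 2 ≤ m) (hnm : n = 2 * m) (hF₀ : Fintype.card F₀ = q) :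
    ∃ (γ₁ γ₃ : MulAut (Cfsg.PSU n F q)) (t : ↥(Matrix.symplecticGroup (Fin m) F₀)),
      Cfsg.IsTransvection (t : Matrix (Fin m ⊕ Fin m) (Fin m ⊕ Fin m) F₀) ∧
      Cfsg.IsGraphAutClassPSU γ₁ ∧ orderOf γ₁ = 2 ∧ Cfsg.IsGraphAutClassPSU γ₃ ∧ orderOf γ₃ = 2 ∧
      ¬ Cfsg.IsConjUnder (Cfsg.inndiagPSU n F q) γ₁ γ₃ ∧
      (∀ γ : MulAut (Cfsg.PSU n F q), Cfsg.IsGraphAutClassPSU γ → orderOf γ = 2 →
        Cfsg.IsConjUnder (Cfsg.inndiagPSU n F q) γ₁ γ ∨ Cfsg.IsConjUnder (Cfsg.inndiagPSU n F q) γ₃ γ) ∧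
      Nonempty (↥(Cfsg.inndiagPSU n F q ⊓ Subgroup.centralizer {γ₁}) ≃* ↥(Matrix.symplecticGroup (Fin m) F₀)) ∧
      Nonempty (↥(Cfsg.inndiagPSU n F q ⊓ Subgroup.centralizer {γ₃}) ≃*
        ↥(Subgroup.centralizer ({t} : Set ↥(Matrix.symplecticGroup (Fin m) F₀)))) := by
  obtain ⟨j, hj, hj'⟩ := exists_embedding hF hF₀
  have : CharP F₀ 2 := (j.charP_iff j.injective 2).mpr inferInstance
  have hn : 3 ≤ n := by omega
  have hs : ¬ (n = 3 ∧ q = 2) := by omega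
  obtain ⟨γ₁, γ₃, t, ht, h1, h1', h3, h3', n13, hall, ⟨e₁⟩, ⟨e₃⟩⟩ :=
    CfsgLib.AutPSL.graph_even_dim_even_char (F := F₀) (n := n) hm hnm
  obtain ⟨g₁, B₁, rfl, M₁, G₁, O₁⟩ := exists_graphU_of_psl hF hn hs j hj h1 h1'
  obtain ⟨g₃, B₃, rfl, M₃, G₃, O₃⟩ := exists_graphU_of_psl hF hn hs j hj h3 h3'
  obtain ⟨f₁⟩ := central_iso hF hn hs j hj hj' M₁
  obtain ⟨f₃⟩ := central_iso hF hn hs j hj hj' M₃
  refine ⟨graphU hF g₁, graphU hF g₃, t, ht, G₁, O₁, G₃, O₃,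
    fun h => n13 ((conj_iff hF hn hs j hj hj' M₁ M₃).mp h), ?_, ⟨f₁.trans e₁⟩, ⟨f₃.trans e₃⟩⟩
  intro γ hγ hγ2
  obtain ⟨g, B, rfl, hM, hB⟩ := exists_model_of_graph hF hn hs j hj' hγ hγ2
  exact (hall _ (isGraphAutClassPSL_iff.mpr ⟨hn, B, rfl⟩) (orderOf_graphAut hn hB)).imp
    (conj_iff hF hn hs j hj hj' M₁ hM).mpr (conj_iff hF hn hs j hj hj' M₃ hM).mpr

include hF in
/-- S2710. -/
theorem qpow_centralizer (hodd : Odd q) {m : ℕ} (hm : 2 ≤ m) (hnm : n = 2 * m) (h4 : 4 ∣ n)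
    (hF₀ : Fintype.card F₀ = q) {σ : F ≃+* F} (hσ : ∀ a : F, σ a = a ^ q) {φ : MulAut (Cfsg.PSU n F q)}
    (hφ : Cfsg.IsFieldAutPSUOf σ φ) :
    Nonempty (↥(Cfsg.inndiagPSU n F q ⊓ Subgroup.centralizer {φ}) ≃* Cfsg.PGO F₀ (Cfsg.quadFormPlus m F₀)) := by
  obtain ⟨j, hj, hj'⟩ := exists_embedding hF hF₀
  have hn : 3 ≤ n := by omega
  have hs : ¬ (n = 3 ∧ q = 2) := by omega
  have hσq : σ = qEquiv hF := RingEquiv.ext hσ
  rw [isFieldAutPSUOf_iff] at hφ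
  have hφ' : φ = graphU hF 1 := by rw [hφ, hσq, graphU, map_one, one_mul]
  have hM : Model hF j (1 : GUg n F q) ((1 : GL (Fin n) F₀) : Matrix (Fin n) (Fin n) F₀) := by
    refine ⟨1, 1, 1, 1, one_mul 1, one_mul 1, one_ne_zero, one_ne_zero, ?_, ?_⟩
    · rw [cj_one, uMat_one, one_mul, one_smul]
    · rw [cj_one, Units.val_one, Matrix.map_one _ (map_zero _) (map_one _), Matrix.transpose_one, one_mul, one_smul]
  obtain ⟨e₁⟩ := central_iso hF hn hs j hj hj' hM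
  have hev : Even (n * (Fintype.card F₀ - 1) / 4) := by
    obtain ⟨k, rfl⟩ := h4
    rw [mul_assoc, Nat.mul_div_cancel_left _ (by norm_num), hF₀]
    exact (hodd.tsub_odd odd_one).mul_left k
  obtain ⟨e₂⟩ := (CfsgLib.AutPSL.inverse_transpose_class (F := F₀) (n := n) (ι := graphAut 1) (by rw [hF₀]; exact hodd)
    hm hnm (CfsgLib.AutPSL.isInverseTransposeAutPSL_iff.mpr (by rw [graphAut, map_one, one_mul]))).1 hev
  rw [hφ']
  exact ⟨e₁.trans e₂⟩

/-! ### Splitting -/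

include hn hs in
theorem splitClassCount_graphU {g : GUg n F q} :
    Cfsg.splitClassCount (Cfsg.inndiagPSU n F q) (Cfsg.Inn (Cfsg.PSU n F q)) (graphU hF g) =
      ((((Subgroup.centralizer ({graphU hF g} : Set (MulAut (Cfsg.PSU n F q)))).comap simAut).map (detN hF)) ⊔
        (powMonoidHom n : ↥(NormOne F q) →* ↥(NormOne F q)).range).index := by
  rw [CfsgLib.AutPSL.splitClassCount_eq_relIndex _ _ (by rw [inndiagPSU_eq]; exact inn_le)
      (fun h _ k hk => CfsgLib.AutPSp.inn_conj h hk),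
    inndiagPSU_eq, ← Subgroup.map_comap_eq, relIndex_sup_inn hF hn hs]

omit [Fintype F₀] in
include hn hs hj hj' in
theorem mem_det_graphU {g : GUg n F q} {B : GL (Fin n) F₀} {K K' : Matrix (Fin n) (Fin n) F} {s t : F}
    (hKK : K * K' = 1) (hKK' : K' * K = 1) (hs0 : s ≠ 0) (ht0 : t ≠ 0) (hgK : uMat g * cj hF K = s • K)
    (hM : Kᵀ * cj hF K = t • (B : Matrix (Fin n) (Fin n) F₀).map j) {u : ↥(NormOne F q)} :
    u ∈ ((Subgroup.centralizer ({graphU hF g} : Set (MulAut (Cfsg.PSU n F q)))).comap simAut).map (detN hF) ↔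
      ∃ (R : GL (Fin n) F₀) (c : F₀) (ρ : F), c ≠ 0 ∧
        (R : Matrix (Fin n) (Fin n) F₀)ᵀ * B * R = c • (B : Matrix (Fin n) (Fin n) F₀) ∧
        ρ * qPow hF ρ * j c = 1 ∧ (u.1 : F) = ρ ^ n * j (R : Matrix (Fin n) (Fin n) F₀).det := by
  constructor
  · rintro ⟨k, hk, rfl⟩
    obtain ⟨R, ρ, -, hrel⟩ := exists_rel_of_mem hF hn hs j hj hj' hKK hKK' hs0 ht0 hgK hM hk
    obtain ⟨c, hR, hc⟩ := hrel.2.2
    refine ⟨R, c, ρ, fun hz => ?_, hR, hc, det_rel hF j hKK hrel⟩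
    rw [hz, map_zero, mul_zero] at hc
    exact zero_ne_one hc
  · rintro ⟨R, c, ρ, hc0, hR, hρ, hu⟩
    obtain ⟨k₀, ρ₀, hrel⟩ := exists_rel hF hn j hj hKK ht0 hM hc0 hR
    obtain ⟨c', hR', hρ'⟩ := hrel.2.2
    have hcc : c' = c := by
      have h1 := hR'.symm.trans hR
      have hB : (B : Matrix (Fin n) (Fin n) F₀) ≠ 0 := fun hz => by
        have h2 := (Units.mul_inv B : (B : Matrix (Fin n) (Fin n) F₀) * _ = 1)
        rw [hz, Matrix.zero_mul] at h2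
        have := congrFun (congrFun h2 ⟨0, by omega⟩) ⟨0, by omega⟩
        simp at this
      exact smul_left_injective F₀ hB h1
    rw [hcc] at hρ'
    have hρ0 := hrel.1
    have hcρ : ρ / ρ₀ * qPow hF (ρ / ρ₀) = 1 := by
      have hq0 : qPow hF ρ₀ ≠ 0 := (map_ne_zero (qPow hF)).mpr hρ0
      have hjc : j c ≠ 0 := (map_ne_zero j).mpr hc0
      rw [map_div₀, div_mul_div_comm, div_eq_one_iff_eq (mul_ne_zero hρ0 hq0)]
      exact mul_right_cancel₀ hjc (hρ.trans hρ'.symm)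
    let w : ↥(NormOne F q) := ⟨Units.mk0 (ρ / ρ₀) (left_ne_zero_of_mul_eq_one hcρ), Units.ext (by
      rw [powMonoidHom_apply, Units.val_pow_eq_pow_val, Units.val_mk0, Units.val_one, pow_succ']
      exact hcρ)⟩
    refine ⟨scalarGU w * k₀, ?_, ?_⟩
    · show simAut (scalarGU w * k₀) ∈ Subgroup.centralizer ({graphU hF g} : Set (MulAut (Cfsg.PSU n F q)))
      rw [map_mul, simAut_scalarGU hF hn hs, one_mul]
      exact rel_mem hF hn hs j hj hKK hKK' hs0 hgK hrel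
    · refine Subtype.ext (Units.ext ?_)
      rw [map_mul, detN_scalarGU]
      show ((w ^ n : ↥(NormOne F q)).1 : F) * ((detN hF k₀).1 : F) = _
      rw [det_rel hF j hKK hrel, hu, SubmonoidClass.coe_pow, Units.val_pow_eq_pow_val]
      show (ρ / ρ₀) ^ n * _ = _
      rw [div_pow, ← mul_assoc, div_mul_cancel₀ _ (pow_ne_zero _ hρ0)]

/-- `-1` as a norm-one unit. -/
def negOne (hF : Fintype.card F = q ^ 2) : ↥(NormOne F q) :=
  ⟨-1, Units.ext (by
    rw [powMonoidHom_apply, Units.val_pow_eq_pow_val, Units.val_neg, Units.val_one, pow_succ']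
    show (-1 : F) * qPow hF (-1) = 1
    rw [map_neg, map_one, neg_mul_neg, one_mul])⟩

theorem negOne_coe (hF : Fintype.card F = q ^ 2) : ((negOne hF).1 : F) = -1 := by
  rw [negOne, Units.val_neg, Units.val_one]

theorem index_negOne (hodd : Odd q) : (Subgroup.zpowers (negOne hF)).index * 2 = q + 1 := by
  have h2 : (2 : F) ≠ 0 := CfsgLib.FormsDisc.two_ne_zero_of_card_odd rfl (by rw [hF]; exact hodd.pow)
  have h1 : orderOf (negOne hF) = 2 := by
    refine orderOf_eq_prime (Subtype.ext (Units.ext ?_)) fun h => h2 ?_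
    · rw [SubmonoidClass.coe_pow, Units.val_pow_eq_pow_val, negOne_coe, neg_one_sq]; rfl
    · have := congrArg (fun u : ↥(NormOne F q) => (u.1 : F)) h
      simp only [negOne_coe] at this
      have h3 : (-1 : F) = 1 := this
      linear_combination -h3
  have h := Subgroup.card_mul_index (Subgroup.zpowers (negOne hF))
  rw [Nat.card_zpowers, h1, show Nat.card ↥(NormOne F q) = q + 1 from card_normOne_units hF] at h
  rw [mul_comm]; exact h

omit [Fintype F] in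
theorem pow_even_split {m : ℕ} (hnm : n = 2 * m) {ρ w : F} (hρ0 : ρ ≠ 0) {c : F} (hc : ρ * w * c = 1) :
    ρ ^ n * c ^ m = (ρ / w) ^ m := by
  have hw : w ≠ 0 := fun h => by rw [h, mul_zero, zero_mul] at hc; exact zero_ne_one hc
  have : ρ ^ 2 * c = ρ / w := by
    rw [eq_div_iff hw]; linear_combination ρ * hc
  rw [hnm, pow_mul, ← mul_pow, this]

theorem div_conj_mem {ρ : F} (hρ0 : ρ ≠ 0) :
    ∃ v : ↥(NormOne F q), (v.1 : F) = ρ / qPow hF ρ := by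
  have hq0 : qPow hF ρ ≠ 0 := (map_ne_zero (qPow hF)).mpr hρ0
  refine ⟨⟨Units.mk0 (ρ / qPow hF ρ) (div_ne_zero hρ0 hq0), Units.ext ?_⟩, rfl⟩
  rw [powMonoidHom_apply, Units.val_pow_eq_pow_val, Units.val_mk0, Units.val_one, pow_succ']
  show ρ / qPow hF ρ * qPow hF (ρ / qPow hF ρ) = 1
  rw [map_div₀, qPow_qPow]
  field_simp

include hn hs hj hj' in
theorem split_symplectic {m : ℕ} (hm : 1 ≤ m) (hnm : n = 2 * m) {g : GUg n F q} {B : GL (Fin n) F₀}
    (h : Model hF j g (B : Matrix (Fin n) (Fin n) F₀))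
    (hB : Congr (B : Matrix (Fin n) (Fin n) F₀) ((1 : F₀) • Matrix.J (Fin m) F₀)) :
    Cfsg.splitClassCount (Cfsg.inndiagPSU n F q) (Cfsg.Inn (Cfsg.PSU n F q)) (graphU hF g) = Nat.gcd m (q + 1) := by
  obtain ⟨K, K', s, t, hKK, hKK', hs0, ht0, hgK, hM⟩ := h
  rw [one_smul] at hB
  obtain ⟨H, H', hH1, hH2, hH⟩ := hB
  let e : (Fin m ⊕ Fin m) ≃ Fin n := Fintype.equivOfCardEq (by simp; omega)
  let E := CfsgLib.AutPSL.conjEquiv H H' hH1 hH2
  have hsim : (simGroup (B : Matrix (Fin n) (Fin n) F₀)).map E.toMonoidHom = simGroup (Matrix.J (Fin m) F₀) :=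
    CfsgLib.AutPSL.map_simGroup H H' hH1 hH2 hH
  have hmult : ∀ (R : GL (Fin n) F₀) (c : F₀),
      (R : Matrix (Fin n) (Fin n) F₀)ᵀ * B * R = c • (B : Matrix (Fin n) (Fin n) F₀) →
      ((E R : GL (Fin m ⊕ Fin m) F₀) : Matrix (Fin m ⊕ Fin m) (Fin m ⊕ Fin m) F₀)ᵀ * Matrix.J (Fin m) F₀ *
        ((E R : GL (Fin m ⊕ Fin m) F₀) : Matrix (Fin m ⊕ Fin m) (Fin m ⊕ Fin m) F₀) = c • Matrix.J (Fin m) F₀ := by
    intro R c hc
    rw [show ((E R : GL (Fin m ⊕ Fin m) F₀) : Matrix (Fin m ⊕ Fin m) (Fin m ⊕ Fin m) F₀) = H' * R.1 * H from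
      CfsgLib.AutPSL.conjEquiv_coe H H' hH1 hH2 R, ← hH]
    calc (H' * R.1 * H)ᵀ * (Hᵀ * B.1 * H) * (H' * R.1 * H) = Hᵀ * R.1ᵀ * (H * H')ᵀ * B.1 * (H * H') * R.1 * H := by
          simp only [Matrix.transpose_mul, Matrix.mul_assoc]
      _ = Hᵀ * (R.1ᵀ * B.1 * R.1) * H := by
          rw [hH1, Matrix.transpose_one, Matrix.mul_one, Matrix.mul_one]; simp only [Matrix.mul_assoc]
      _ = _ := by rw [hc, Matrix.mul_smul, Matrix.smul_mul]
  have hdet : ∀ R : GL (Fin n) F₀, ((E R : GL (Fin m ⊕ Fin m) F₀) : Matrix (Fin m ⊕ Fin m) (Fin m ⊕ Fin m) F₀).det =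
      (R : Matrix (Fin n) (Fin n) F₀).det := fun R =>
    congrArg Units.val (CfsgLib.AutPSL.conjEquiv_det H H' hH1 hH2 R e)
  have hD : ((Subgroup.centralizer ({graphU hF g} : Set (MulAut (Cfsg.PSU n F q)))).comap simAut).map (detN hF) ⊔
      (powMonoidHom n : ↥(NormOne F q) →* ↥(NormOne F q)).range =
        (powMonoidHom m : ↥(NormOne F q) →* ↥(NormOne F q)).range := by
    refine le_antisymm (sup_le ?_ ?_) ?_
    · intro u hu
      obtain ⟨R, c, ρ, hc0, hR, hρ, hu⟩ := (mem_det_graphU hF hn hs j hj hj' hKK hKK' hs0 ht0 hgK hM).mp hu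
      have hρ0 : ρ ≠ 0 := fun hz => by rw [hz, zero_mul, zero_mul] at hρ; exact zero_ne_one hρ
      have hRd : (R : Matrix (Fin n) (Fin n) F₀).det = c ^ m := by
        have hR' := hmult R c hR
        obtain ⟨d, A, hdA⟩ := simGroup_J_decomp m (g := E R) ⟨Units.mk0 c hc0, hR'⟩
        have hd : (d : F₀) = c := by
          rw [hdA, Units.val_mul, spToGL_coe, Matrix.transpose_mul] at hR'
          have h3 : (d : F₀) • Matrix.J (Fin m) F₀ = c • Matrix.J (Fin m) F₀ := by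
            rw [← hR']
            calc (d : F₀) • Matrix.J (Fin m) F₀ = A.1ᵀ * ((d : F₀) • Matrix.J (Fin m) F₀) * A.1 := by
                  rw [Matrix.mul_smul, Matrix.smul_mul, SymplecticGroup.mem_iff'.mp A.2]
              _ = _ := by rw [← halfScalar_mul_J]; simp only [Matrix.mul_assoc]
          have h4 := congrFun (congrFun h3 (Sum.inr ⟨0, by omega⟩)) (Sum.inl ⟨0, by omega⟩)
          simpa [Matrix.J] using h4
        rw [← hdet, hdA, Units.val_mul, Matrix.det_mul, spToGL_coe, SymplecticGroup.det_eq_one A.2, mul_one,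
          ← Matrix.GeneralLinearGroup.val_det_apply, det_halfScalar, Units.val_pow_eq_pow_val, hd]
      obtain ⟨v, hv⟩ := div_conj_mem hF hρ0
      refine ⟨v, Subtype.ext (Units.ext ?_)⟩
      rw [powMonoidHom_apply, SubmonoidClass.coe_pow, Units.val_pow_eq_pow_val, hv, hu, hRd, map_pow,
        pow_even_split hnm hρ0 hρ]
    · rintro _ ⟨u, rfl⟩
      exact ⟨u ^ 2, by rw [powMonoidHom_apply, powMonoidHom_apply, ← pow_mul, hnm]⟩
    · rintro _ ⟨v, rfl⟩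
      obtain ⟨ρ, hρ0, hρ⟩ := exists_div_conj hF v
      have hq0 : qPow hF ρ ≠ 0 := (map_ne_zero (qPow hF)).mpr hρ0
      obtain ⟨c, hc⟩ := hj' (ρ * qPow hF ρ)⁻¹ (by rw [map_inv₀, map_mul, qPow_qPow, mul_comm])
      have hc0 : c ≠ 0 := fun hz => inv_ne_zero (mul_ne_zero hρ0 hq0) (by rw [← hc, hz, map_zero])
      have hmem : halfScalar m (Units.mk0 c hc0) ∈ simGroup (Matrix.J (Fin m) F₀) := ⟨_, halfScalar_mul_J m _⟩
      rw [← hsim] at hmem
      obtain ⟨R, ⟨c', hR⟩, hER⟩ := hmem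
      have hc' : (c' : F₀) = c := by
        have h1 := hmult R c' hR
        rw [show E R = halfScalar m (Units.mk0 c hc0) from hER, halfScalar_mul_J] at h1
        have h4 := congrFun (congrFun h1 (Sum.inr ⟨0, by omega⟩)) (Sum.inl ⟨0, by omega⟩)
        simpa [Matrix.J] using h4.symm
      refine Subgroup.mem_sup_left ((mem_det_graphU hF hn hs j hj hj' hKK hKK' hs0 ht0 hgK hM).mpr
        ⟨R, c, ρ, hc0, hc' ▸ hR, by rw [hc, mul_inv_cancel₀ (mul_ne_zero hρ0 hq0)], ?_⟩)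
      rw [powMonoidHom_apply, SubmonoidClass.coe_pow, Units.val_pow_eq_pow_val, ← hdet R,
        show E R = halfScalar m (Units.mk0 c hc0) from hER, ← Matrix.GeneralLinearGroup.val_det_apply, det_halfScalar,
        Units.val_pow_eq_pow_val, Units.val_mk0, map_pow,
        pow_even_split hnm hρ0 (c := j c) (by rw [hc, mul_inv_cancel₀ (mul_ne_zero hρ0 hq0)]), eq_div_iff hq0 |>.mpr hρ]
  rw [splitClassCount_graphU hF hn hs, hD, IsCyclic.index_powMonoidHom_range,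
    show Nat.card ↥(NormOne F q) = q + 1 from card_normOne_units hF, Nat.gcd_comm]

include hn hs hj hj' in
theorem split_symmetric (hodd : Odd q) (h2 : (2 : F₀) ≠ 0) {m : ℕ} (hnm : n = 2 * m) {g : GUg n F q}
    {B : GL (Fin n) F₀} (h : Model hF j g (B : Matrix (Fin n) (Fin n) F₀))
    (hB : (B : Matrix (Fin n) (Fin n) F₀)ᵀ = (B : Matrix (Fin n) (Fin n) F₀)) :
    Cfsg.splitClassCount (Cfsg.inndiagPSU n F q) (Cfsg.Inn (Cfsg.PSU n F q)) (graphU hF g) =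
      Nat.gcd n (q + 1) / 2 := by
  obtain ⟨K, K', s, t, hKK, hKK', hs0, ht0, hgK, hM⟩ := h
  have hd := Matrix.GeneralLinearGroup.det_ne_zero B
  have hpm : ∀ (R : GL (Fin n) F₀) (c : F₀), c ≠ 0 →
      (R : Matrix (Fin n) (Fin n) F₀)ᵀ * B * R = c • (B : Matrix (Fin n) (Fin n) F₀) →
      (R : Matrix (Fin n) (Fin n) F₀).det = c ^ m ∨ (R : Matrix (Fin n) (Fin n) F₀).det = -(c ^ m) := by
    intro R c hc0 hc
    have h := congrArg Units.val (det_sq_of_mem hd (c := Units.mk0 c hc0) hc)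
    rw [Fintype.card_fin, Units.val_pow_eq_pow_val, Units.val_pow_eq_pow_val, Units.val_mk0,
      Matrix.GeneralLinearGroup.val_det_apply, show c ^ n = (c ^ m) ^ 2 by rw [← pow_mul]; congr 1; omega] at h
    exact sq_eq_sq_iff_eq_or_eq_neg.mp h
  have hneg : negOne hF ∈ ((Subgroup.centralizer ({graphU hF g} : Set (MulAut (Cfsg.PSU n F q)))).comap simAut).map (detN hF) := by
    let i₀ : Fin n := ⟨0, by omega⟩
    let w : Fin n → F₀ := Function.update (fun _ => 1) i₀ (B : Matrix (Fin n) (Fin n) F₀).det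
    have hw : (Matrix.diagonal w).det = (B : Matrix (Fin n) (Fin n) F₀).det := by
      rw [Matrix.det_diagonal, Finset.prod_eq_single i₀]
      · simp [w]
      · intro b _ hb; simp [w, hb]
      · simp
    obtain ⟨H, H', hH1, hH2, hH⟩ : Congr (B : Matrix (Fin n) (Fin n) F₀) (Matrix.diagonal w) :=
      CfsgLib.AutPSL.congr_symmetric h2 rfl hB (Matrix.diagonal_transpose w) hd (by rw [hw]; exact hd)
        (by rw [hw]; exact IsSquare.mul_self _)
    set D : Matrix (Fin n) (Fin n) F₀ := Matrix.diagonal (Function.update (fun _ => (1 : F₀)) i₀ (-1)) with hDdef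
    have hDd : D.det = -1 := by
      rw [hDdef, Matrix.det_diagonal, Finset.prod_eq_single i₀]
      · simp
      · intro b _ hb; simp [hb]
      · simp
    have hRdet : (H * D * H').det = -1 := by
      have h1 : H.det * H'.det = 1 := by rw [← Matrix.det_mul, hH1, Matrix.det_one]
      rw [Matrix.det_mul, Matrix.det_mul, hDd]
      linear_combination -h1
    have hDw : Dᵀ * Matrix.diagonal w * D = Matrix.diagonal w := by
      rw [hDdef, Matrix.diagonal_transpose, Matrix.diagonal_mul_diagonal, Matrix.diagonal_mul_diagonal]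
      congr 1
      funext i
      by_cases hi : i = i₀
      · subst hi; simp
      · simp [hi]
    have hB' : (B : Matrix (Fin n) (Fin n) F₀) = H'ᵀ * Matrix.diagonal w * H' := by
      rw [← hH]
      calc (B : Matrix (Fin n) (Fin n) F₀) = (H * H')ᵀ * B * (H * H') := by
            rw [hH1, Matrix.transpose_one, Matrix.one_mul, Matrix.mul_one]
        _ = _ := by simp only [Matrix.transpose_mul, Matrix.mul_assoc]
    refine (mem_det_graphU hF hn hs j hj hj' hKK hKK' hs0 ht0 hgK hM).mpr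
      ⟨Matrix.GeneralLinearGroup.mkOfDetNeZero (H * D * H') (by rw [hRdet]; exact neg_ne_zero.mpr one_ne_zero),
        1, 1, one_ne_zero, ?_, by rw [map_one, map_one, one_mul, one_mul], ?_⟩
    · show (H * D * H')ᵀ * (B : Matrix (Fin n) (Fin n) F₀) * (H * D * H') = (1 : F₀) • _
      rw [one_smul]
      calc (H * D * H')ᵀ * (B : Matrix (Fin n) (Fin n) F₀) * (H * D * H') =
          H'ᵀ * (Dᵀ * (Hᵀ * B * H) * D) * H' := by simp only [Matrix.transpose_mul, Matrix.mul_assoc]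
        _ = _ := by rw [hH, hDw, ← hB']
    · show _ = (1 : F) ^ n * j (H * D * H').det
      rw [hRdet, map_neg, map_one, one_pow, one_mul, negOne_coe]
  have hD : ((Subgroup.centralizer ({graphU hF g} : Set (MulAut (Cfsg.PSU n F q)))).comap simAut).map (detN hF) ⊔
      (powMonoidHom n : ↥(NormOne F q) →* ↥(NormOne F q)).range =
        (powMonoidHom m : ↥(NormOne F q) →* ↥(NormOne F q)).range ⊔ Subgroup.zpowers (negOne hF) := by
    refine le_antisymm (sup_le ?_ ?_) (sup_le ?_ ((Subgroup.zpowers_le).mpr (Subgroup.mem_sup_left hneg)))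
    · intro u hu
      obtain ⟨R, c, ρ, hc0, hR, hρ, hu⟩ := (mem_det_graphU hF hn hs j hj hj' hKK hKK' hs0 ht0 hgK hM).mp hu
      have hρ0 : ρ ≠ 0 := fun hz => by rw [hz, zero_mul, zero_mul] at hρ; exact zero_ne_one hρ
      obtain ⟨v, hv⟩ := div_conj_mem hF hρ0
      have hv' : ((v ^ m : ↥(NormOne F q)).1 : F) = ρ ^ n * j c ^ m := by
        rw [SubmonoidClass.coe_pow, Units.val_pow_eq_pow_val, hv, pow_even_split hnm hρ0 hρ]
      rcases hpm R c hc0 hR with hRd | hRd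
      · exact Subgroup.mem_sup_left ⟨v, Subtype.ext (Units.ext (by rw [powMonoidHom_apply, hv', hu, hRd, map_pow]))⟩
      · rw [show u = negOne hF * v ^ m from Subtype.ext (Units.ext (by
          rw [Subgroup.coe_mul, Units.val_mul, negOne_coe, hv', hu, hRd, map_neg, map_pow]; ring))]
        exact mul_mem (Subgroup.mem_sup_right (Subgroup.mem_zpowers _)) (Subgroup.mem_sup_left ⟨v, rfl⟩)
    · rintro _ ⟨u, rfl⟩
      exact Subgroup.mem_sup_left ⟨u ^ 2, by rw [powMonoidHom_apply, powMonoidHom_apply, ← pow_mul, hnm]⟩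
    · rintro _ ⟨v, rfl⟩
      obtain ⟨ρ, hρ0, hρ⟩ := exists_div_conj hF v
      have hq0 : qPow hF ρ ≠ 0 := (map_ne_zero (qPow hF)).mpr hρ0
      obtain ⟨c, hc⟩ := hj' (ρ * qPow hF ρ)⁻¹ (by rw [map_inv₀, map_mul, qPow_qPow, mul_comm])
      have hc0 : c ≠ 0 := fun hz => inv_ne_zero (mul_ne_zero hρ0 hq0) (by rw [← hc, hz, map_zero])
      have hρc : ρ * qPow hF ρ * j c = 1 := by rw [hc, mul_inv_cancel₀ (mul_ne_zero hρ0 hq0)]
      obtain ⟨H, H', h1, h2', h3⟩ : Congr (B : Matrix (Fin n) (Fin n) F₀) (c • (B : Matrix (Fin n) (Fin n) F₀)) := by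
        refine CfsgLib.AutPSL.congr_symmetric h2 rfl hB (by rw [Matrix.transpose_smul, hB]) hd ?_ ?_
        · rw [Matrix.det_smul]; exact mul_ne_zero (pow_ne_zero _ hc0) hd
        · rw [Matrix.det_smul, Fintype.card_fin, show c ^ n = (c ^ m) ^ 2 by rw [← pow_mul]; congr 1; omega]
          exact ⟨(B : Matrix (Fin n) (Fin n) F₀).det * c ^ m, by ring⟩
      let R : GL (Fin n) F₀ := ⟨H, H', h1, h2'⟩
      have hvm : ((v ^ m : ↥(NormOne F q)).1 : F) = ρ ^ n * j c ^ m := by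
        rw [SubmonoidClass.coe_pow, Units.val_pow_eq_pow_val, pow_even_split hnm hρ0 hρc, eq_div_iff hq0 |>.mpr hρ]
      rw [powMonoidHom_apply]
      rcases hpm R c hc0 h3 with hRd | hRd
      · exact Subgroup.mem_sup_left ((mem_det_graphU hF hn hs j hj hj' hKK hKK' hs0 ht0 hgK hM).mpr
          ⟨R, c, ρ, hc0, h3, hρc, by rw [hvm, hRd, map_pow]⟩)
      · have h4 : negOne hF * v ^ m ∈ ((Subgroup.centralizer ({graphU hF g} : Set (MulAut (Cfsg.PSU n F q)))).comap simAut).map (detN hF) :=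
          (mem_det_graphU hF hn hs j hj hj' hKK hKK' hs0 ht0 hgK hM).mpr
            ⟨R, c, ρ, hc0, h3, hρc, by rw [Subgroup.coe_mul, Units.val_mul, negOne_coe, hvm, hRd, map_neg, map_pow]; ring⟩
        have h5 := mul_mem hneg h4
        rw [← mul_assoc, show negOne hF * negOne hF = 1 from Subtype.ext (Units.ext (by
          rw [Subgroup.coe_mul, Units.val_mul, negOne_coe, neg_mul_neg, one_mul]; rfl)), one_mul] at h5
        exact Subgroup.mem_sup_left h5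
  have hidx := index_negOne hF hodd
  rw [splitClassCount_graphU hF hn hs, hD, index_sup_cyclic, IsCyclic.index_powMonoidHom_range,
    show Nat.card ↥(NormOne F q) = q + 1 from card_normOne_units hF, ← hidx, hnm, mul_comm 2 m]
  rw [Nat.gcd_mul_right, Nat.mul_div_cancel _ (by norm_num : 0 < 2), Nat.gcd_comm _ m, Nat.gcd_assoc,
    Nat.gcd_eq_right (dvd_mul_right _ 2)]

include hn hs hj hj' in
theorem split_other (h : Odd n ∨ (2 : F₀) = 0) {g : GUg n F q} {B : GL (Fin n) F₀}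
    (hM : Model hF j g (B : Matrix (Fin n) (Fin n) F₀)) :
    Cfsg.splitClassCount (Cfsg.inndiagPSU n F q) (Cfsg.Inn (Cfsg.PSU n F q)) (graphU hF g) =
      Nat.gcd n (q + 1) := by
  obtain ⟨K, K', s, t, hKK, hKK', hs0, ht0, hgK, hM⟩ := hM
  have hD : ((Subgroup.centralizer ({graphU hF g} : Set (MulAut (Cfsg.PSU n F q)))).comap simAut).map (detN hF) ⊔
      (powMonoidHom n : ↥(NormOne F q) →* ↥(NormOne F q)).range =
        (powMonoidHom n : ↥(NormOne F q) →* ↥(NormOne F q)).range := by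
    refine sup_eq_right.mpr fun u hu => ?_
    obtain ⟨R, c, ρ, hc0, hR, hρ, hu⟩ := (mem_det_graphU hF hn hs j hj hj' hKK hKK' hs0 ht0 hgK hM).mp hu
    have hsq := congrArg Units.val
      (det_sq_of_mem (Matrix.GeneralLinearGroup.det_ne_zero B) (c := Units.mk0 c hc0) hR)
    rw [Fintype.card_fin, Units.val_pow_eq_pow_val, Units.val_pow_eq_pow_val, Units.val_mk0,
      Matrix.GeneralLinearGroup.val_det_apply] at hsq
    obtain ⟨r, hr, hd⟩ : ∃ r : F₀, c = r ^ 2 ∧ (R : Matrix (Fin n) (Fin n) F₀).det = r ^ n := by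
      rcases h with ⟨k, hk⟩ | h2
      · set d := (R : Matrix (Fin n) (Fin n) F₀).det with hdd
        set r := d / c ^ k with hr
        have hr2 : c = r ^ 2 := by
          rw [hr, div_pow, hsq, hk, eq_div_iff (pow_ne_zero _ (pow_ne_zero _ hc0))]
          ring
        refine ⟨r, hr2, ?_⟩
        rw [hk, pow_succ, pow_mul, ← hr2, hr, mul_comm, div_mul_cancel₀ _ (pow_ne_zero _ hc0)]
      · have : CharP F₀ 2 := CharTwo.of_one_ne_zero_of_two_eq_zero one_ne_zero h2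
        obtain ⟨r, hr⟩ := FiniteField.isSquare_of_char_two (ringChar.eq F₀ 2) c
        refine ⟨r, by rw [hr, pow_two], CharTwo.sq_inj.mp ?_⟩
        rw [hsq, hr, ← pow_two, ← pow_mul, ← pow_mul, mul_comm]
    have hN : ρ * j r * qPow hF (ρ * j r) = 1 := by
      rw [map_mul, hj, ← hρ, hr, map_pow]; ring
    refine ⟨⟨Units.mk0 (ρ * j r) (left_ne_zero_of_mul_eq_one hN), Units.ext ?_⟩, Subtype.ext (Units.ext ?_)⟩
    · rw [powMonoidHom_apply, Units.val_pow_eq_pow_val, Units.val_mk0, Units.val_one, pow_succ']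
      exact hN
    · rw [powMonoidHom_apply, SubmonoidClass.coe_pow, Units.val_pow_eq_pow_val, Units.val_mk0, hu, hd, map_pow,
        mul_pow]
  rw [splitClassCount_graphU hF hn hs, hD, IsCyclic.index_powMonoidHom_range,
    show Nat.card ↥(NormOne F q) = q + 1 from card_normOne_units hF, Nat.gcd_comm]

include hF hn hs in
/-- S2709. -/
theorem graph_splitting (hF₀ : Fintype.card F₀ = q) {γ : MulAut (Cfsg.PSU n F q)}
    (hγ : Cfsg.IsGraphAutClassPSU γ) (hγ2 : orderOf γ = 2) :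
    ((Even n ∧ Odd q ∧ Nonempty (↥(Cfsg.inndiagPSU n F q ⊓ Subgroup.centralizer {γ}) ≃* Cfsg.PGSp (n / 2) F₀)) →
      Cfsg.splitClassCount (Cfsg.inndiagPSU n F q) (Cfsg.Inn (Cfsg.PSU n F q)) γ = Nat.gcd (n / 2) (q + 1)) ∧
    ((Even n ∧ Odd q ∧ ¬ Nonempty (↥(Cfsg.inndiagPSU n F q ⊓ Subgroup.centralizer {γ}) ≃* Cfsg.PGSp (n / 2) F₀)) →
      Cfsg.splitClassCount (Cfsg.inndiagPSU n F q) (Cfsg.Inn (Cfsg.PSU n F q)) γ = Nat.gcd n (q + 1) / 2) ∧
    (¬ (Even n ∧ Odd q) →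
      Cfsg.splitClassCount (Cfsg.inndiagPSU n F q) (Cfsg.Inn (Cfsg.PSU n F q)) γ = Nat.gcd n (q + 1)) := by
  obtain ⟨j, hj, hj'⟩ := exists_embedding hF hF₀
  obtain ⟨g, B, rfl, hM, hB⟩ := exists_model_of_graph hF hn hs j hj' hγ hγ2
  obtain ⟨ec⟩ := central_iso hF hn hs j hj hj' hM
  have hodd : Odd q ↔ (2 : F₀) ≠ 0 := by
    rw [Classical.Quad.two_ne_zero_iff_odd, Nat.card_eq_fintype_card, hF₀]
  have key : Even n → (2 : F₀) ≠ 0 →
      (Congr (B : Matrix (Fin n) (Fin n) F₀) ((1 : F₀) • Matrix.J (Fin (n / 2)) F₀) ∧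
        Nonempty (↥(Cfsg.inndiagPSU n F q ⊓ Subgroup.centralizer ({graphU hF g} : Set (MulAut (Cfsg.PSU n F q)))) ≃* Cfsg.PGSp (n / 2) F₀)) ∨
      ((B : Matrix (Fin n) (Fin n) F₀)ᵀ = (B : Matrix (Fin n) (Fin n) F₀) ∧
        ¬ Nonempty (↥(Cfsg.inndiagPSU n F q ⊓ Subgroup.centralizer ({graphU hF g} : Set (MulAut (Cfsg.PSU n F q)))) ≃* Cfsg.PGSp (n / 2) F₀)) := by
    intro he h2
    have hn2 : 2 ≤ n := by omega
    have hnm : n = 2 * (n / 2) := by obtain ⟨k, rfl⟩ := he; omega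
    obtain ⟨ν, hν⟩ := CfsgLib.AutPSL.exists_nonsquare h2
    rcases CfsgLib.AutPSL.even_model_odd_char h2 (by omega) hnm hν hB with h | ⟨hs', h⟩ | ⟨hs', h⟩
    · refine Or.inl ⟨h, ?_⟩
      show Nonempty (_ ≃* Cfsg.projQuot (Cfsg.GSp _ F₀))
      rw [CfsgLib.AutPSL.GSp_eq]
      obtain ⟨e'⟩ := CfsgLib.AutPSL.centralizer_graphAut_model hn2 one_ne_zero h
      exact ⟨ec.trans e'⟩
    · refine Or.inr ⟨hs', ?_⟩
      rintro ⟨e⟩
      obtain ⟨e'⟩ := CfsgLib.AutPSL.centralizer_graphAut_model hn2 one_ne_zero h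
      rw [← CfsgLib.AutPSL.quadSimilarityGroup_eq h2 (CfsgLib.AutPSL.hypMat_transpose _)
        (CfsgLib.AutPSL.hypMat_quad _)] at e'
      have : Nonempty (Fin (n / 2)) := ⟨⟨0, by omega⟩⟩
      exact CfsgLib.AutPSL.not_PGSp (by omega) (fun c v => by
          simp only [Cfsg.quadFormPlus, Pi.smul_apply, smul_eq_mul, Finset.mul_sum]
          exact Finset.sum_congr rfl fun i _ => by ring)
        (CfsgLib.AutPSL.orth_lt_plus (by omega) h2) ⟨e'.symm.trans (ec.symm.trans e)⟩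
    · refine Or.inr ⟨hs', ?_⟩
      rintro ⟨e⟩
      obtain ⟨e'⟩ := CfsgLib.AutPSL.centralizer_graphAut_model hn2 one_ne_zero h
      rw [← CfsgLib.AutPSL.quadSimilarityGroup_eq h2 (CfsgLib.AutPSL.minusMat_transpose _ _)
        (CfsgLib.AutPSL.minusMat_quad _ _)] at e'
      exact CfsgLib.AutPSL.not_PGSp (by omega) (fun c v => by
          simp only [Cfsg.quadFormMinus, Pi.smul_apply, smul_eq_mul, mul_add, Finset.mul_sum]
          congr 1
          · exact Finset.sum_congr rfl fun i _ => by ring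
          · ring)
        (CfsgLib.AutPSL.orth_lt_minus (by omega) h2 hν) ⟨e'.symm.trans (ec.symm.trans e)⟩
  refine ⟨?_, ?_, ?_⟩
  · rintro ⟨he, hp, hiso⟩
    rcases key he (hodd.mp hp) with ⟨h, -⟩ | ⟨-, hno⟩
    · exact split_symplectic hF hn hs j hj hj' (by omega) (by obtain ⟨k, rfl⟩ := he; omega) hM h
    · exact absurd hiso hno
  · rintro ⟨he, hp, hiso⟩
    rcases key he (hodd.mp hp) with ⟨-, h⟩ | ⟨h, -⟩
    · exact absurd h hiso
    · exact split_symmetric hF hn hs j hj hj' hp (hodd.mp hp) (m := n / 2) (by obtain ⟨k, rfl⟩ := he; omega) hM h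
  · intro h
    refine split_other hF hn hs j hj hj' ?_ hM
    by_cases he : Even n
    · exact Or.inr (by by_contra h2; exact h ⟨he, hodd.mpr h2⟩)
    · exact Or.inl (Nat.not_even_iff_odd.mp he)

end CfsgLib.AutPSU
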